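import Mathlib
import Cfsg.Agent.H74.W2PDefs
import Cfsg.Agent.H61.W2PBase
import Cfsg.Agent.H61.W2PProj
import Cfsg.Agent.H61.W2PLA13

set_option autoImplicit false
set_option linter.unusedSectionVars false

/-!
# S0720 (Wielandt, degree 2p), sub-piece LA10-GAL (helper61)
-/

namespace Cfsg.Agent.H61.W2P

open Cfsg.Agent.H74.W2P Equiv MulAction

variable {Ω : Type*} [Fintype Ω] [DecidableEq Ω]

theorem wch_add (x : Perm Ω) (a₀ b₀ : Ω) (p : ℕ) (A A' : Matrix Ω Ω ℂ) (h : ZMod p) :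
    wch x a₀ b₀ p (A + A') h = wch x a₀ b₀ p A h + wch x a₀ b₀ p A' h := by
  unfold wch
  simp only [Matrix.add_apply, add_mul, Finset.sum_add_distrib]
  ring

theorem wch_smul (x : Perm Ω) (a₀ b₀ : Ω) (p : ℕ) (c : ℂ) (A : Matrix Ω Ω ℂ) (h : ZMod p) :
    wch x a₀ b₀ p (c • A) h = c * wch x a₀ b₀ p A h := by
  unfold wch
  simp only [Matrix.smul_apply, smul_eq_mul, mul_sub, Finset.mul_sum]
  congr 1
  · apply Finset.sum_congr rfl
    intro z _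
    ring
  · apply Finset.sum_congr rfl
    intro j _
    ring

theorem wch_J_ne {G : Subgroup (Perm Ω)} {p : ℕ} {x : Perm Ω} (hyp : Hyp G p x) (a₀ b₀ : Ω)
    (h : ZMod p) (hh : h ≠ 0) : wch x a₀ b₀ p (Matrix.of fun _ _ => (1 : ℂ)) h = 0 := by
  have hp0 := hyp.hp.ne_zero
  have hpne : NeZero p := ⟨hp0⟩
  unfold wch
  simp only [Matrix.of_apply, one_mul]
  rw [sum_sig hyp a₀, sub_zero, ← Finset.mul_sum]
  have hprim : IsPrimitiveRoot (zeta p ^ h.val) p := by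
    apply IsPrimitiveRoot.pow_of_coprime (zeta_prim hp0)
    apply Nat.Coprime.symm
    rw [Nat.Prime.coprime_iff_not_dvd hyp.hp]
    intro hdvd
    have h1 := ZMod.val_lt h
    have h2 : h.val ≠ 0 := by rwa [Ne, ZMod.val_eq_zero]
    have h3 := Nat.le_of_dvd (Nat.pos_of_ne_zero h2) hdvd
    omega
  have h4 := hprim.geom_sum_eq_zero hyp.hp.one_lt
  simp only [← pow_mul] at h4
  rw [h4, mul_zero]

theorem wch_J_zero {G : Subgroup (Perm Ω)} {p : ℕ} {x : Perm Ω} (hyp : Hyp G p x) (a₀ b₀ : Ω) :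
    wch x a₀ b₀ p (Matrix.of fun _ _ => (1 : ℂ)) 0 = 2 * p := by
  unfold wch
  simp only [Matrix.of_apply, one_mul, ZMod.val_zero, zero_mul, pow_zero, mul_one]
  rw [sum_sig hyp a₀, sub_zero, Finset.sum_const, Finset.card_range]
  simp
  ring

theorem wch_int_zero (x : Perm Ω) (a₀ b₀ : Ω) (p : ℕ) (B : Matrix Ω Ω ℤ) :
    ∃ m : ℤ, wch x a₀ b₀ p (B.map (Int.cast : ℤ → ℂ)) 0 = m := by
  refine ⟨(∑ z ∈ Finset.range p, (B a₀ ((x ^ z) a₀) + B b₀ ((x ^ z) b₀))) -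
    ∑ j, B a₀ j * (if x.SameCycle a₀ j then 1 else -1), ?_⟩
  unfold wch sig
  simp only [Matrix.map_apply, ZMod.val_zero, zero_mul, pow_zero, mul_one]
  push_cast
  congr 1

theorem aval_int (x : Perm Ω) (a₀ : Ω) (B : Matrix Ω Ω ℤ) :
    ∃ m : ℤ, ∑ j, (B.map (Int.cast : ℤ → ℂ)) a₀ j * sig x a₀ j = m := by
  refine ⟨∑ j, B a₀ j * (if x.SameCycle a₀ j then 1 else -1), ?_⟩
  unfold sig
  simp only [Matrix.map_apply]
  push_cast
  apply Finset.sum_congr rfl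
  intro j _
  split_ifs <;> simp

/-- **S0720-LA10-GAL**. -/
theorem a_eq_wch_all {G : Subgroup (Perm Ω)} {p : ℕ} {x : Perm Ω} (hyp : Hyp G p x) (a₀ b₀ : Ω)
    (hb₀ : ¬ x.SameCycle a₀ b₀) (htr : Transfer x a₀ b₀ p) (hspan : SpanInt G)
    (h₀ : ZMod p) (hh₀ : h₀ ≠ 0)
    (heq : ∀ A : Matrix Ω Ω ℂ, CentC G A → wch x a₀ b₀ p A h₀ = ∑ j, A a₀ j * sig x a₀ j) :
    ∀ A : Matrix Ω Ω ℂ, CentC G A → ∀ h : ZMod p, h ≠ 0 →
      wch x a₀ b₀ p A h = ∑ j, A a₀ j * sig x a₀ j := by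
  have hp0 := hyp.hp.ne_zero
  have hfact : Fact p.Prime := ⟨hyp.hp⟩
  have key : ∀ B : Matrix Ω Ω ℤ, Cent G B → ∀ h : ZMod p, h ≠ 0 →
      wch x a₀ b₀ p (B.map (Int.cast : ℤ → ℂ)) h =
        ∑ j, (B.map (Int.cast : ℤ → ℂ)) a₀ j * sig x a₀ j := by
    intro B hB h hh
    obtain ⟨m0, hm0⟩ := wch_int_zero x a₀ b₀ p B
    obtain ⟨ma, hma⟩ := aval_int x a₀ B
    have hBC : CentC G (B.map (Int.cast : ℤ → ℂ)) := by
      intro g hg i j
      simp only [Matrix.map_apply, hB g hg i j]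
    have hBh₀ := heq _ hBC
    let B' : Matrix Ω Ω ℤ := (2 * (p : ℤ)) • B + (ma - m0) • (Matrix.of fun _ _ => (1 : ℤ))
    have hB' : B'.map (Int.cast : ℤ → ℂ) = (2 * (p : ℂ)) • B.map (Int.cast : ℤ → ℂ) +
        ((ma : ℂ) - m0) • (Matrix.of fun _ _ => (1 : ℂ)) := by
      ext i j
      show ((((2 * (p : ℤ)) • B + (ma - m0) • (Matrix.of fun _ _ => (1 : ℤ)) : Matrix Ω Ω ℤ) i j : ℤ) : ℂ) = _
      rw [Matrix.add_apply, Matrix.smul_apply, Matrix.smul_apply, Matrix.add_apply,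
        Matrix.smul_apply, Matrix.smul_apply]
      simp only [Matrix.of_apply, Matrix.map_apply, smul_eq_mul]
      push_cast
      ring
    have hw : ∀ h' : ZMod p, wch x a₀ b₀ p (B'.map (Int.cast : ℤ → ℂ)) h' =
        2 * p * wch x a₀ b₀ p (B.map (Int.cast : ℤ → ℂ)) h' +
          ((ma : ℂ) - m0) * wch x a₀ b₀ p (Matrix.of fun _ _ => (1 : ℂ)) h' := by
      intro h'
      rw [hB', wch_add, wch_smul, wch_smul]
    have h1 : wch x a₀ b₀ p (B'.map (Int.cast : ℤ → ℂ)) 0 =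
        wch x a₀ b₀ p (B'.map (Int.cast : ℤ → ℂ)) h₀ := by
      rw [hw, hw, wch_J_zero hyp, wch_J_ne hyp a₀ b₀ h₀ hh₀, hBh₀, hma, hm0]
      ring
    have hk : h * h₀⁻¹ ≠ 0 := mul_ne_zero hh (inv_ne_zero hh₀)
    have h2 := htr B' 0 h₀ (h * h₀⁻¹) hk h1
    rw [mul_zero, mul_assoc, inv_mul_cancel₀ hh₀, mul_one] at h2
    rw [hw, hw, wch_J_zero hyp, wch_J_ne hyp a₀ b₀ h hh, hm0, mul_zero, add_zero] at h2
    rw [hma]
    have h2p : (2 * (p : ℂ)) ≠ 0 := mul_ne_zero two_ne_zero (Nat.cast_ne_zero.2 hp0)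
    apply mul_left_cancel₀ h2p
    rw [← h2]
    ring
  have main : ∀ A ∈ Submodule.span ℂ
      {A | ∃ B : Matrix Ω Ω ℤ, Cent G B ∧ A = B.map (Int.cast : ℤ → ℂ)},
      ∀ h : ZMod p, h ≠ 0 → wch x a₀ b₀ p A h = ∑ j, A a₀ j * sig x a₀ j := by
    intro A hA
    induction hA using Submodule.span_induction with
    | mem A hA' =>
      obtain ⟨B, hB, rfl⟩ := hA'
      exact key B hB
    | zero =>
      intro h hh
      simp [wch]
    | add A A' _ _ ih ih' =>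
      intro h hh
      rw [wch_add, ih h hh, ih' h hh]
      simp [Matrix.add_apply, add_mul, Finset.sum_add_distrib]
    | smul c A _ ih =>
      intro h hh
      rw [wch_smul, ih h hh]
      simp [Matrix.smul_apply, Finset.mul_sum, mul_assoc]
  intro A hA
  have hAmem : A ∈ centSub G := hA
  unfold SpanInt at hspan
  rw [hspan] at hAmem
  exact main A hAmem

end Cfsg.Agent.H61.W2P
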