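import Mathlib

set_option autoImplicit false

namespace Cfsg.Agent.H61

/-- Coset enumeration bound: if a finite family `c` of cosets of `H` contains the trivial coset and
is closed under left multiplication by a generating set of elements of finite order, then it
contains every coset. -/
theorem coset_family_surjective {P : Type*} [Group P] (H : Subgroup P) (S : Set P)
    (hS : Subgroup.closure S = ⊤) (hfin : ∀ s ∈ S, IsOfFinOrder s)
    {ι : Type*} (c : ι → P ⧸ H) (h0 : ∃ i, c i = ((1 : P) : P ⧸ H))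
    (hc : ∀ s ∈ S, ∀ i, ∃ j, s • c i = c j) : Function.Surjective c := by
  have hpow : ∀ s ∈ S, ∀ n : ℕ, ∀ i, ∃ j, (s ^ n) • c i = c j := by
    intro s hs n
    induction n with
    | zero => intro i; exact ⟨i, by rw [pow_zero, one_smul]⟩
    | succ n ih =>
      intro i
      obtain ⟨j, hj⟩ := hc s hs i
      obtain ⟨k, hk⟩ := ih j
      exact ⟨k, by rw [pow_succ, mul_smul, hj, hk]⟩
  have key : ∀ g : P, (∀ i, ∃ j, g • c i = c j) ∧ (∀ i, ∃ j, g⁻¹ • c i = c j) := by
    intro g
    have hg : g ∈ Subgroup.closure S := by rw [hS]; trivial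
    induction hg using Subgroup.closure_induction with
    | mem s hs =>
      refine ⟨hc s hs, ?_⟩
      obtain ⟨n, hn, hsn⟩ := (isOfFinOrder_iff_pow_eq_one).1 (hfin s hs)
      have hinv : s⁻¹ = s ^ (n - 1) := by
        rw [inv_eq_iff_mul_eq_one, ← pow_succ']
        have : n - 1 + 1 = n := by omega
        rw [this, hsn]
      rw [hinv]
      exact hpow s hs (n - 1)
    | one =>
      refine ⟨fun i => ⟨i, one_smul _ _⟩, fun i => ⟨i, by rw [inv_one, one_smul]⟩⟩
    | mul a b _ _ iha ihb =>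
      refine ⟨fun i => ?_, fun i => ?_⟩
      · obtain ⟨j, hj⟩ := ihb.1 i
        obtain ⟨k, hk⟩ := iha.1 j
        exact ⟨k, by rw [mul_smul, hj, hk]⟩
      · obtain ⟨j, hj⟩ := iha.2 i
        obtain ⟨k, hk⟩ := ihb.2 j
        exact ⟨k, by rw [mul_inv_rev, mul_smul, hj, hk]⟩
    | inv a _ iha =>
      exact ⟨iha.2, by rw [inv_inv]; exact iha.1⟩
  intro q
  obtain ⟨g, rfl⟩ := QuotientGroup.mk_surjective q
  obtain ⟨i, hi⟩ := h0
  obtain ⟨j, hj⟩ := (key g).1 i
  refine ⟨j, ?_⟩
  rw [← hj, hi]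
  show (↑(g * 1) : P ⧸ H) = ↑g
  rw [mul_one]

/-- Order bound from a coset enumeration: `|P| ≤ m * k` if `H` has at most `k` elements and there
are at most `m` cosets. -/
theorem finite_and_card_le_of_cosets {P : Type*} [Group P] (H : Subgroup P) [Finite H]
    (S : Set P) (hS : Subgroup.closure S = ⊤) (hfin : ∀ s ∈ S, IsOfFinOrder s)
    (m k : ℕ) (hk : Nat.card H ≤ k)
    (c : Fin m → P ⧸ H) (h0 : ∃ i, c i = ((1 : P) : P ⧸ H))
    (hc : ∀ s ∈ S, ∀ i, ∃ j, s • c i = c j) : Finite P ∧ Nat.card P ≤ m * k := by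
  have hsurj := coset_family_surjective H S hS hfin c h0 hc
  have hfinQ : Finite (P ⧸ H) := Finite.of_surjective c hsurj
  have hfinP : Finite P := Finite.of_equiv _ (Subgroup.groupEquivQuotientProdSubgroup (s := H)).symm
  refine ⟨hfinP, ?_⟩
  have h1 : Nat.card (P ⧸ H) ≤ m := by
    have := Nat.card_le_card_of_surjective c hsurj
    simpa using this
  rw [Subgroup.card_eq_card_quotient_mul_card_subgroup H]
  exact Nat.mul_le_mul h1 hk

end Cfsg.Agent.H61
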