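import Cfsg.Agent.H26.AIC.Basic

/-!
helper61: piece S2202-OG (helper26's project): in a group whose involution centralizers are
commutative, a normal subgroup of odd order centralizes every involution lying in a four-group.
-/

set_option autoImplicit false
set_option linter.style.haveILetI false
set_option linter.unusedSectionVars false
set_option linter.unusedVariables false

namespace Cfsg.Agent.H61.AIC

open Subgroup Cfsg.Agent.H26 Cfsg.Agent.H26.AIC

variable {G : Type*} [Group G] [Finite G]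

/-- Fitting-type decomposition for an involutive automorphism acting on a subgroup all of
whose elements have odd order: `y = y0 * z` with `y0` fixed and `z` inverted. -/
theorem factA (σ : G ≃* G) (hσ : ∀ g, σ (σ g) = g) (Y : Subgroup G) (hYσ : ∀ y ∈ Y, σ y ∈ Y)
    (hoddel : ∀ y ∈ Y, Odd (orderOf y)) {y : G} (hy : y ∈ Y) :
    ∃ y0 z : G, y0 ∈ Y ∧ z ∈ Y ∧ y = y0 * z ∧ σ y0 = y0 ∧ σ z = z⁻¹ := by
  obtain ⟨x, hx⟩ : ∃ x, x = y⁻¹ * σ y := ⟨_, rfl⟩
  have hxY : x ∈ Y := by rw [hx]; exact Y.mul_mem (Y.inv_mem hy) (hYσ y hy)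
  have hσx : σ x = x⁻¹ := by rw [hx, map_mul, map_inv, hσ, mul_inv_rev, inv_inv]
  obtain ⟨k, hk⟩ := hoddel x hxY
  obtain ⟨r, hr⟩ : ∃ r, r = x ^ (k + 1) := ⟨_, rfl⟩
  have hrr : r * r = x := by
    rw [hr, ← pow_add, show k + 1 + (k + 1) = orderOf x + 1 by omega, pow_succ,
      pow_orderOf_eq_one, one_mul]
  have hrY : r ∈ Y := by rw [hr]; exact Y.pow_mem hxY _
  have hσr : σ r = r⁻¹ := by rw [hr, map_pow, hσx, inv_pow]
  have hσy : σ y = y * (r * r) := by rw [hrr, hx]; group
  refine ⟨y * r, r⁻¹, Y.mul_mem hy hrY, Y.inv_mem hrY, by group, ?_, ?_⟩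
  · rw [map_mul, hσy, hσr]; group
  · rw [map_inv, hσr]

/-- Piece S2202-OG. -/
theorem odd_normal_le_cent (hH : Hyp G) {u v : G} (hu : orderOf u = 2) (hv : orderOf v = 2)
    (huv : u * v = v * u) (hne : u ≠ v) (Y : Subgroup G) (hY : Y.Normal) (hodd : Odd (Nat.card Y)) :
    ∀ y ∈ Y, y * u = u * y := by
  have hoddel : ∀ y ∈ Y, Odd (orderOf y) := fun y hy =>
    Odd.of_dvd_nat hodd (Subgroup.orderOf_dvd_natCard Y hy)
  have huu : u * u = 1 := by rw [← pow_two, ← hu, pow_orderOf_eq_one]
  have hvv : v * v = 1 := by rw [← pow_two, ← hv, pow_orderOf_eq_one]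
  have hσu : ∀ g, MulAut.conj u (MulAut.conj u g) = g := by
    intro g; rw [← MulAut.mul_apply, ← map_mul, huu, map_one, MulAut.one_apply]
  have hσv : ∀ g, MulAut.conj v (MulAut.conj v g) = g := by
    intro g; rw [← MulAut.mul_apply, ← map_mul, hvv, map_one, MulAut.one_apply]
  have hcomm : ∀ g, MulAut.conj u (MulAut.conj v g) = MulAut.conj v (MulAut.conj u g) := by
    intro g; rw [← MulAut.mul_apply, ← MulAut.mul_apply, ← map_mul, ← map_mul, huv]
  have hYu : ∀ y ∈ Y, MulAut.conj u y ∈ Y := fun y hy => by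
    rw [MulAut.conj_apply]; exact hY.conj_mem y hy u
  have hYv : ∀ y ∈ Y, MulAut.conj v y ∈ Y := fun y hy => by
    rw [MulAut.conj_apply]; exact hY.conj_mem y hy v
  have fix_iff : ∀ a g : G, MulAut.conj a g = g ↔ g * a = a * g := by
    intro a g; rw [MulAut.conj_apply, mul_inv_eq_iff_eq_mul]; exact eq_comm
  have hw : orderOf (u * v) = 2 := by
    haveI : Fact (Nat.Prime 2) := ⟨Nat.prime_two⟩
    apply orderOf_eq_prime
    · rw [pow_two]
      calc u * v * (u * v) = u * (v * u) * v := by group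
        _ = u * (u * v) * v := by rw [huv]
        _ = (u * u) * (v * v) := by group
        _ = 1 := by rw [huu, hvv, one_mul]
    · intro h
      apply hne
      have h1 : u = v⁻¹ := eq_inv_of_mul_eq_one_left h
      rw [h1]
      exact inv_eq_of_mul_eq_one_right hvv
  have sq_one : ∀ g ∈ Y, g * g = 1 → g = 1 := by
    intro g hg h
    have hd : orderOf g ∣ 2 := orderOf_dvd_of_pow_eq_one (by rw [pow_two]; exact h)
    rcases (Nat.dvd_prime Nat.prime_two).mp hd with h1 | h2
    · exact orderOf_eq_one_iff.mp h1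
    · exfalso
      have := hoddel g hg
      rw [h2] at this
      exact absurd this (by decide)
  have claimB : ∀ y ∈ Y, MulAut.conj u y = y⁻¹ → y = 1 := by
    intro y hy hinv
    obtain ⟨y0, z, hy0, hz, rfl, h0, hzv⟩ := factA (MulAut.conj v) hσv Y hYv hoddel hy
    have h0u : MulAut.conj u y0 = y0 := by
      rw [fix_iff] at h0 ⊢
      exact hH v hv y0 u h0 huv
    have e1 : MulAut.conj u z = y0⁻¹ * z⁻¹ * y0⁻¹ := by
      rw [map_mul, h0u, mul_inv_rev] at hinv
      rw [mul_assoc, ← hinv]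
      group
    have e2 : y0⁻¹ * z * y0⁻¹ = y0 * z * y0 := by
      have h1 : MulAut.conj v (MulAut.conj u z) = (MulAut.conj u z)⁻¹ := by
        rw [← hcomm, hzv, map_inv]
      rw [e1, map_mul, map_mul, map_inv, map_inv, h0, hzv, inv_inv] at h1
      rw [h1]
      group
    have e3 : z * (y0 * y0) * z⁻¹ = (y0 * y0)⁻¹ := by
      have h1 : z = y0 * y0 * z * (y0 * y0) := by
        calc z = y0 * (y0⁻¹ * z * y0⁻¹) * y0 := by group
          _ = y0 * (y0 * z * y0) * y0 := by rw [e2]
          _ = y0 * y0 * z * (y0 * y0) := by group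
      rw [mul_inv_eq_iff_eq_mul]
      calc z * (y0 * y0) = (y0 * y0)⁻¹ * (y0 * y0 * z * (y0 * y0)) := by group
        _ = (y0 * y0)⁻¹ * z := by rw [← h1]
    have hq : (y0 * y0) * (y0 * y0) = 1 := by
      obtain ⟨k, hk⟩ := hoddel z hz
      have e4 : z * (y0 * y0) = (y0 * y0)⁻¹ * z := mul_inv_eq_iff_eq_mul.mp e3
      have e5 : z * (y0 * y0)⁻¹ = (y0 * y0) * z := by
        calc z * (y0 * y0)⁻¹ = (y0 * y0) * ((y0 * y0)⁻¹ * z) * (y0 * y0)⁻¹ := by group
          _ = (y0 * y0) * (z * (y0 * y0)) * (y0 * y0)⁻¹ := by rw [e4]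
          _ = (y0 * y0) * z := by group
      have hzz : Commute (z * z) (y0 * y0) := by
        show z * z * (y0 * y0) = y0 * y0 * (z * z)
        calc z * z * (y0 * y0) = z * (z * (y0 * y0)) := by group
          _ = z * ((y0 * y0)⁻¹ * z) := by rw [e4]
          _ = (z * (y0 * y0)⁻¹) * z := by group
          _ = (y0 * y0) * z * z := by rw [e5]
          _ = y0 * y0 * (z * z) := by group
      have hzpow : (z * z) ^ (k + 1) = z := by
        rw [← pow_two, ← pow_mul, show 2 * (k + 1) = orderOf z + 1 by omega, pow_succ,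
          pow_orderOf_eq_one, one_mul]
      have hzc : Commute z (y0 * y0) := by
        rw [← hzpow]
        exact hzz.pow_left _
      have h2 : z * (y0 * y0) * z⁻¹ = y0 * y0 := by
        rw [hzc.eq]
        group
      rw [e3] at h2
      calc (y0 * y0) * (y0 * y0) = (y0 * y0) * (y0 * y0)⁻¹ := by rw [h2]
        _ = 1 := mul_inv_cancel _
    have hy01 : y0 = 1 := sq_one y0 hy0 (sq_one (y0 * y0) (Y.mul_mem hy0 hy0) hq)
    have hzu : MulAut.conj u z = z⁻¹ := by
      rw [e1, hy01]
      group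
    have hzw : MulAut.conj (u * v) z = z := by
      rw [map_mul, MulAut.mul_apply, hzv, map_inv, hzu, inv_inv]
    have hzu' : MulAut.conj u z = z := by
      rw [fix_iff] at hzw ⊢
      refine hH (u * v) hw z u hzw ?_
      calc u * (u * v) = u * (v * u) := by rw [huv]
        _ = u * v * u := by group
    have hz1 : z = 1 := by
      apply sq_one z hz
      have h3 : z = z⁻¹ := hzu'.symm.trans hzu
      calc z * z = z * z⁻¹ := by rw [← h3]
        _ = 1 := mul_inv_cancel z
    rw [hy01, hz1, mul_one]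
  intro y hy
  obtain ⟨y0, z, hy0, hz, rfl, h0, hzu⟩ := factA (MulAut.conj u) hσu Y hYu hoddel hy
  have hz1 := claimB z hz hzu
  rw [hz1, mul_one]
  exact (fix_iff u y0).mp h0

end Cfsg.Agent.H61.AIC
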