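import Cfsg.Agent.H26.AIC.L1

/-!
helper61: piece S2202-COUNT (helper26's project): the counting lemma in the centralizer of an
odd subgroup `K ≤ C_G(P)`.
-/

set_option autoImplicit false
set_option linter.style.haveILetI false
set_option linter.unusedSectionVars false
set_option linter.unusedVariables false

namespace Cfsg.Agent.H61.AIC

open Subgroup Cfsg.Agent.H26 Cfsg.Agent.H26.AIC

variable {G : Type*} [Group G] [Finite G]

/-- Sylow's theorem inside a subgroup `L ≥ P`: every involution of `L` is `L`-conjugate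
into `P`. -/
theorem exists_conj_mem_of_le (P : Sylow 2 G) (L : Subgroup G) (hPL : (P : Subgroup G) ≤ L)
    {v : G} (hv : orderOf v = 2) (hvL : v ∈ L) : ∃ x ∈ L, x⁻¹ * v * x ∈ (P : Subgroup G) := by
  haveI : Fact (Nat.Prime 2) := ⟨Nat.prime_two⟩
  have hpg : IsPGroup 2 (Subgroup.zpowers (⟨v, hvL⟩ : ↥L)) := by
    apply IsPGroup.of_card (n := 1)
    rw [Nat.card_zpowers, pow_one, ← hv]
    exact Subgroup.orderOf_mk v hvL
  obtain ⟨Q', hQ'⟩ := hpg.exists_le_sylow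
  obtain ⟨x, hx⟩ := MulAction.exists_smul_eq ↥L (P.subtype hPL) Q'
  have h1 : (⟨v, hvL⟩ : ↥L) ∈ ((x • P.subtype hPL : Sylow 2 ↥L) : Subgroup ↥L) := by
    rw [hx]
    exact hQ' (Subgroup.mem_zpowers _)
  rw [mem_smul_syl, Sylow.coe_subtype, Subgroup.mem_subgroupOf] at h1
  exact ⟨x, x.2, h1⟩

/-- Piece S2202-COUNT. -/
theorem nti_count (hH : Hyp G) (P : Sylow 2 G) (hP : Good P) (K : Subgroup G) (hKM : K ≤ MT P)
    (hodd : Odd (Nat.card K)) (hne : Subgroup.centralizer (K : Set G) ≠ ⊤)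
    (hNT : NT P ≤ Subgroup.centralizer (K : Set G)) :
    ∃ (D : Subgroup G) (J : Set G), D ≤ Subgroup.centralizer (K : Set G) ∧ Odd (Nat.card D) ∧
      J ⊆ (D : Set G) ∧
      Nat.card J = Nat.card {t : G // orderOf t = 2 ∧ t ∈ Subgroup.centralizer (K : Set G)} ∧
      ∀ d ∈ J, ∀ d' ∈ J, d⁻¹ * d' ∈ K → d = d' := by
  obtain ⟨Hh, hHh⟩ : ∃ Hh : Subgroup G, Hh = Subgroup.centralizer (K : Set G) := ⟨_, rfl⟩
  rw [← hHh] at hne hNT ⊢
  have hPH : (P : Subgroup G) ≤ Hh := by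
    intro s hs
    rw [hHh, Subgroup.mem_centralizer_iff]
    intro k hk
    exact ((mem_MT P k).mp (hKM hk) s hs).symm
  have hse : Cfsg.IsStronglyEmbedded Hh := by
    refine ⟨hne, ?_, ?_⟩
    · obtain ⟨u, ho, hu⟩ := exists_inv_mem (good_ne_bot hP)
      exact even_card_of_inv_mem Hh ho (hPH hu)
    · intro g hg
      by_contra hodd'
      rw [Nat.not_odd_iff_even] at hodd'
      obtain ⟨s, hs, hso⟩ := exists_inv_of_even_card _ hodd'
      have hs2 : g⁻¹ * s * g ∈ Hh := (mem_map_conj_iff _ g s).mp hs.2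
      have hso2 : orderOf (g⁻¹ * s * g) = 2 := by
        have := orderOf_conj_eq g⁻¹ s
        rw [inv_inv] at this
        rw [this, hso]
      obtain ⟨x, hx, hxP⟩ := exists_conj_mem_of_le P Hh hPH hso hs.1
      obtain ⟨y, hy, hyP⟩ := exists_conj_mem_of_le P Hh hPH hso2 hs2
      have m1 : s ∈ ((x • P : Sylow 2 G) : Subgroup G) := (mem_smul_syl x P s).mpr hxP
      have m2 : s ∈ (((g * y) • P : Sylow 2 G) : Subgroup G) := by
        rw [mem_smul_syl]
        have e : (g * y)⁻¹ * s * (g * y) = y⁻¹ * (g⁻¹ * s * g) * y := by group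
        rw [e]
        exact hyP
      have heq := syl_eq_of_inv_mem hH (x • P) ((g * y) • P) hso m1 m2
      have h3 : (x⁻¹ * (g * y)) • P = P := by
        rw [mul_smul, ← heq, inv_smul_smul]
      have h4 : x⁻¹ * (g * y) ∈ Hh := hNT ((smul_syl_eq_iff _ P).mp h3)
      apply hg
      have e : g = x * (x⁻¹ * (g * y)) * y⁻¹ := by group
      rw [e]
      exact Hh.mul_mem (Hh.mul_mem hx h4) (Hh.inv_mem hy)
  obtain ⟨g, hg⟩ : ∃ g, g ∉ Hh := by
    by_contra h
    push Not at h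
    exact hne (eq_top_iff.mpr (fun x _ => h x))
  have hcard := se_card_swap hse hg
  have hpos : 0 < Nat.card {t : G // orderOf t = 2 ∧ t ∈ Hh} := by
    obtain ⟨t, ht1, ht2⟩ := se_exists_inv hse
    have : Nonempty {t : G // orderOf t = 2 ∧ t ∈ Hh} := ⟨⟨t, ht1, ht2⟩⟩
    exact Nat.card_pos
  rw [← hcard] at hpos
  obtain ⟨⟨t, ht, htg⟩⟩ := (Nat.card_pos_iff.mp hpos).1
  have htH : t ∉ Hh := by
    intro h
    apply hg
    have := Hh.mul_mem h htg
    simpa using this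
  have htt : t * t = 1 := inv_sq ht
  have htinv : t⁻¹ = t := inv_inv_eq ht
  have hinvol : ∀ d : G, d ∈ Hh → t * d * t⁻¹ = d⁻¹ → orderOf (t * d) = 2 := by
    intro d hd hdinv
    apply orderOf_eq_two_of
    · calc t * d * (t * d) = (t * d * t⁻¹) * (t * t) * d := by group
        _ = 1 := by rw [hdinv, htt]; group
    · intro h
      apply htH
      have h1 : t = d⁻¹ := eq_inv_of_mul_eq_one_left h
      rw [h1]
      exact Hh.inv_mem hd
  refine ⟨Dg Hh t, {d | d ∈ Hh ∧ t * d * t⁻¹ = d⁻¹}, inf_le_left, hse.2.2 t htH, ?_, ?_, ?_⟩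
  · rintro d ⟨hd, hdinv⟩
    show d ∈ Dg Hh t
    rw [mem_Dg]
    refine ⟨hd, ?_⟩
    have e : t⁻¹ * d * t = t * d * t⁻¹ := by rw [htinv]
    rw [e, hdinv]
    exact Hh.inv_mem hd
  · rw [← se_card_swap hse htH]
    refine Nat.card_congr ⟨fun d => ⟨t * d.1, ?_, ?_⟩, fun i => ⟨t⁻¹ * i.1, ?_, ?_⟩, ?_, ?_⟩
    · exact hinvol d.1 d.2.1 d.2.2
    · have e : (t * d.1)⁻¹ * t = d.1⁻¹ := by group
      rw [e]
      exact Hh.inv_mem d.2.1
    · have e : t⁻¹ * i.1 = (i.1⁻¹ * t)⁻¹ := by group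
      rw [e]
      exact Hh.inv_mem i.2.2
    · have e1 : t * (t⁻¹ * i.1) * t⁻¹ = i.1 * t⁻¹ := by group
      have e2 : (t⁻¹ * i.1)⁻¹ = i.1⁻¹ * t := by group
      rw [e1, e2, inv_inv_eq i.2.1, htinv]
    · intro d
      apply Subtype.ext
      exact inv_mul_cancel_left t d.1
    · intro i
      apply Subtype.ext
      exact mul_inv_cancel_left t i.1
  · rintro d ⟨hd, hdinv⟩ d' ⟨hd', hdinv'⟩ hc
    have ha2 := hinvol d hd hdinv
    have hac : (t * d) * (d⁻¹ * d') = t * d' := by group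
    have h1 : t * d' * (t * d') = 1 := inv_sq (hinvol d' hd' hdinv')
    have h2 : (t * d) * (d⁻¹ * d') * (t * d) * (d⁻¹ * d') = 1 := by
      rw [mul_assoc ((t * d) * (d⁻¹ * d')), hac]
      exact h1
    have h3 : (t * d) * (d⁻¹ * d') * (t * d) = (d⁻¹ * d')⁻¹ := eq_inv_of_mul_eq_one_left h2
    have hinv : (t * d) * (d⁻¹ * d') * (t * d)⁻¹ = (d⁻¹ * d')⁻¹ := by
      rw [inv_inv_eq ha2]
      exact h3
    have hcc : (d⁻¹ * d') * (d⁻¹ * d') = 1 := no_invert hH P (hKM hc) ha2 hinv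
    have hc1 : d⁻¹ * d' = 1 := by
      have hd2 : orderOf (d⁻¹ * d') ∣ 2 :=
        orderOf_dvd_of_pow_eq_one (by rw [pow_two]; exact hcc)
      have hoc : Odd (orderOf (d⁻¹ * d')) :=
        Odd.of_dvd_nat hodd (Subgroup.orderOf_dvd_natCard K hc)
      rcases (Nat.dvd_prime Nat.prime_two).mp hd2 with h | h
      · exact orderOf_eq_one_iff.mp h
      · exfalso
        rw [h] at hoc
        exact absurd hoc (by decide)
    exact inv_mul_eq_one.mp hc1

end Cfsg.Agent.H61.AIC
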