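import Cfsg.Agent.H26.AIC.L1

/-!
helper61: piece S2202-SPLIT (helper26's project): a central subgroup `N` with `G = G'·N`, such
that the Sylow `p`-subgroups of `G ⧸ N` are cyclic for the primes `p` dividing `|N|`, is a
direct factor: `G ≃* (G ⧸ N) × N`.
-/

set_option autoImplicit false
set_option linter.style.haveILetI false
set_option linter.unusedSectionVars false
set_option linter.unusedVariables false

namespace Cfsg.Agent.H61.AIC

open Subgroup Cfsg.Agent.H26 Cfsg.Agent.H26.AIC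

/-- Under the hypotheses of `central_split`, `N` meets the commutator subgroup trivially. -/
theorem central_inf_commutator {G : Type*} [Group G] [Finite G] (N : Subgroup G) [N.Normal]
    (hN : N ≤ Subgroup.center G)
    (hcyc : ∀ (p : ℕ) [Fact p.Prime], p ∣ Nat.card N →
      ∀ Q : Sylow p (G ⧸ N), IsCyclic (Q : Subgroup (G ⧸ N))) :
    ∀ z ∈ N, z ∈ commutator G → z = 1 := by
  intro z hzN hzC
  by_contra hz1
  have ho : orderOf z ≠ 1 := fun h => hz1 (orderOf_eq_one_iff.mp h)
  obtain ⟨p, hp, hpz⟩ := Nat.exists_prime_and_dvd ho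
  haveI : Fact p.Prime := ⟨hp⟩
  obtain ⟨w, hw⟩ : ∃ w, w = z ^ (orderOf z / p) := ⟨_, rfl⟩
  have hwo : orderOf w = p := by
    rw [hw]; exact orderOf_pow_orderOf_div (orderOf_pos z).ne' hpz
  have hwN : w ∈ N := by rw [hw]; exact N.pow_mem hzN _
  have hwC : w ∈ commutator G := by rw [hw]; exact (commutator G).pow_mem hzC _
  have hpN : p ∣ Nat.card N := by rw [← hwo]; exact Subgroup.orderOf_dvd_natCard N hwN
  have hpg : IsPGroup p (Subgroup.zpowers w) := by
    apply IsPGroup.of_card (n := 1)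
    rw [Nat.card_zpowers, hwo, pow_one]
  obtain ⟨R, hR⟩ := hpg.exists_le_sylow
  have hwR : w ∈ (R : Subgroup G) := hR (Subgroup.mem_zpowers w)
  have hRcomm : ∀ a ∈ (R : Subgroup G), ∀ b ∈ (R : Subgroup G), a * b = b * a := by
    have hbar : IsPGroup p ((R : Subgroup G).map (QuotientGroup.mk' N)) :=
      R.isPGroup'.map (QuotientGroup.mk' N)
    obtain ⟨Q, hQ⟩ := hbar.exists_le_sylow
    haveI : IsCyclic (Q : Subgroup (G ⧸ N)) := hcyc p hpN Q
    let f : ↥(R : Subgroup G) →* ↥(Q : Subgroup (G ⧸ N)) :=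
      ((QuotientGroup.mk' N).comp (R : Subgroup G).subtype).codRestrict (Q : Subgroup (G ⧸ N))
        (fun a => hQ (Subgroup.mem_map_of_mem _ a.2))
    have hker : f.ker ≤ Subgroup.center ↥(R : Subgroup G) := by
      intro a ha
      have h1 : ((a : G) : G ⧸ N) = 1 := by
        have := congrArg Subtype.val (MonoidHom.mem_ker.mp ha)
        exact this
      have h2 : (a : G) ∈ N := (QuotientGroup.eq_one_iff _).mp h1
      rw [Subgroup.mem_center_iff]
      intro b
      apply Subtype.ext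
      exact Subgroup.mem_center_iff.mp (hN h2) (b : G)
    intro a ha b hb
    have := (MonoidHom.isMulCommutative_of_isCyclic_of_ker_le_center f hker).is_comm.comm
      ⟨a, ha⟩ ⟨b, hb⟩
    exact congrArg Subtype.val this
  have hw1 : w = 1 := center_inf_commutator_sylow R hRcomm hwR (hN hwN) hwC
  rw [hw1, orderOf_one] at hwo
  exact hp.one_lt.ne hwo

/-- Piece S2202-SPLIT. -/
theorem central_split {G : Type*} [Group G] [Finite G] (N : Subgroup G) [N.Normal]
    (hN : N ≤ Subgroup.center G)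
    (hcyc : ∀ (p : ℕ) [Fact p.Prime], p ∣ Nat.card N →
      ∀ Q : Sylow p (G ⧸ N), IsCyclic (Q : Subgroup (G ⧸ N)))
    (hgen : ∀ g : G, ∃ n ∈ N, g * n ∈ commutator G) :
    Nonempty (G ≃* (G ⧸ N) × N) := by
  have hinf : ∀ z ∈ N, z ∈ commutator G → z = 1 := central_inf_commutator N hN hcyc
  let φ : ↥(commutator G) × ↥N →* G :=
    (commutator G).subtype.noncommCoprod N.subtype
      (fun a n => Subgroup.mem_center_iff.mp (hN n.2) (a : G))
  have hφ : ∀ p : ↥(commutator G) × ↥N, φ p = (p.1 : G) * (p.2 : G) := fun p => rfl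
  have hφinj : Function.Injective φ := by
    rw [injective_iff_map_eq_one]
    rintro ⟨a, n⟩ h
    have h' : (a : G) * (n : G) = 1 := h
    have ha : (a : G) = (n : G)⁻¹ := eq_inv_of_mul_eq_one_left h'
    have ha1 : (a : G) = 1 := hinf _ (by rw [ha]; exact N.inv_mem n.2) a.2
    have hn1 : (n : G) = 1 := by rw [ha1, one_mul] at h'; exact h'
    exact Prod.ext (Subtype.ext ha1) (Subtype.ext hn1)
  have hφsurj : Function.Surjective φ := by
    intro g
    obtain ⟨n, hn, hgn⟩ := hgen g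
    refine ⟨(⟨g * n, hgn⟩, ⟨n⁻¹, N.inv_mem hn⟩), ?_⟩
    rw [hφ]
    show g * n * n⁻¹ = g
    group
  let e1 : ↥(commutator G) × ↥N ≃* G := MulEquiv.ofBijective φ ⟨hφinj, hφsurj⟩
  let ψ : ↥(commutator G) →* G ⧸ N := (QuotientGroup.mk' N).comp (commutator G).subtype
  have hψinj : Function.Injective ψ := by
    rw [injective_iff_map_eq_one]
    intro a h
    have h1 : (a : G) ∈ N := (QuotientGroup.eq_one_iff _).mp h
    exact Subtype.ext (hinf _ h1 a.2)
  have hψsurj : Function.Surjective ψ := by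
    intro q
    obtain ⟨g, rfl⟩ := QuotientGroup.mk_surjective q
    obtain ⟨n, hn, hgn⟩ := hgen g
    refine ⟨⟨g * n, hgn⟩, ?_⟩
    show ((g * n : G) : G ⧸ N) = (g : G ⧸ N)
    rw [QuotientGroup.eq]
    have e : (g * n)⁻¹ * g = n⁻¹ := by group
    rw [e]
    exact N.inv_mem hn
  let e2 : ↥(commutator G) ≃* G ⧸ N := MulEquiv.ofBijective ψ ⟨hψinj, hψsurj⟩
  exact ⟨e1.symm.trans (MulEquiv.prodCongr e2 (MulEquiv.refl _))⟩

end Cfsg.Agent.H61.AIC
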