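import Cfsg.Agent.H26.AIC.L2

/-!
helper61: piece S2202-NCORE (helper26's project): the odd core of a proper subgroup containing
two distinct Sylow 2-subgroups.
-/

set_option autoImplicit false
set_option linter.style.haveILetI false
set_option linter.unusedSectionVars false
set_option linter.unusedVariables false

namespace Cfsg.Agent.H61.AIC

open Subgroup Cfsg.Agent.H26 Cfsg.Agent.H26.AIC

universe u

/-- Piece S2202-NCORE. -/
theorem nti_core {G : Type u} [Group G] [Finite G] (hH : Hyp G)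
    (IH : ∀ (X : Type u) [Group X] [Finite X], Nat.card X < Nat.card G → Hyp X →
      (∃ T : Sylow 2 X, Good T) → NoOdd X → Exp2 X)
    (P Q : Sylow 2 G) (hP : Good P) (hPQ : P ≠ Q) (L : Subgroup G) (hL : L ≠ ⊤)
    (hPL : (P : Subgroup G) ≤ L) (hQL : (Q : Subgroup G) ≤ L) :
    ∃ K : Subgroup G, K ≤ L ∧ (∀ x ∈ L, ∀ k ∈ K, x * k * x⁻¹ ∈ K) ∧ Odd (Nat.card K) ∧
      K ≤ MT P ∧ K ≤ MT Q ∧
      (∀ x ∈ L, ∀ u ∈ L, orderOf u = 2 → x * u = u * x → x * x ∈ K) := by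
  have hHL : Hyp ↥L := sub_hyp hH L
  obtain ⟨TP, hTP, hTPmem⟩ := sub_good hH L P Q hP hPQ hPL hQL
  obtain ⟨TQ, hTQ, hTQmem⟩ := sub_good hH L Q P (good_all hP Q) (Ne.symm hPQ) hQL hPL
  obtain ⟨N0, hN0n, hN0odd, hN0max⟩ := exists_max_odd_normal ↥L
  haveI : N0.Normal := hN0n
  have hcardL : Nat.card ↥L < Nat.card G := by
    have h1 : Nat.card ↥L ≤ Nat.card G := Subgroup.card_le_card_group L
    have h2 : Nat.card ↥L ≠ Nat.card G := fun h => hL (Subgroup.eq_top_of_card_eq L h)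
    omega
  have hcardX : Nat.card (↥L ⧸ N0) < Nat.card G := by
    have h1 : Nat.card (↥L ⧸ N0) ≤ Nat.card ↥L :=
      Nat.le_of_dvd Nat.card_pos (Subgroup.card_quotient_dvd_card N0)
    omega
  have hE : Exp2 (↥L ⧸ N0) :=
    IH (↥L ⧸ N0) hcardX (quot_hyp hHL N0 hN0odd) (quot_good' hHL TP hTP N0 hN0odd)
      (quot_noOdd N0 hN0odd hN0max)
  have hMTP : N0 ≤ MT TP := odd_normal_le_MT hHL TP hTP.1 N0 hN0n hN0odd
  have hMTQ : N0 ≤ MT TQ := odd_normal_le_MT hHL TQ hTQ.1 N0 hN0n hN0odd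
  refine ⟨N0.map L.subtype, Subgroup.map_subtype_le N0, ?_, ?_, ?_, ?_, ?_⟩
  · rintro x hx _ ⟨n, hn, rfl⟩
    refine ⟨⟨x, hx⟩ * n * ⟨x, hx⟩⁻¹, hN0n.conj_mem n hn ⟨x, hx⟩, rfl⟩
  · rw [Subgroup.card_map_of_injective (Subgroup.subtype_injective L)]
    exact hN0odd
  · rintro _ ⟨n, hn, rfl⟩
    rw [mem_MT]
    intro s hs
    have h1 : (⟨s, hPL hs⟩ : ↥L) ∈ (TP : Subgroup ↥L) := (hTPmem ⟨s, hPL hs⟩).mpr hs
    have h2 := (mem_MT TP n).mp (hMTP hn) ⟨s, hPL hs⟩ h1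
    exact congrArg Subtype.val h2
  · rintro _ ⟨n, hn, rfl⟩
    rw [mem_MT]
    intro s hs
    have h1 : (⟨s, hQL hs⟩ : ↥L) ∈ (TQ : Subgroup ↥L) := (hTQmem ⟨s, hQL hs⟩).mpr hs
    have h2 := (mem_MT TQ n).mp (hMTQ hn) ⟨s, hQL hs⟩ h1
    exact congrArg Subtype.val h2
  · intro x hx u hu huo hxu
    have huo' : orderOf (⟨u, hu⟩ : ↥L) = 2 := by
      rw [← huo]; exact Subgroup.orderOf_mk u hu
    have hxu' : (⟨x, hx⟩ : ↥L) * ⟨u, hu⟩ = ⟨u, hu⟩ * ⟨x, hx⟩ := Subtype.ext hxu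
    have h1 := exp2_quot_imp N0 hN0odd hE huo' hxu'
    exact ⟨⟨x, hx⟩ * ⟨x, hx⟩, h1, rfl⟩

end Cfsg.Agent.H61.AIC
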