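import Mathlib

set_option autoImplicit false

namespace Cfsg.Agent.H61

universe u

/-- A nontrivial finite group has a minimal normal subgroup. -/
theorem exists_minimal_normal (G : Type u) [Group G] [Finite G] [Nontrivial G] :
    ∃ M : Subgroup G, M.Normal ∧ M ≠ ⊥ ∧ ∀ K : Subgroup G, K.Normal → K ≤ M → K = ⊥ ∨ K = M := by
  classical
  have hex : ∃ m : ℕ, ∃ K : Subgroup G, K.Normal ∧ K ≠ ⊥ ∧ Nat.card K = m :=
    ⟨_, ⊤, inferInstance, top_ne_bot, rfl⟩
  obtain ⟨M, hMn, hM, hMcard⟩ := Nat.find_spec hex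
  refine ⟨M, hMn, hM, fun K hKn hKM => ?_⟩
  by_cases hK : K = ⊥
  · exact Or.inl hK
  · right
    have h1 : Nat.find hex ≤ Nat.card K := Nat.find_min' hex ⟨K, hKn, hK, rfl⟩
    rw [← hMcard] at h1
    exact Subgroup.eq_of_le_of_card_ge hKM h1

/-- `|HK| |H ∩ K| = |H| |K|` when `K` is normal. -/
theorem card_sup_mul_card_inf {Γ : Type*} [Group Γ] [Finite Γ] (H K : Subgroup Γ) [K.Normal] :
    Nat.card (H ⊔ K : Subgroup Γ) * Nat.card (H ⊓ K : Subgroup Γ) = Nat.card H * Nat.card K := by
  have h1 : Nat.card K * K.relIndex (H ⊔ K) = Nat.card (H ⊔ K : Subgroup Γ) := by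
    have := Subgroup.relIndex_mul_relIndex (H := ⊥) (K := K) (L := H ⊔ K) bot_le le_sup_right
    rwa [Subgroup.relIndex_bot_left, Subgroup.relIndex_bot_left] at this
  have h2 : Nat.card (H ⊓ K : Subgroup Γ) * (H ⊓ K).relIndex H = Nat.card H := by
    have := Subgroup.relIndex_mul_relIndex (H := ⊥) (K := H ⊓ K) (L := H) bot_le inf_le_left
    rwa [Subgroup.relIndex_bot_left, Subgroup.relIndex_bot_left] at this
  rw [Subgroup.relIndex_sup_right] at h1
  rw [Subgroup.inf_relIndex_left] at h2
  rw [← h1, ← h2]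
  ring

/-- A finite group with a prime `p` dividing its order exactly once, and a family of automorphisms
whose only invariant normal subgroups are trivial, is simple. -/
theorem simple_of_invariant {Γ : Type*} [Group Γ] [Finite Γ] (Φ : Set (MulAut Γ))
    (hΦ : ∀ T : Subgroup Γ, T.Normal → (∀ φ ∈ Φ, T.map φ.toMonoidHom = T) → T = ⊥ ∨ T = ⊤)
    (p : ℕ) (hp : p.Prime) (hpΓ : p ∣ Nat.card Γ) (hp2 : ¬ p ^ 2 ∣ Nat.card Γ) :
    IsSimpleGroup Γ := by
  have hnt : Nontrivial Γ := by
    rw [← Finite.one_lt_card_iff_nontrivial]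
    have h1 : 0 < Nat.card Γ := Nat.card_pos
    have := Nat.le_of_dvd h1 hpΓ
    have := hp.two_le
    omega
  have hmapn : ∀ (T : Subgroup Γ) (φ : MulAut Γ), T.Normal → (T.map φ.toMonoidHom).Normal :=
    fun T φ hT => hT.map _ φ.surjective
  have hmapc : ∀ (T : Subgroup Γ) (φ : MulAut Γ), Nat.card (T.map φ.toMonoidHom) = Nat.card T :=
    fun T φ => Subgroup.card_map_of_injective φ.injective
  -- Step 1
  have step1 : ∀ (k : ℕ) (T : Subgroup Γ), T.Normal → Nat.card T = k → p ∣ Nat.card T → T = ⊤ := by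
    intro k
    induction k using Nat.strong_induction_on with
    | _ k ih =>
      intro T hT hk hpT
      by_contra hTtop
      have hTbot : T ≠ ⊥ := by
        rintro rfl
        rw [Subgroup.card_bot] at hpT
        exact hp.one_lt.ne' (Nat.dvd_one.1 hpT)
      have hninv : ¬ ∀ φ ∈ Φ, T.map φ.toMonoidHom = T := by
        intro h
        rcases hΦ T hT h with h | h
        · exact hTbot h
        · exact hTtop h
      push Not at hninv
      obtain ⟨φ, hφ, hne⟩ := hninv
      have hT1n := hmapn T φ hT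
      have hDn : (T ⊓ T.map φ.toMonoidHom).Normal := Subgroup.normal_inf_normal _ _
      have hDlt : Nat.card (T ⊓ T.map φ.toMonoidHom : Subgroup Γ) < k := by
        rw [← hk]
        by_contra hge
        rw [not_lt] at hge
        have h1 : (T ⊓ T.map φ.toMonoidHom) = T :=
          Subgroup.eq_of_le_of_card_ge (H := T ⊓ T.map φ.toMonoidHom) (K := T) inf_le_left hge
        have h2 : T ≤ T.map φ.toMonoidHom := le_trans (le_of_eq h1.symm) inf_le_right
        have h3 := Subgroup.eq_of_le_of_card_ge (H := T) (K := T.map φ.toMonoidHom) h2 (hmapc T φ).le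
        exact hne h3.symm
      have hpD : ¬ p ∣ Nat.card (T ⊓ T.map φ.toMonoidHom : Subgroup Γ) := by
        intro h
        have := ih _ hDlt _ hDn rfl h
        apply hTtop
        rw [eq_top_iff, ← this]
        exact inf_le_left
      have hformula := card_sup_mul_card_inf T (T.map φ.toMonoidHom)
      rw [hmapc] at hformula
      have hpp : p ^ 2 ∣ Nat.card (T ⊔ T.map φ.toMonoidHom : Subgroup Γ) *
          Nat.card (T ⊓ T.map φ.toMonoidHom : Subgroup Γ) := by
        rw [hformula, pow_two]
        exact Nat.mul_dvd_mul hpT hpT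
      have hcop : Nat.Coprime (p ^ 2) (Nat.card (T ⊓ T.map φ.toMonoidHom : Subgroup Γ)) :=
        Nat.Coprime.pow_left 2 ((Nat.Prime.coprime_iff_not_dvd hp).2 hpD)
      have := hcop.dvd_of_dvd_mul_right hpp
      exact hp2 (this.trans (Subgroup.card_subgroup_dvd_card _))
  -- Step 2
  have step2 : ∀ (k : ℕ) (A : Subgroup Γ), A.Normal → A ≠ ⊥ → A ≠ ⊤ →
      Nat.card Γ - Nat.card A = k → False := by
    intro k
    induction k using Nat.strong_induction_on with
    | _ k ih =>
      intro A hA hAbot hAtop hk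
      have hninv : ¬ ∀ φ ∈ Φ, A.map φ.toMonoidHom = A := by
        intro h
        rcases hΦ A hA h with h | h
        · exact hAbot h
        · exact hAtop h
      push Not at hninv
      obtain ⟨φ, hφ, hne⟩ := hninv
      have hA1n := hmapn A φ hA
      have hBn : (A ⊔ A.map φ.toMonoidHom).Normal := Subgroup.sup_normal _ _
      have hlt : Nat.card A < Nat.card (A ⊔ A.map φ.toMonoidHom : Subgroup Γ) := by
        by_contra hge
        rw [not_lt] at hge
        have h1 : A = A ⊔ A.map φ.toMonoidHom :=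
          Subgroup.eq_of_le_of_card_ge (H := A) (K := A ⊔ A.map φ.toMonoidHom) le_sup_left hge
        have h2 : A.map φ.toMonoidHom ≤ A := le_trans le_sup_right (le_of_eq h1.symm)
        have h3 := Subgroup.eq_of_le_of_card_ge (H := A.map φ.toMonoidHom) (K := A) h2 (hmapc A φ).ge
        exact hne h3
      by_cases hB : A ⊔ A.map φ.toMonoidHom = ⊤
      · have hformula := card_sup_mul_card_inf A (A.map φ.toMonoidHom)
        rw [hmapc, hB, Subgroup.card_top] at hformula
        have h1 : p ∣ Nat.card A * Nat.card A := by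
          rw [← hformula]
          exact Dvd.dvd.mul_right hpΓ _
        have h2 : p ∣ Nat.card A := by
          rcases (Nat.Prime.dvd_mul hp).1 h1 with h | h <;> exact h
        exact hAtop (step1 _ A hA rfl h2)
      · have hBbot : A ⊔ A.map φ.toMonoidHom ≠ ⊥ := by
          intro h
          apply hAbot
          rw [eq_bot_iff, ← h]
          exact le_sup_left
        have hle : Nat.card (A ⊔ A.map φ.toMonoidHom : Subgroup Γ) ≤ Nat.card Γ :=
          Subgroup.card_le_card_group _
        exact ih (Nat.card Γ - Nat.card (A ⊔ A.map φ.toMonoidHom : Subgroup Γ)) (by omega) _ hBn hBbot hB rfl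
  exact ⟨fun H hH => by
    by_contra hne
    rw [not_or] at hne
    exact step2 _ H hH hne.1 hne.2 rfl⟩

end Cfsg.Agent.H61
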