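import Mathlib

set_option autoImplicit false

namespace Cfsg.Agent.H61

open Nat

/-- Variant of Mathlib's `centralBinom_le_of_no_bertrand_prime`: the same bound holds if there is
at most one prime in `(n, 2n]`. -/
theorem centralBinom_le_of_one_prime (n : ℕ) (n_large : 2 < n) (p₀ : ℕ)
    (no_prime : ∀ p : ℕ, p.Prime → n < p → p ≠ p₀ → 2 * n < p) :
    centralBinom n ≤ (2 * n) ^ sqrt (2 * n) * 4 ^ (2 * n / 3) := by
  have n_pos : 0 < n := by omega
  have n2_pos : 1 ≤ 2 * n := by omega
  let f : ℕ → ℕ := fun x => x ^ n.centralBinom.factorization x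
  have hfull : ∏ p ∈ Finset.range (2 * n + 1), f p = centralBinom n :=
    n.prod_pow_factorization_centralBinom
  have hsplit : (∏ p ∈ Finset.range (2 * n / 3 + 1), f p) *
      ∏ p ∈ Finset.Ico (2 * n / 3 + 1) (2 * n + 1), f p = ∏ p ∈ Finset.range (2 * n + 1), f p :=
    Finset.prod_range_mul_prod_Ico f (by omega)
  have hone : ∀ p ∈ Finset.Ico (2 * n / 3 + 1) (2 * n + 1), p ≠ p₀ → f p = 1 := by
    intro p hp hne
    rw [Finset.mem_Ico] at hp
    show p ^ n.centralBinom.factorization p = 1
    by_cases hpp : p.Prime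
    · by_cases hpn : p ≤ n
      · rw [factorization_centralBinom_of_two_mul_self_lt_three_mul n_large hpn (by omega), pow_zero]
      · have := no_prime p hpp (by omega) hne
        omega
    · rw [factorization_eq_zero_of_not_prime n.centralBinom hpp, pow_zero]
  have hD : ∏ p ∈ Finset.Ico (2 * n / 3 + 1) (2 * n + 1), f p ≤ 2 * n := by
    by_cases hp₀ : p₀ ∈ Finset.Ico (2 * n / 3 + 1) (2 * n + 1)
    · rw [Finset.prod_eq_single_of_mem p₀ hp₀ (fun p hp hne => hone p hp hne)]
      exact pow_factorization_choose_le (mul_pos two_pos n_pos)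
    · rw [Finset.prod_eq_one]
      · exact n2_pos
      · intro p hp
        exact hone p hp (fun h => hp₀ (h ▸ hp))
  -- the small part
  let S := {p ∈ Finset.range (2 * n / 3 + 1) | Nat.Prime p}
  have hS : ∏ x ∈ S, f x = ∏ x ∈ Finset.range (2 * n / 3 + 1), f x := by
    refine Finset.prod_filter_of_ne fun p _ h => ?_
    contrapose h; dsimp only [f]
    rw [factorization_eq_zero_of_not_prime n.centralBinom h, _root_.pow_zero]
  have hsqrt : 1 ≤ sqrt (2 * n) := by
    rw [Nat.le_sqrt]; omega
  have hsmall : ∏ x ∈ Finset.range (2 * n / 3 + 1), f x ≤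
      (2 * n) ^ (sqrt (2 * n) - 1) * 4 ^ (2 * n / 3) := by
    rw [← hS, ← Finset.prod_filter_mul_prod_filter_not S (· ≤ sqrt (2 * n))]
    apply Nat.mul_le_mul
    · refine (Finset.prod_le_prod' fun p _ => (?_ : f p ≤ 2 * n)).trans ?_
      · exact pow_factorization_choose_le (mul_pos two_pos n_pos)
      have : (Finset.Icc 2 (sqrt (2 * n))).card = sqrt (2 * n) - 1 := by
        rw [card_Icc]; omega
      rw [Finset.prod_const]
      refine pow_right_mono₀ n2_pos ((Finset.card_le_card fun x hx => ?_).trans this.le)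
      obtain ⟨h1, h2⟩ := Finset.mem_filter.1 hx
      exact Finset.mem_Icc.mpr ⟨(Finset.mem_filter.1 h1).2.two_le, h2⟩
    · refine le_trans ?_ (primorial_le_four_pow (2 * n / 3))
      refine (Finset.prod_le_prod' fun p hp => (?_ : f p ≤ p)).trans ?_
      · obtain ⟨h1, h2⟩ := Finset.mem_filter.1 hp
        refine (pow_right_mono₀ (Finset.mem_filter.1 h1).2.one_lt.le ?_).trans (pow_one p).le
        exact Nat.factorization_choose_le_one (sqrt_lt'.mp <| not_le.1 h2)
      refine Finset.prod_le_prod_of_subset_of_one_le' (Finset.filter_subset _ _) ?_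
      exact fun p hp _ => (Finset.mem_filter.1 hp).2.one_lt.le
  calc centralBinom n = (∏ p ∈ Finset.range (2 * n / 3 + 1), f p) *
        ∏ p ∈ Finset.Ico (2 * n / 3 + 1) (2 * n + 1), f p := by rw [hsplit, hfull]
    _ ≤ ((2 * n) ^ (sqrt (2 * n) - 1) * 4 ^ (2 * n / 3)) * (2 * n) := Nat.mul_le_mul hsmall hD
    _ = (2 * n) ^ sqrt (2 * n) * 4 ^ (2 * n / 3) := by
      have : sqrt (2 * n) = (sqrt (2 * n) - 1) + 1 := by omega
      conv_rhs => rw [this, pow_succ]
      ring

/-- For `n ≥ 512` there are two primes in `(n, 2n]`. -/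
theorem exists_two_primes_large (n : ℕ) (n_large : 512 ≤ n) :
    ∃ p q : ℕ, p.Prime ∧ q.Prime ∧ n < p ∧ p < q ∧ q ≤ 2 * n := by
  obtain ⟨p₀, hp₀, h1, h2⟩ := Nat.exists_prime_lt_and_le_two_mul n (by omega)
  by_contra hno
  have no_prime : ∀ p : ℕ, p.Prime → n < p → p ≠ p₀ → 2 * n < p := by
    intro p hp hnp hne
    by_contra hle
    rw [not_lt] at hle
    rcases lt_or_gt_of_ne hne with h | h
    · exact hno ⟨p, p₀, hp, hp₀, hnp, h, h2⟩
    · exact hno ⟨p₀, p, hp₀, hp, h1, h, hle⟩
  have hbound := centralBinom_le_of_one_prime n (by omega) p₀ no_prime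
  have h4 := Nat.four_pow_lt_mul_centralBinom n (by omega)
  have hmain := bertrand_main_inequality n_large
  have : n * centralBinom n ≤ 4 ^ n := by
    calc n * centralBinom n ≤ n * ((2 * n) ^ sqrt (2 * n) * 4 ^ (2 * n / 3)) :=
          Nat.mul_le_mul_left n hbound
      _ = n * (2 * n) ^ sqrt (2 * n) * 4 ^ (2 * n / 3) := by ring
      _ ≤ 4 ^ n := hmain
  omega

/-- For `6 ≤ n < 547` there are two primes in `(n, 2n]`. -/
theorem exists_two_primes_small (n : ℕ) (h6 : 6 ≤ n) (h : n < 547) :
    ∃ p q : ℕ, p.Prime ∧ q.Prime ∧ n < p ∧ p < q ∧ q ≤ 2 * n := by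
  have key : ∀ a b c : ℕ, b.Prime → c.Prime → b < c → c ≤ 2 * a → a ≤ n → n < b →
      ∃ p q : ℕ, p.Prime ∧ q.Prime ∧ n < p ∧ p < q ∧ q ≤ 2 * n :=
    fun a b c hb hc hbc hca han hnb => ⟨b, c, hb, hc, hnb, hbc, by omega⟩
  by_cases h1 : n < 7
  · exact key 6 7 11 (by norm_num) (by norm_num) (by norm_num) (by norm_num) h6 h1
  by_cases h2 : n < 11
  · exact key 7 11 13 (by norm_num) (by norm_num) (by norm_num) (by norm_num) (by omega) h2
  by_cases h3 : n < 13
  · exact key 11 13 19 (by norm_num) (by norm_num) (by norm_num) (by norm_num) (by omega) h3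
  by_cases h4 : n < 19
  · exact key 13 19 23 (by norm_num) (by norm_num) (by norm_num) (by norm_num) (by omega) h4
  by_cases h5 : n < 23
  · exact key 19 23 37 (by norm_num) (by norm_num) (by norm_num) (by norm_num) (by omega) h5
  by_cases h6' : n < 37
  · exact key 23 37 43 (by norm_num) (by norm_num) (by norm_num) (by norm_num) (by omega) h6'
  by_cases h7 : n < 43
  · exact key 37 43 73 (by norm_num) (by norm_num) (by norm_num) (by norm_num) (by omega) h7
  by_cases h8 : n < 73
  · exact key 43 73 83 (by norm_num) (by norm_num) (by norm_num) (by norm_num) (by omega) h8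
  by_cases h9 : n < 83
  · exact key 73 83 139 (by norm_num) (by norm_num) (by norm_num) (by norm_num) (by omega) h9
  by_cases h10 : n < 139
  · exact key 83 139 163 (by norm_num) (by norm_num) (by norm_num) (by norm_num) (by omega) h10
  by_cases h11 : n < 163
  · exact key 139 163 277 (by norm_num) (by norm_num) (by norm_num) (by norm_num) (by omega) h11
  by_cases h12 : n < 277
  · exact key 163 277 317 (by norm_num) (by norm_num) (by norm_num) (by norm_num) (by omega) h12
  by_cases h13 : n < 317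
  · exact key 277 317 547 (by norm_num) (by norm_num) (by norm_num) (by norm_num) (by omega) h13
  · exact key 317 547 631 (by norm_num) (by norm_num) (by norm_num) (by norm_num) (by omega) h

/-- For `n ≥ 6` there are two primes in `(n, 2n]`. -/
theorem exists_two_primes (n : ℕ) (h6 : 6 ≤ n) :
    ∃ p q : ℕ, p.Prime ∧ q.Prime ∧ n < p ∧ p < q ∧ q ≤ 2 * n := by
  by_cases h : n < 547
  · exact exists_two_primes_small n h6 h
  · exact exists_two_primes_large n (by omega)

/-- For `n ≥ 11` there are two primes `p < q ≤ n` with `n < 2p`. -/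
theorem exists_two_primes_half (n : ℕ) (hn : 11 ≤ n) :
    ∃ p q : ℕ, p.Prime ∧ q.Prime ∧ p < q ∧ q ≤ n ∧ n < 2 * p := by
  by_cases h : n = 11
  · subst h
    exact ⟨7, 11, by norm_num, by norm_num, by norm_num, by norm_num, by norm_num⟩
  · obtain ⟨p, q, hp, hq, h1, h2, h3⟩ := exists_two_primes (n / 2) (by omega)
    exact ⟨p, q, hp, hq, h2, by omega, by omega⟩

end Cfsg.Agent.H61
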