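import Mathlib
import Cfsg.Agent.H61.MinNormal
import Cfsg.Agent.H61.TwoPrimes

set_option autoImplicit false

namespace Cfsg.Agent.H61

universe u

/-- A minimal normal subgroup whose order is divisible by a prime `p` with `p² ∤ |G|` is simple. -/
theorem simple_of_minimal_normal {G : Type*} [Group G] [Finite G] (M : Subgroup G) [hMn : M.Normal]
    (hmin : ∀ K : Subgroup G, K.Normal → K ≤ M → K = ⊥ ∨ K = M)
    (p : ℕ) (hp : p.Prime) (hpM : p ∣ Nat.card M) (hp2 : ¬ p ^ 2 ∣ Nat.card G) :
    IsSimpleGroup M := by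
  apply simple_of_invariant (Set.range (MulAut.conjNormal : G →* MulAut M)) ?_ p hp hpM
  · intro h
    exact hp2 (h.trans (Subgroup.card_subgroup_dvd_card M))
  · intro T hT hinv
    have hKn : (T.map M.subtype).Normal := by
      constructor
      rintro x ⟨t, ht, rfl⟩ g
      have h1 : MulAut.conjNormal g t ∈ T.map (MulAut.conjNormal g : MulAut M).toMonoidHom :=
        Subgroup.mem_map_of_mem _ ht
      rw [hinv _ ⟨g, rfl⟩] at h1
      exact ⟨MulAut.conjNormal g t, h1, MulAut.conjNormal_apply g t⟩
    have hKle : T.map M.subtype ≤ M := Subgroup.map_subtype_le T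
    rcases hmin _ hKn hKle with h | h
    · left
      exact (Subgroup.map_eq_bot_iff_of_injective T M.subtype_injective).1 h
    · right
      rw [eq_top_iff]
      intro x _
      have hx : (x : G) ∈ T.map M.subtype := by rw [h]; exact x.2
      obtain ⟨t, ht, hte⟩ := hx
      have : t = x := Subtype.ext hte
      rwa [← this]

/-- If `y` of prime order `q` normalizes a subgroup `Q` of prime order `p` and `q ∤ p - 1`, then
there is an element of order `p q`. -/
theorem exists_orderOf_eq_mul {G : Type*} [Group G] [Finite G] (Q : Subgroup G) (p q : ℕ)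
    (hp : p.Prime) (hq : q.Prime) (hpq : p ≠ q) (hQ : Nat.card Q = p) (y : G)
    (hy : y ∈ Subgroup.normalizer (Q : Set G)) (hyq : orderOf y = q) (hndvd : ¬ q ∣ p - 1) :
    ∃ g : G, orderOf g = p * q := by
  have := Fact.mk hp
  have hcyc : IsCyclic Q := isCyclic_of_prime_card hQ
  have h1 : orderOf (Q.normalizerMonoidHom ⟨y, hy⟩) ∣ q := by
    have := orderOf_map_dvd Q.normalizerMonoidHom ⟨y, hy⟩
    rwa [Subgroup.orderOf_mk, hyq] at this
  have h2 : orderOf (Q.normalizerMonoidHom ⟨y, hy⟩) ∣ p - 1 := by
    have := orderOf_dvd_natCard (Q.normalizerMonoidHom ⟨y, hy⟩)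
    rwa [IsCyclic.card_mulAut, hQ, Nat.totient_prime hp] at this
  have h3 : orderOf (Q.normalizerMonoidHom ⟨y, hy⟩) = 1 := by
    rcases (Nat.dvd_prime hq).1 h1 with h | h
    · exact h
    · exact absurd (h ▸ h2) hndvd
  have h4 : Q.normalizerMonoidHom ⟨y, hy⟩ = 1 := orderOf_eq_one_iff.1 h3
  have h5 : (⟨y, hy⟩ : Subgroup.normalizer (Q : Set G)) ∈ Q.normalizerMonoidHom.ker := h4
  rw [Subgroup.normalizerMonoidHom_ker] at h5
  have h6 : y ∈ Subgroup.centralizer (Q : Set G) := h5
  obtain ⟨x, hx⟩ := exists_prime_orderOf_dvd_card' (G := Q) p (by rw [hQ])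
  have hcomm : Commute (x : G) y := (Subgroup.mem_centralizer_iff.1 h6) x x.2
  have hcop : (orderOf (x : G)).Coprime (orderOf y) := by
    rw [Subgroup.orderOf_coe, hx, hyq]
    exact (Nat.coprime_primes hp hq).2 hpq
  refine ⟨x * y, ?_⟩
  rw [hcomm.orderOf_mul_eq_mul_orderOf_of_coprime hcop, Subgroup.orderOf_coe, hx, hyq]

/-- Element orders of a quotient are element orders of the group. -/
theorem exists_orderOf_of_quotient {G : Type*} [Group G] [Finite G] (M : Subgroup G) [M.Normal]
    (m : ℕ) (x : G ⧸ M) (hx : orderOf x = m) : ∃ g : G, orderOf g = m := by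
  obtain ⟨g, rfl⟩ := QuotientGroup.mk_surjective x
  have h1 : orderOf (QuotientGroup.mk g : G ⧸ M) ∣ orderOf g :=
    orderOf_map_dvd (QuotientGroup.mk' M) g
  rw [hx] at h1
  exact ⟨g ^ (orderOf g / m), orderOf_pow_orderOf_div (orderOf_pos g).ne' h1⟩

theorem prime_dvd_multiset_lcm {p : ℕ} (hp : p.Prime) (s : Multiset ℕ) (h : p ∣ s.lcm) :
    ∃ a ∈ s, p ∣ a := by
  induction s using Multiset.induction_on with
  | empty =>
    simp only [Multiset.lcm_zero] at h
    exact absurd (Nat.dvd_one.1 h) hp.one_lt.ne'
  | cons a s ih =>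
    rw [Multiset.lcm_cons] at h
    have h' : p ∣ a * s.lcm := h.trans (lcm_dvd (dvd_mul_right a _) (dvd_mul_left _ a))
    rcases (Nat.Prime.dvd_mul hp).1 h' with h1 | h1
    · exact ⟨a, Multiset.mem_cons_self a s, h1⟩
    · obtain ⟨b, hb, hpb⟩ := ih h1
      exact ⟨b, Multiset.mem_cons_of_mem hb, hpb⟩

/-- A permutation of `n` points whose order is divisible by `p q` (distinct primes) needs
`p + q ≤ n`. -/
theorem add_le_of_mul_dvd_orderOf (n : ℕ) (σ : Equiv.Perm (Fin n)) (p q : ℕ) (hp : p.Prime)
    (hq : q.Prime) (hpq : p ≠ q) (h : p * q ∣ orderOf σ) : p + q ≤ n := by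
  rw [← Equiv.Perm.lcm_cycleType] at h
  obtain ⟨a, ha, hpa⟩ := prime_dvd_multiset_lcm hp _ ((dvd_mul_right p q).trans h)
  obtain ⟨b, hb, hqb⟩ := prime_dvd_multiset_lcm hq _ ((dvd_mul_left q p).trans h)
  have hsum : σ.cycleType.sum ≤ n := by simpa using σ.sum_cycleType_le
  have ha2 := Equiv.Perm.two_le_of_mem_cycleType ha
  have hb2 := Equiv.Perm.two_le_of_mem_cycleType hb
  have hpa' := Nat.le_of_dvd (by omega) hpa
  have hqb' := Nat.le_of_dvd (by omega) hqb
  by_cases hab : a = b
  · subst hab
    have hpqa : p * q ∣ a := ((Nat.coprime_primes hp hq).2 hpq).mul_dvd_of_dvd_of_dvd hpa hqb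
    have hale : a ≤ σ.cycleType.sum := Multiset.le_sum_of_mem ha
    have h3 := Nat.le_of_dvd (by omega) hpqa
    have := hp.two_le
    have := hq.two_le
    nlinarith
  · have hb' : b ∈ σ.cycleType.erase a := (Multiset.mem_erase_of_ne (Ne.symm hab)).2 hb
    have h1 : σ.cycleType.sum = a + (σ.cycleType.erase a).sum := by
      rw [← Multiset.sum_cons, Multiset.cons_erase ha]
    have h2 : b ≤ (σ.cycleType.erase a).sum := Multiset.le_sum_of_mem hb'
    omega

/-- The alternating group of degree `n` has no element of order `p q` when `n < p + q`. -/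
theorem alternating_no_orderOf (n : ℕ) (p q : ℕ) (hp : p.Prime) (hq : q.Prime) (hpq : p ≠ q)
    (hn : n < p + q) (σ : alternatingGroup (Fin n)) : orderOf σ ≠ p * q := by
  intro h
  have h1 : orderOf (σ : Equiv.Perm (Fin n)) = p * q := by rw [Subgroup.orderOf_coe, h]
  have := add_le_of_mul_dvd_orderOf n (σ : Equiv.Perm (Fin n)) p q hp hq hpq (by rw [h1])
  omega

theorem two_mul_card_alt (n : ℕ) (hn : 2 ≤ n) :
    2 * Nat.card (alternatingGroup (Fin n)) = n.factorial := by
  have : Nontrivial (Fin n) := Fin.nontrivial_iff_two_le.2 hn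
  rw [two_mul_nat_card_alternatingGroup, Nat.card_perm, Nat.card_fin]

theorem section_transport {A B : Type*} [Group A] [Group B] (e : A ≃* B) (S : Set ℕ)
    (hs : IsSimpleGroup B) (hnc : ¬ IsMulCommutative B) (hd : ∀ p ∈ S, p ∣ Nat.card B) :
    IsSimpleGroup A ∧ ¬ IsMulCommutative A ∧ ∀ p ∈ S, p ∣ Nat.card A := by
  refine ⟨e.isSimpleGroup, ?_, ?_⟩
  · intro hc
    apply hnc
    refine ⟨⟨fun a b => ?_⟩⟩
    apply e.symm.injective
    rw [map_mul, map_mul]
    exact hc.is_comm.comm _ _
  · intro p hp
    rw [Nat.card_congr e.toEquiv]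
    exact hd p hp

/-- Core theorem: a finite group with a set `S` of at least two primes, each dividing the order
exactly once, with no element of order `p q` for distinct `p, q ∈ S` and `q ∤ p - 1`, has a
non-abelian simple section `H / N` (with `N < H` normal in `G`) whose order is divisible by all
primes of `S`. -/
theorem exists_simple_section (S : Set ℕ) (hSprime : ∀ p ∈ S, p.Prime)
    (hS3 : ∀ p ∈ S, ∀ q ∈ S, p ≠ q → ¬ q ∣ p - 1) (hS4 : ∃ p ∈ S, ∃ q ∈ S, p ≠ q) :
    ∀ (k : ℕ) (G : Type u) [Group G] [Finite G], Nat.card G = k →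
      (∀ p ∈ S, p ∣ Nat.card G ∧ ¬ p ^ 2 ∣ Nat.card G) →
      (∀ p ∈ S, ∀ q ∈ S, p ≠ q → ∀ g : G, orderOf g ≠ p * q) →
      ∃ (N H : Subgroup G) (_ : N.Normal), H.Normal ∧ N < H ∧
        IsSimpleGroup (↥H ⧸ N.subgroupOf H) ∧ ¬ IsMulCommutative (↥H ⧸ N.subgroupOf H) ∧
        ∀ p ∈ S, p ∣ Nat.card (↥H ⧸ N.subgroupOf H) := by
  intro k
  induction k using Nat.strong_induction_on with
  | _ k ih =>
    intro G _ _ hk h1 h2
    obtain ⟨p₁, hp₁, q₁, hq₁, hpq₁⟩ := hS4
    have hnt : Nontrivial G := by
      rw [← Finite.one_lt_card_iff_nontrivial]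
      have := Nat.le_of_dvd Nat.card_pos (h1 p₁ hp₁).1
      have := (hSprime p₁ hp₁).two_le
      omega
    obtain ⟨M, hMn, hMbot, hMmin⟩ := exists_minimal_normal G
    by_cases hcase : ∃ p ∈ S, p ∣ Nat.card M
    · -- some prime of S divides |M|
      obtain ⟨p, hp, hpM⟩ := hcase
      have hpp := hSprime p hp
      have hsimple : IsSimpleGroup M := simple_of_minimal_normal M hMmin p hpp hpM (h1 p hp).2
      have hall : ∀ q ∈ S, q ∣ Nat.card M := by
        intro q hq
        by_contra hqM
        have hqp : p ≠ q := by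
          rintro rfl
          exact hqM hpM
        have hqq := hSprime q hq
        have := Fact.mk hpp
        obtain P : Sylow p M := default
        have hPcard : Nat.card P = p := by
          rw [Sylow.card_eq_multiplicity]
          have hfac : (Nat.card M).factorization p = 1 := by
            apply le_antisymm
            · by_contra hgt
              rw [not_le] at hgt
              have : p ^ 2 ∣ Nat.card M :=
                (hpp.pow_dvd_iff_le_factorization Nat.card_pos.ne').2 hgt
              exact (h1 p hp).2 (this.trans (Subgroup.card_subgroup_dvd_card M))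
            · exact (hpp.dvd_iff_one_le_factorization Nat.card_pos.ne').1 hpM
          rw [hfac, pow_one]
        have hP'card : Nat.card ((P : Subgroup M).map M.subtype) = p := by
          rw [Subgroup.card_map_of_injective M.subtype_injective]
          exact hPcard
        have hfr : Subgroup.normalizer (((P : Subgroup M).map M.subtype : Subgroup G) : Set G) ⊔ M = ⊤ :=
          Sylow.normalizer_sup_eq_top P
        have hqN : q ∣ Nat.card (Subgroup.normalizer (((P : Subgroup M).map M.subtype : Subgroup G) : Set G)) := by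
          have e1 := Subgroup.relIndex_sup_right
            (Subgroup.normalizer (((P : Subgroup M).map M.subtype : Subgroup G) : Set G)) M
          rw [hfr, Subgroup.relIndex_top_right] at e1
          have e2 : q ∣ M.index := by
            have := (h1 q hq).1
            rw [← Subgroup.card_mul_index M] at this
            exact ((Nat.Prime.dvd_mul hqq).1 this).resolve_left hqM
          rw [e1] at e2
          exact e2.trans (Subgroup.relIndex_dvd_card _ _)
        have := Fact.mk hqq
        obtain ⟨y, hy⟩ := exists_prime_orderOf_dvd_card' q hqN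
        obtain ⟨g, hg⟩ := exists_orderOf_eq_mul _ p q hpp hqq hqp hP'card (y : G) y.2
          (by rw [Subgroup.orderOf_coe, hy]) (hS3 p hp q hq hqp)
        exact h2 p hp q hq hqp g hg
      have hnc : ¬ IsMulCommutative M := by
        intro hc
        have := Fact.mk hpp
        obtain ⟨x, hx⟩ := exists_prime_orderOf_dvd_card' (G := M) p hpM
        have hZn : (Subgroup.zpowers x).Normal := by
          constructor
          intro n hn g
          have h3 : g * n * g⁻¹ = n := by
            have h4 : g * n = n * g := hc.is_comm.comm g n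
            rw [h4, mul_inv_cancel_right]
          rw [h3]
          exact hn
        have hZ : Subgroup.zpowers x = ⊤ := by
          rcases hsimple.eq_bot_or_eq_top_of_normal _ hZn with h | h
          · exfalso
            rw [Subgroup.zpowers_eq_bot] at h
            rw [h, orderOf_one] at hx
            exact hpp.one_lt.ne hx
          · exact h
        have hMcard : Nat.card M = p := by
          rw [← hx, ← Nat.card_zpowers, hZ, Subgroup.card_top]
        obtain ⟨q, hq, hqp⟩ : ∃ q ∈ S, p ≠ q := by
          by_cases h : p = p₁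
          · exact ⟨q₁, hq₁, h ▸ hpq₁⟩
          · exact ⟨p₁, hp₁, h⟩
        have hqq := hSprime q hq
        have := Fact.mk hqq
        obtain ⟨y, hy⟩ := exists_prime_orderOf_dvd_card' (G := G) q (h1 q hq).1
        have hyN : y ∈ Subgroup.normalizer (M : Set G) := by
          rw [Subgroup.normalizer_eq_top]
          trivial
        obtain ⟨g, hg⟩ := exists_orderOf_eq_mul M p q hpp hqq hqp hMcard y hyN hy
          (hS3 p hp q hq hqp)
        exact h2 p hp q hq hqp g hg
      have hbotn : (⊥ : Subgroup G).Normal := inferInstance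
      have e : ↥M ⧸ (⊥ : Subgroup G).subgroupOf M ≃* ↥M :=
        (QuotientGroup.quotientMulEquivOfEq (Subgroup.bot_subgroupOf M)).trans
          QuotientGroup.quotientBot
      obtain ⟨t1, t2, t3⟩ := section_transport e S hsimple hnc hall
      exact ⟨⊥, M, hbotn, hMn, bot_lt_iff_ne_bot.2 hMbot, t1, t2, t3⟩
    · -- no prime of S divides |M|: pass to the quotient
      push Not at hcase
      have hcardeq : Nat.card G = Nat.card (G ⧸ M) * Nat.card M :=
        Subgroup.card_eq_card_quotient_mul_card_subgroup M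
      have hMcard : 1 < Nat.card M := (Subgroup.one_lt_card_iff_ne_bot M).2 hMbot
      have hcardlt : Nat.card (G ⧸ M) < k := by
        rw [← hk, hcardeq]
        have : 0 < Nat.card (G ⧸ M) := Nat.card_pos
        nlinarith
      have h1' : ∀ p ∈ S, p ∣ Nat.card (G ⧸ M) ∧ ¬ p ^ 2 ∣ Nat.card (G ⧸ M) := by
        intro p hp
        constructor
        · have := (h1 p hp).1
          rw [hcardeq] at this
          exact ((Nat.Prime.dvd_mul (hSprime p hp)).1 this).resolve_right (hcase p hp)
        · intro h
          apply (h1 p hp).2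
          rw [hcardeq]
          exact Dvd.dvd.mul_right h _
      have h2' : ∀ p ∈ S, ∀ q ∈ S, p ≠ q → ∀ g : G ⧸ M, orderOf g ≠ p * q := by
        intro p hp q hq hpq g hg
        obtain ⟨g', hg'⟩ := exists_orderOf_of_quotient M (p * q) g hg
        exact h2 p hp q hq hpq g' hg'
      obtain ⟨N', H', hN', hH', hlt, hs, hnc, hd⟩ := ih _ hcardlt (G ⧸ M) rfl h1' h2'
      have hNn : (N'.comap (QuotientGroup.mk' M)).Normal := hN'.comap _
      have hHn : (H'.comap (QuotientGroup.mk' M)).Normal := hH'.comap _
      have hlt' : N'.comap (QuotientGroup.mk' M) < H'.comap (QuotientGroup.mk' M) :=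
        (Subgroup.comap_lt_comap_of_surjective (QuotientGroup.mk'_surjective M)).2 hlt
      let φ : ↥(H'.comap (QuotientGroup.mk' M)) →* ↥H' ⧸ N'.subgroupOf H' :=
        (QuotientGroup.mk' (N'.subgroupOf H')).comp ((QuotientGroup.mk' M).subgroupComap H')
      have hφ : Function.Surjective φ :=
        (QuotientGroup.mk'_surjective _).comp
          (MonoidHom.subgroupComap_surjective_of_surjective _ _ (QuotientGroup.mk'_surjective M))
      have hker : φ.ker = (N'.comap (QuotientGroup.mk' M)).subgroupOf (H'.comap (QuotientGroup.mk' M)) := by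
        ext x
        rw [MonoidHom.mem_ker, Subgroup.mem_subgroupOf, Subgroup.mem_comap]
        show (QuotientGroup.mk ((QuotientGroup.mk' M).subgroupComap H' x) : ↥H' ⧸ N'.subgroupOf H') = 1 ↔ _
        rw [QuotientGroup.eq_one_iff, Subgroup.mem_subgroupOf]
        rfl
      have e : ↥(H'.comap (QuotientGroup.mk' M)) ⧸
          (N'.comap (QuotientGroup.mk' M)).subgroupOf (H'.comap (QuotientGroup.mk' M)) ≃*
          ↥H' ⧸ N'.subgroupOf H' :=
        (QuotientGroup.quotientMulEquivOfEq hker.symm).trans
          (QuotientGroup.quotientKerEquivOfSurjective φ hφ)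
      obtain ⟨t1, t2, t3⟩ := section_transport e S hs hnc hd
      exact ⟨N'.comap (QuotientGroup.mk' M), H'.comap (QuotientGroup.mk' M), hNn, hHn, hlt', t1, t2, t3⟩

theorem factorization_factorial_eq_one (n p : ℕ) (hp : p.Prime) (h1 : p ≤ n) (h2 : n < 2 * p) :
    n.factorial.factorization p = 1 := by
  have hp2 := hp.two_le
  have hlog : Nat.log p n < 2 := by
    apply Nat.log_lt_of_lt_pow (by omega)
    nlinarith
  rw [Nat.factorization_factorial hp hlog]
  have : Finset.Ico 1 2 = {1} := by decide
  rw [this, Finset.sum_singleton, pow_one]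
  apply Nat.div_eq_of_lt_le
  · omega
  · omega

/-- For an odd prime `p` with `n/2 < p ≤ n`, `p` divides `|A_n|` exactly once. -/
theorem prime_dvd_card_alt (n p : ℕ) (hp : p.Prime) (hp2 : p ≠ 2) (h1 : p ≤ n) (h2 : n < 2 * p) :
    p ∣ Nat.card (alternatingGroup (Fin n)) ∧ ¬ p ^ 2 ∣ Nat.card (alternatingGroup (Fin n)) := by
  have hn2 : 2 ≤ n := le_trans hp.two_le h1
  have hcard := two_mul_card_alt n hn2
  have hfac := factorization_factorial_eq_one n p hp h1 h2
  constructor
  · have h3 : p ∣ 2 * Nat.card (alternatingGroup (Fin n)) := by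
      rw [hcard]
      exact (Nat.Prime.dvd_factorial hp).2 h1
    rcases (Nat.Prime.dvd_mul hp).1 h3 with h | h
    · exact absurd ((Nat.prime_dvd_prime_iff_eq hp Nat.prime_two).1 h) hp2
    · exact h
  · intro h
    have h3 : p ^ 2 ∣ n.factorial := by
      rw [← hcard]
      exact Dvd.dvd.mul_left h 2
    have h4 := (hp.pow_dvd_iff_le_factorization (Nat.factorial_ne_zero n)).1 h3
    omega

end Cfsg.Agent.H61
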