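import Mathlib
import Cfsg.Agent.H61.A8Data1
import Cfsg.Agent.H61.A8Data2
import Cfsg.Agent.H61.A8Data3

/-!
# Terminal data (helper61)

Generated data for the subgroups of `A₈` without solvable normal subgroups.
-/

set_option autoImplicit false
set_option maxRecDepth 1000000

namespace Cfsg.Agent.H61.A8

/-- Generators of the abelian normal subgroup at node `1`. -/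
def gensE1 : List ℕ := [14899409]

/-- Words for these generators. -/
def wsK1 : List (List ℕ) := [[0]]

/-- Words for the elements of the abelian normal subgroup. -/
def wsE1 : List (List ℕ) := [[0], [0, 0], [0, 0, 0], [0, 0, 0, 0], [0, 0, 0, 0, 0], [0, 0, 0, 0, 0, 0]]

theorem gensE1_valid : allG validC gensE1 = true := by decide +kernel

theorem gensE1_mem : allG (fun e => anyW gens1 wsK1 e) gensE1 = true := by decide +kernel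

theorem gensE1_comm :
    allG (fun e => allG (fun f => Nat.beq (mulC e f) (mulC f e)) gensE1) gensE1 = true := by
  decide +kernel

/-- Generators of the abelian normal subgroup at node `6`. -/
def gensE6 : List ℕ := [16419025]

/-- Words for these generators. -/
def wsK6 : List (List ℕ) := [[0]]

/-- Words for the elements of the abelian normal subgroup. -/
def wsE6 : List (List ℕ) := [[0], [0, 0], [0, 0, 0], [0, 0, 0, 0]]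

theorem gensE6_valid : allG validC gensE6 = true := by decide +kernel

theorem gensE6_mem : allG (fun e => anyW gens6 wsK6 e) gensE6 = true := by decide +kernel

theorem gensE6_comm :
    allG (fun e => allG (fun f => Nat.beq (mulC e f) (mulC f e)) gensE6) gensE6 = true := by
  decide +kernel

/-- Generators of the abelian normal subgroup at node `2`. -/
def gensE2 : List ℕ := [7806498, 4608499, 2636221]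

/-- Words for these generators. -/
def wsK2 : List (List ℕ) := [[0, 0, 1], [0, 1, 0], [1, 0, 0]]

/-- Words for the elements of the abelian normal subgroup. -/
def wsE2 : List (List ℕ) := [[0], [1], [2], [0, 1], [0, 2], [1, 2], [0, 1, 2]]

theorem gensE2_valid : allG validC gensE2 = true := by decide +kernel

theorem gensE2_mem : allG (fun e => anyW gens2 wsK2 e) gensE2 = true := by decide +kernel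

theorem gensE2_comm :
    allG (fun e => allG (fun f => Nat.beq (mulC e f) (mulC f e)) gensE2) gensE2 = true := by
  decide +kernel

/-- Generators of the abelian normal subgroup at node `5`. -/
def gensE5 : List ℕ := [11513089, 8483678, 7806498]

/-- Words for these generators. -/
def wsK5 : List (List ℕ) := [[0, 0, 1, 0, 0, 1, 0, 0, 1], [0, 1, 0, 0, 1, 0, 0, 1, 0], [1, 0, 0, 1, 0, 0, 1, 0, 0]]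

/-- Words for the elements of the abelian normal subgroup. -/
def wsE5 : List (List ℕ) := [[0], [1], [2], [0, 1], [0, 2], [1, 2], [0, 1, 2]]

theorem gensE5_valid : allG validC gensE5 = true := by decide +kernel

theorem gensE5_mem : allG (fun e => anyW gens5 wsK5 e) gensE5 = true := by decide +kernel

theorem gensE5_comm :
    allG (fun e => allG (fun f => Nat.beq (mulC e f) (mulC f e)) gensE5) gensE5 = true := by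
  decide +kernel

/-- Words for the elements of the group of node `3`. -/
def WL3 : List (List ℕ) := [[], [0], [1], [0, 0], [0, 1], [1, 0], [1, 1], [0, 0, 0], [0, 0, 1], [0, 1, 0], [0, 1, 1], [1, 0, 0], [1, 0, 1], [1, 1, 0], [1, 1, 1], [0, 0, 0, 0], [0, 0, 0, 1], [0, 0, 1, 0], [0, 0, 1, 1], [0, 1, 0, 0], [0, 1, 0, 1], [0, 1, 1, 0], [0, 1, 1, 1], [1, 0, 0, 0], [1, 0, 0, 1], [1, 0, 1, 0], [1, 0, 1, 1], [1, 1, 0, 0], [1, 1, 0, 1], [1, 1, 1, 0], [1, 1, 1, 1], [0, 0, 0, 0, 0], [0, 0, 0, 0, 1], [0, 0, 0, 1, 0], [0, 0, 0, 1, 1], [0, 0, 1, 0, 0], [0, 0, 1, 0, 1], [0, 0, 1, 1, 0], [0, 0, 1, 1, 1], [0, 1, 0, 0, 0], [0, 1, 0, 0, 1], [0, 1, 0, 1, 0], [0, 1, 0, 1, 1], [0, 1, 1, 0, 0], [0, 1, 1, 0, 1], [0, 1, 1, 1, 0], [0, 1, 1, 1, 1], [1,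 0, 0, 0, 0], [1, 0, 0, 0, 1], [1, 0, 0, 1, 0], [1, 0, 0, 1, 1], [1, 0, 1, 0, 0], [1, 0, 1, 0, 1], [1, 0, 1, 1, 0], [1, 0, 1, 1, 1], [1, 1, 0, 0, 0], [1, 1, 0, 0, 1], [1, 1, 0, 1, 0], [1, 1, 0, 1, 1], [1, 1, 1, 0, 0], [1, 1, 1, 0, 1], [1, 1, 1, 1, 0], [1, 1, 1, 1, 1], [0, 0, 0, 0, 0, 0], [0, 0, 0, 0, 0, 1], [0, 0, 0, 0, 1, 0], [0, 0, 0, 0, 1, 1], [0, 0, 0, 1, 0, 0], [0, 0, 0, 1, 0, 1], [0, 0, 0, 1, 1, 0], [0, 0, 0, 1, 1, 1], [0, 0, 1, 0, 0, 0], [0, 0, 1, 0, 0, 1], [0, 0, 1, 0, 1, 0], [0, 0, 1, 0, 1, 1], [0, 0, 1, 1, 1, 0], [0, 0, 1, 1, 1, 1], [0, 1, 0, 0, 0, 0], [0, 1, 0, 0, 0, 1], [0, 1, 0, 1, 0, 0], [0, 1, 0, 1, 0, 1], [0, 1, 0, 1, 1, 0], [0, 1, 0, 1, 1, 1], [0, 1, 1, 0, 0, 0], [0, 1, 1, 0, 0, 1], [0, 1, 1, 0, 1, 0], [0, 1,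 1, 0, 1, 1], [0, 1, 1, 1, 0, 0], [0, 1, 1, 1, 0, 1], [0, 1, 1, 1, 1, 0], [0, 1, 1, 1, 1, 1], [1, 0, 0, 0, 0, 0], [1, 0, 0, 0, 0, 1], [1, 0, 0, 0, 1, 0], [1, 0, 0, 0, 1, 1], [1, 0, 0, 1, 0, 0], [1, 0, 0, 1, 0, 1], [1, 0, 1, 0, 0, 0], [1, 0, 1, 0, 0, 1], [1, 0, 1, 0, 1, 0], [1, 0, 1, 0, 1, 1], [1, 0, 1, 1, 1, 0], [1, 0, 1, 1, 1, 1], [1, 1, 0, 0, 0, 0], [1, 1, 0, 0, 0, 1], [1, 1, 0, 1, 0, 0], [1, 1, 0, 1, 0, 1], [1, 1, 0, 1, 1, 0], [1, 1, 0, 1, 1, 1], [1, 1, 1, 0, 1, 0], [1, 1, 1, 0, 1, 1], [1, 1, 1, 1, 0, 0], [1, 1, 1, 1, 0, 1], [1, 1, 1, 1, 1, 0], [1, 1, 1, 1, 1, 1], [0, 0, 0, 0, 0, 0, 1], [0, 0, 0, 0, 0, 1, 0], [0, 0, 0, 0, 0, 1, 1], [0, 0, 0, 0, 1, 0, 0], [0, 0, 0, 0, 1, 0, 1], [0, 0, 0, 1, 0, 1, 0], [0, 0, 0, 1, 0, 1, 1],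 [0, 0, 1, 0, 0, 0, 0], [0, 0, 1, 0, 0, 0, 1], [0, 0, 1, 0, 1, 1, 0], [0, 0, 1, 0, 1, 1, 1], [0, 0, 1, 1, 1, 1, 0], [0, 0, 1, 1, 1, 1, 1], [0, 1, 0, 0, 0, 0, 0], [0, 1, 0, 0, 0, 0, 1], [0, 1, 0, 1, 0, 0, 0], [0, 1, 0, 1, 0, 0, 1], [0, 1, 0, 1, 1, 1, 0], [0, 1, 0, 1, 1, 1, 1], [0, 1, 1, 0, 1, 0, 0], [0, 1, 1, 0, 1, 0, 1], [0, 1, 1, 1, 0, 1, 0], [0, 1, 1, 1, 0, 1, 1], [0, 1, 1, 1, 1, 0, 0], [0, 1, 1, 1, 1, 0, 1], [0, 1, 1, 1, 1, 1, 0], [0, 1, 1, 1, 1, 1, 1], [1, 0, 0, 0, 0, 1, 0], [1, 0, 0, 0, 0, 1, 1], [1, 0, 0, 1, 0, 1, 0], [1, 0, 0, 1, 0, 1, 1], [1, 0, 1, 0, 1, 1, 0], [1, 0, 1, 0, 1, 1, 1], [1, 0, 1, 1, 1, 1, 0], [1, 0, 1, 1, 1, 1, 1], [1, 1, 0, 0, 0, 0, 0], [1, 1, 0, 0, 0, 0, 1], [1, 1, 0, 1, 0, 0, 0], [1, 1, 0, 1, 0, 0, 1],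 [1, 1, 1, 0, 1, 0, 0], [1, 1, 1, 0, 1, 0, 1], [1, 1, 1, 1, 1, 0, 0], [1, 1, 1, 1, 1, 0, 1], [0, 0, 0, 0, 0, 0, 1, 0], [0, 0, 0, 0, 0, 0, 1, 1], [0, 0, 1, 1, 1, 1, 1, 0], [0, 0, 1, 1, 1, 1, 1, 1], [0, 1, 1, 1, 1, 1, 0, 0], [0, 1, 1, 1, 1, 1, 0, 1], [1, 0, 1, 1, 1, 1, 1, 0], [1, 0, 1, 1, 1, 1, 1, 1], [0, 0, 1, 1, 1, 1, 1, 0, 0], [0, 0, 1, 1, 1, 1, 1, 0, 1]]

theorem WL3_nodup : nodupB (WL3.map (evalW gens3)) = true := by decide +kernel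

theorem WL3_length : WL3.length = 168 := by decide +kernel

/-- Words for the elements of the group of node `4`. -/
def WL4 : List (List ℕ) := [[], [0], [1], [0, 0], [0, 1], [1, 0], [1, 1], [0, 0, 0], [0, 0, 1], [0, 1, 0], [0, 1, 1], [1, 0, 0], [1, 0, 1], [1, 1, 0], [1, 1, 1], [0, 0, 0, 0], [0, 0, 0, 1], [0, 0, 1, 0], [0, 0, 1, 1], [0, 1, 0, 0], [0, 1, 0, 1], [0, 1, 1, 0], [0, 1, 1, 1], [1, 0, 0, 0], [1, 0, 0, 1], [1, 0, 1, 0], [1, 0, 1, 1], [1, 1, 0, 0], [1, 1, 0, 1], [1, 1, 1, 0], [1, 1, 1, 1], [0, 0, 0, 0, 0], [0, 0, 0, 0, 1], [0, 0, 0, 1, 0], [0, 0, 0, 1, 1], [0, 0, 1, 0, 1], [0, 0, 1, 1, 0], [0, 0, 1, 1, 1], [0, 1, 0, 0, 0], [0, 1, 0, 0, 1], [0, 1, 0, 1, 0], [0, 1, 0, 1, 1], [0, 1, 1, 0, 0], [0, 1, 1, 0, 1], [0, 1, 1,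 1, 0], [0, 1, 1, 1, 1], [1, 0, 0, 0, 0], [1, 0, 0, 0, 1], [1, 0, 0, 1, 0], [1, 0, 0, 1, 1], [1, 0, 1, 0, 0], [1, 0, 1, 0, 1], [1, 0, 1, 1, 0], [1, 1, 0, 0, 0], [1, 1, 0, 0, 1], [1, 1, 0, 1, 0], [1, 1, 1, 0, 0], [1, 1, 1, 1, 0], [1, 1, 1, 1, 1], [0, 0, 0, 0, 0, 0], [0, 0, 0, 0, 0, 1], [0, 0, 0, 0, 1, 0], [0, 0, 0, 0, 1, 1], [0, 0, 0, 1, 1, 0], [0, 0, 0, 1, 1, 1], [0, 0, 1, 0, 1, 0], [0, 0, 1, 0, 1, 1], [0, 0, 1, 1, 0, 1], [0, 0, 1, 1, 1, 0], [0, 0, 1, 1, 1, 1], [0, 1, 0, 0, 0, 0], [0, 1, 0, 0, 0, 1], [0, 1, 0, 0, 1, 0], [0, 1, 0, 0, 1, 1], [0, 1, 0, 1, 0, 0], [0, 1, 0, 1, 0, 1], [0, 1, 0, 1, 1, 0], [0, 1, 1, 0, 0, 0], [0, 1, 1, 0, 0, 1], [0, 1, 1, 0, 1, 0], [0, 1, 1, 1, 0, 0], [0, 1, 1, 1, 1, 1], [1, 0, 0, 0, 0, 0], [1, 0, 0,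 0, 1, 0], [1, 0, 0, 0, 1, 1], [1, 0, 0, 1, 0, 1], [1, 0, 0, 1, 1, 0], [1, 0, 0, 1, 1, 1], [1, 0, 1, 0, 0, 1], [1, 0, 1, 0, 1, 0], [1, 0, 1, 0, 1, 1], [1, 0, 1, 1, 0, 0], [1, 0, 1, 1, 0, 1], [1, 1, 0, 0, 0, 0], [1, 1, 0, 0, 0, 1], [1, 1, 0, 0, 1, 0], [1, 1, 0, 1, 0, 0], [1, 1, 0, 1, 0, 1], [1, 1, 1, 0, 0, 0], [1, 1, 1, 0, 0, 1], [1, 1, 1, 1, 0, 0], [1, 1, 1, 1, 1, 0], [1, 1, 1, 1, 1, 1], [0, 0, 0, 0, 0, 0, 1], [0, 0, 0, 0, 0, 1, 0], [0, 0, 0, 0, 1, 1, 1], [0, 0, 0, 1, 1, 1, 0], [0, 0, 0, 1, 1, 1, 1], [0, 0, 1, 0, 1, 0, 1], [0, 0, 1, 0, 1, 1, 0], [0, 0, 1, 1, 0, 1, 0], [0, 1, 0, 0, 0, 0, 0], [0, 1, 0, 0, 0, 1, 1], [0, 1, 0, 0, 1, 0, 1], [0, 1, 0, 0, 1, 1, 0], [0, 1, 0, 1, 0, 1, 0], [0, 1, 0, 1, 0, 1, 1], [0, 1, 0, 1, 1, 0, 0],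 [0, 1, 0, 1, 1, 0, 1], [0, 1, 1, 0, 0, 0, 1], [0, 1, 1, 0, 0, 1, 0], [0, 1, 1, 0, 1, 0, 0], [0, 1, 1, 1, 0, 0, 0], [0, 1, 1, 1, 0, 0, 1], [0, 1, 1, 1, 1, 1, 0], [0, 1, 1, 1, 1, 1, 1], [1, 0, 0, 0, 0, 0, 0], [1, 0, 0, 0, 0, 0, 1], [1, 0, 0, 0, 1, 1, 0], [1, 0, 0, 1, 0, 1, 1], [1, 0, 0, 1, 1, 0, 1], [1, 0, 0, 1, 1, 1, 0], [1, 0, 1, 0, 0, 1, 0], [1, 0, 1, 0, 0, 1, 1], [1, 0, 1, 0, 1, 0, 0], [1, 0, 1, 1, 0, 0, 1], [1, 0, 1, 1, 0, 1, 0], [1, 1, 0, 0, 0, 1, 0], [1, 1, 0, 0, 1, 0, 1], [1, 1, 0, 1, 0, 0, 1], [1, 1, 0, 1, 0, 1, 0], [1, 1, 1, 0, 0, 0, 0], [1, 1, 1, 1, 0, 0, 0], [1, 1, 1, 1, 1, 1, 0], [0, 0, 0, 0, 0, 0, 1, 0], [0, 0, 0, 0, 1, 1, 1, 0], [0, 0, 0, 0, 1, 1, 1, 1], [0, 0, 1, 0, 1, 0, 1, 0], [0, 0, 1, 0, 1, 0, 1, 1], [0, 0,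 1, 0, 1, 1, 0, 0], [0, 0, 1, 0, 1, 1, 0, 1], [0, 0, 1, 1, 0, 1, 0, 0], [0, 1, 0, 0, 0, 0, 0, 0], [0, 1, 0, 0, 0, 0, 0, 1], [0, 1, 0, 0, 0, 1, 1, 0], [0, 1, 0, 0, 1, 0, 1, 1], [0, 1, 0, 0, 1, 1, 0, 1], [0, 1, 0, 1, 0, 1, 0, 0], [0, 1, 1, 0, 0, 0, 1, 0], [0, 1, 1, 0, 1, 0, 0, 1], [0, 1, 1, 1, 0, 0, 0, 0], [0, 1, 1, 1, 1, 1, 1, 0], [1, 0, 0, 0, 0, 0, 1, 0], [1, 0, 0, 1, 0, 1, 1, 0], [1, 0, 1, 1, 0, 0, 1, 0], [1, 0, 1, 1, 0, 1, 0, 0], [1, 1, 0, 1, 0, 0, 1, 0], [1, 1, 1, 1, 0, 0, 0, 0]]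

theorem WL4_nodup : nodupB (WL4.map (evalW gens4)) = true := by decide +kernel

theorem WL4_length : WL4.length = 168 := by decide +kernel

/-- Words for the elements of the group of node `7`. -/
def WL7 : List (List ℕ) := [[], [0], [1], [0, 0], [0, 1], [1, 0], [1, 1], [0, 0, 0], [0, 0, 1], [0, 1, 0], [0, 1, 1], [1, 0, 0], [1, 0, 1], [1, 1, 0], [1, 1, 1], [0, 0, 0, 1], [0, 0, 1, 0], [0, 0, 1, 1], [0, 1, 0, 0], [0, 1, 1, 0], [0, 1, 1, 1], [1, 0, 0, 0], [1, 0, 0, 1], [1, 0, 1, 1], [1, 1, 0, 0], [1, 1, 0, 1], [1, 1, 1, 0], [0, 0, 0, 1, 0], [0, 0, 0, 1, 1], [0, 0, 1, 0, 0], [0, 0, 1, 1, 0], [0, 0, 1, 1, 1], [0, 1, 0, 0, 0], [0, 1, 0, 0, 1], [0, 1, 1, 0, 0], [0, 1, 1, 0, 1], [0, 1, 1, 1, 0], [1, 0, 0, 0, 1], [1, 0, 0, 1, 0], [1,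 0, 0, 1, 1], [1, 0, 1, 1, 0], [1, 0, 1, 1, 1], [1, 1, 0, 0, 1], [1, 1, 1, 0, 1], [0, 0, 0, 1, 0, 0], [0, 0, 0, 1, 1, 0], [0, 0, 0, 1, 1, 1], [0, 0, 1, 0, 0, 0], [0, 0, 1, 0, 0, 1], [0, 0, 1, 1, 0, 1], [0, 1, 0, 0, 0, 1], [0, 1, 0, 0, 1, 1], [0, 1, 1, 0, 0, 1], [0, 1, 1, 1, 0, 1], [1, 0, 0, 0, 1, 0], [1, 0, 0, 1, 0, 0], [1, 0, 1, 1, 0, 0], [1, 0, 1, 1, 1, 0], [1, 1, 0, 0, 1, 0], [0, 1, 0, 0, 0, 1, 0]]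

theorem WL7_nodup : nodupB (WL7.map (evalW gens7)) = true := by decide +kernel

theorem WL7_length : WL7.length = 60 := by decide +kernel

/-- Words for the elements of the group of node `8`. -/
def WL8 : List (List ℕ) := [[], [0], [1], [0, 0], [0, 1], [1, 0], [1, 1], [0, 0, 0], [0, 0, 1], [0, 1, 0], [0, 1, 1], [1, 0, 0], [1, 0, 1], [1, 1, 0], [1, 1, 1], [0, 0, 0, 0], [0, 0, 0, 1], [0, 0, 1, 0], [0, 0, 1, 1], [0, 1, 0, 0], [0, 1, 0, 1], [0, 1, 1, 0], [0, 1, 1, 1], [1, 0, 0, 0], [1, 0, 0, 1], [1, 0, 1, 0], [1, 0, 1, 1], [1, 1, 0, 0], [1, 1, 0, 1], [1, 1, 1, 0], [1, 1, 1, 1], [0, 0, 0, 0, 1], [0, 0, 0, 1, 0], [0, 0, 0, 1, 1], [0, 0, 1, 1, 0], [0, 0, 1, 1, 1], [0, 1, 0, 0, 0], [0, 1, 0, 0, 1], [0, 1, 1, 0, 0], [0, 1, 1, 0, 1],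 [0, 1, 1, 1, 0], [0, 1, 1, 1, 1], [1, 0, 0, 1, 0], [1, 0, 0, 1, 1], [1, 0, 1, 1, 0], [1, 0, 1, 1, 1], [1, 1, 0, 0, 0], [1, 1, 0, 0, 1], [1, 1, 1, 0, 0], [1, 1, 1, 0, 1], [0, 0, 0, 0, 1, 0], [0, 0, 0, 0, 1, 1], [0, 0, 1, 1, 1, 0], [0, 0, 1, 1, 1, 1], [0, 1, 1, 1, 0, 0], [0, 1, 1, 1, 0, 1], [1, 0, 1, 1, 1, 0], [1, 0, 1, 1, 1, 1], [0, 0, 1, 1, 1, 0, 0], [0, 0, 1, 1, 1, 0, 1]]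

theorem WL8_nodup : nodupB (WL8.map (evalW gens8)) = true := by decide +kernel

theorem WL8_length : WL8.length = 60 := by decide +kernel

/-- Words for the elements of the group of node `9`. -/
def WL9 : List (List ℕ) := [[], [0], [1], [0, 0], [0, 1], [1, 0], [1, 1], [0, 0, 0], [0, 0, 1], [0, 1, 0], [0, 1, 1], [1, 0, 0], [1, 0, 1], [1, 1, 0], [1, 1, 1], [0, 0, 0, 0], [0, 0, 0, 1], [0, 0, 1, 0], [0, 0, 1, 1], [0, 1, 0, 0], [0, 1, 0, 1], [0, 1, 1, 0], [0, 1, 1, 1], [1, 0, 0, 0], [1, 0, 0, 1], [1, 0, 1, 0], [1, 0, 1, 1], [1, 1, 0, 0], [1, 1, 0, 1], [1, 1, 1, 0], [1, 1, 1, 1], [0, 0, 0, 0, 1], [0, 0, 0, 1, 0], [0, 0, 0, 1, 1], [0, 0, 1, 0, 0], [0, 0, 1, 0, 1], [0, 0, 1, 1, 0], [0, 0, 1, 1, 1], [0, 1, 0, 0, 0], [0, 1, 0, 0, 1],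 [0, 1, 0, 1, 1], [0, 1, 1, 0, 0], [0, 1, 1, 0, 1], [0, 1, 1, 1, 0], [0, 1, 1, 1, 1], [1, 0, 0, 0, 0], [1, 0, 0, 0, 1], [1, 0, 0, 1, 0], [1, 0, 0, 1, 1], [1, 0, 1, 0, 0], [1, 0, 1, 1, 0], [1, 0, 1, 1, 1], [1, 1, 0, 0, 0], [1, 1, 0, 0, 1], [1, 1, 0, 1, 0], [1, 1, 0, 1, 1], [1, 1, 1, 0, 0], [1, 1, 1, 0, 1], [1, 1, 1, 1, 0], [0, 0, 0, 0, 1, 0], [0, 0, 0, 0, 1, 1], [0, 0, 0, 1, 0, 0], [0, 0, 0, 1, 0, 1], [0, 0, 0, 1, 1, 0], [0, 0, 0, 1, 1, 1], [0, 0, 1, 0, 0, 0], [0, 0, 1, 0, 0, 1], [0, 0, 1, 0, 1, 1], [0, 0, 1, 1, 0, 0], [0, 0, 1, 1, 0, 1], [0, 0, 1, 1, 1, 0], [0, 0, 1, 1, 1, 1], [0, 1, 0, 0, 0, 0], [0, 1, 0, 0, 0, 1], [0, 1, 0, 0, 1, 0], [0, 1, 0, 0, 1, 1], [0, 1, 0, 1, 1, 0], [0, 1, 0, 1, 1, 1], [0, 1, 1, 0, 0, 0], [0, 1, 1, 0,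 0, 1], [0, 1, 1, 0, 1, 0], [0, 1, 1, 0, 1, 1], [0, 1, 1, 1, 0, 0], [0, 1, 1, 1, 0, 1], [0, 1, 1, 1, 1, 0], [1, 0, 0, 0, 1, 1], [1, 0, 0, 1, 0, 0], [1, 0, 0, 1, 1, 1], [1, 0, 1, 0, 0, 0], [1, 0, 1, 1, 0, 0], [1, 0, 1, 1, 1, 1], [1, 1, 0, 0, 0, 0], [1, 1, 0, 0, 0, 1], [1, 1, 0, 0, 1, 0], [1, 1, 0, 0, 1, 1], [1, 1, 0, 1, 0, 0], [1, 1, 0, 1, 1, 0], [1, 1, 0, 1, 1, 1], [1, 1, 1, 0, 0, 0], [1, 1, 1, 0, 0, 1], [1, 1, 1, 0, 1, 0], [1, 1, 1, 0, 1, 1], [1, 1, 1, 1, 0, 0], [1, 1, 1, 1, 0, 1], [0, 0, 0, 0, 1, 0, 0], [0, 0, 0, 0, 1, 0, 1], [0, 0, 0, 0, 1, 1, 0], [0, 0, 0, 0, 1, 1, 1], [0, 0, 0, 1, 0, 0, 0], [0, 0, 0, 1, 0, 0, 1], [0, 0, 0, 1, 0, 1, 1], [0, 0, 0, 1, 1, 0, 0], [0, 0, 0, 1, 1, 0, 1], [0, 0, 0, 1, 1, 1, 0], [0, 0, 0, 1, 1, 1,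 1], [0, 0, 1, 0, 0, 0, 0], [0, 0, 1, 0, 0, 0, 1], [0, 0, 1, 0, 0, 1, 0], [0, 0, 1, 0, 0, 1, 1], [0, 0, 1, 0, 1, 1, 1], [0, 0, 1, 1, 0, 0, 0], [0, 0, 1, 1, 0, 0, 1], [0, 0, 1, 1, 0, 1, 0], [0, 0, 1, 1, 0, 1, 1], [0, 0, 1, 1, 1, 0, 0], [0, 0, 1, 1, 1, 0, 1], [0, 0, 1, 1, 1, 1, 0], [0, 1, 0, 0, 0, 1, 1], [0, 1, 0, 0, 1, 0, 0], [0, 1, 0, 0, 1, 1, 1], [0, 1, 0, 1, 1, 0, 0], [0, 1, 0, 1, 1, 1, 1], [0, 1, 1, 0, 0, 0, 0], [0, 1, 1, 0, 0, 0, 1], [0, 1, 1, 0, 0, 1, 0], [0, 1, 1, 0, 0, 1, 1], [0, 1, 1, 0, 1, 1, 0], [0, 1, 1, 0, 1, 1, 1], [0, 1, 1, 1, 0, 0, 0], [0, 1, 1, 1, 0, 0, 1], [0, 1, 1, 1, 0, 1, 0], [0, 1, 1, 1, 0, 1, 1], [0, 1, 1, 1, 1, 0, 0], [0, 1, 1, 1, 1, 0, 1], [1, 0, 0, 0, 1, 1, 0], [1, 0, 0, 0, 1, 1, 1], [1, 0, 0, 1, 0, 0,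 0], [1, 0, 0, 1, 0, 0, 1], [1, 0, 0, 1, 1, 1, 0], [1, 0, 0, 1, 1, 1, 1], [1, 0, 1, 0, 0, 0, 0], [1, 0, 1, 0, 0, 0, 1], [1, 0, 1, 1, 0, 0, 0], [1, 0, 1, 1, 0, 0, 1], [1, 0, 1, 1, 1, 1, 0], [1, 1, 0, 0, 1, 1, 1], [1, 1, 0, 1, 0, 0, 0], [1, 1, 0, 1, 1, 1, 1], [1, 1, 1, 0, 0, 0, 0], [1, 1, 1, 0, 0, 0, 1], [1, 1, 1, 0, 0, 1, 0], [1, 1, 1, 0, 0, 1, 1], [1, 1, 1, 0, 1, 0, 0], [1, 1, 1, 0, 1, 1, 0], [1, 1, 1, 0, 1, 1, 1], [1, 1, 1, 1, 0, 0, 0], [1, 1, 1, 1, 0, 0, 1], [1, 1, 1, 1, 0, 1, 0], [1, 1, 1, 1, 0, 1, 1], [0, 0, 0, 0, 1, 0, 0, 0], [0, 0, 0, 0, 1, 0, 0, 1], [0, 0, 0, 0, 1, 0, 1, 1], [0, 0, 0, 0, 1, 1, 0, 0], [0, 0, 0, 0, 1, 1, 0, 1], [0, 0, 0, 0, 1, 1, 1, 0], [0, 0, 0, 1, 0, 0, 0, 0], [0, 0, 0, 1, 0, 0, 0, 1], [0, 0, 0, 1, 0,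 0, 1, 1], [0, 0, 0, 1, 0, 1, 1, 1], [0, 0, 0, 1, 1, 0, 0, 0], [0, 0, 0, 1, 1, 0, 0, 1], [0, 0, 0, 1, 1, 0, 1, 0], [0, 0, 0, 1, 1, 0, 1, 1], [0, 0, 0, 1, 1, 1, 0, 0], [0, 0, 0, 1, 1, 1, 0, 1], [0, 0, 0, 1, 1, 1, 1, 0], [0, 0, 1, 0, 0, 0, 1, 1], [0, 0, 1, 0, 0, 1, 0, 0], [0, 0, 1, 0, 0, 1, 1, 1], [0, 0, 1, 0, 1, 1, 1, 1], [0, 0, 1, 1, 0, 0, 0, 0], [0, 0, 1, 1, 0, 0, 0, 1], [0, 0, 1, 1, 0, 0, 1, 0], [0, 0, 1, 1, 0, 1, 1, 0], [0, 0, 1, 1, 0, 1, 1, 1], [0, 0, 1, 1, 1, 0, 0, 0], [0, 0, 1, 1, 1, 0, 0, 1], [0, 0, 1, 1, 1, 0, 1, 0], [0, 0, 1, 1, 1, 0, 1, 1], [0, 0, 1, 1, 1, 1, 0, 0], [0, 0, 1, 1, 1, 1, 0, 1], [0, 1, 0, 0, 0, 1, 1, 0], [0, 1, 0, 0, 0, 1, 1, 1], [0, 1, 0, 0, 1, 1, 1, 0], [0, 1, 0, 0, 1, 1, 1, 1], [0, 1, 0, 1, 1, 0, 0,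 0], [0, 1, 0, 1, 1, 0, 0, 1], [0, 1, 0, 1, 1, 1, 1, 0], [0, 1, 1, 0, 0, 1, 1, 1], [0, 1, 1, 0, 1, 1, 1, 1], [0, 1, 1, 1, 0, 0, 0, 0], [0, 1, 1, 1, 0, 0, 0, 1], [0, 1, 1, 1, 0, 0, 1, 0], [0, 1, 1, 1, 0, 0, 1, 1], [0, 1, 1, 1, 0, 1, 0, 0], [0, 1, 1, 1, 0, 1, 1, 1], [0, 1, 1, 1, 1, 0, 0, 0], [0, 1, 1, 1, 1, 0, 0, 1], [0, 1, 1, 1, 1, 0, 1, 0], [0, 1, 1, 1, 1, 0, 1, 1], [1, 0, 0, 0, 1, 1, 0, 0], [1, 0, 0, 0, 1, 1, 0, 1], [1, 0, 0, 0, 1, 1, 1, 0], [1, 0, 0, 0, 1, 1, 1, 1], [1, 0, 0, 1, 0, 0, 0, 0], [1, 0, 0, 1, 0, 0, 1, 1], [1, 0, 0, 1, 1, 1, 0, 0], [1, 0, 0, 1, 1, 1, 0, 1], [1, 0, 0, 1, 1, 1, 1, 0], [1, 0, 1, 0, 0, 0, 1, 1], [1, 0, 1, 1, 0, 0, 0, 0], [1, 0, 1, 1, 0, 0, 0, 1], [1, 0, 1, 1, 0, 0, 1, 1], [1, 0, 1, 1, 1, 1, 0, 0], [1,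 0, 1, 1, 1, 1, 0, 1], [1, 1, 0, 0, 1, 1, 1, 0], [1, 1, 0, 0, 1, 1, 1, 1], [1, 1, 0, 1, 0, 0, 0, 0], [1, 1, 0, 1, 0, 0, 0, 1], [1, 1, 0, 1, 1, 1, 1, 0], [1, 1, 1, 0, 1, 1, 1, 1], [1, 1, 1, 1, 0, 0, 0, 1], [1, 1, 1, 1, 0, 0, 1, 0], [1, 1, 1, 1, 0, 0, 1, 1], [1, 1, 1, 1, 0, 1, 0, 0], [1, 1, 1, 1, 0, 1, 1, 0], [1, 1, 1, 1, 0, 1, 1, 1], [0, 0, 0, 0, 1, 0, 0, 0, 0], [0, 0, 0, 0, 1, 0, 0, 0, 1], [0, 0, 0, 0, 1, 0, 0, 1, 1], [0, 0, 0, 0, 1, 0, 1, 1, 1], [0, 0, 0, 0, 1, 1, 0, 0, 0], [0, 0, 0, 0, 1, 1, 0, 0, 1], [0, 0, 0, 0, 1, 1, 0, 1, 1], [0, 0, 0, 0, 1, 1, 1, 0, 0], [0, 0, 0, 0, 1, 1, 1, 0, 1], [0, 0, 0, 1, 0, 0, 0, 1, 1], [0, 0, 0, 1, 0, 0, 1, 1, 1], [0, 0, 0, 1, 0, 1, 1, 1, 1], [0, 0, 0, 1, 1, 0, 0, 0, 0], [0, 0, 0, 1, 1, 0, 0, 0,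 1], [0, 0, 0, 1, 1, 0, 0, 1, 0], [0, 0, 0, 1, 1, 0, 1, 1, 0], [0, 0, 0, 1, 1, 0, 1, 1, 1], [0, 0, 0, 1, 1, 1, 0, 0, 1], [0, 0, 0, 1, 1, 1, 0, 1, 0], [0, 0, 0, 1, 1, 1, 0, 1, 1], [0, 0, 0, 1, 1, 1, 1, 0, 0], [0, 0, 1, 0, 0, 0, 1, 1, 1], [0, 0, 1, 0, 0, 1, 1, 1, 1], [0, 0, 1, 0, 1, 1, 1, 1, 0], [0, 0, 1, 1, 0, 1, 1, 1, 1], [0, 0, 1, 1, 1, 0, 0, 0, 0], [0, 0, 1, 1, 1, 0, 0, 0, 1], [0, 0, 1, 1, 1, 0, 0, 1, 0], [0, 0, 1, 1, 1, 0, 0, 1, 1], [0, 0, 1, 1, 1, 0, 1, 0, 0], [0, 0, 1, 1, 1, 0, 1, 1, 1], [0, 0, 1, 1, 1, 1, 0, 0, 0], [0, 0, 1, 1, 1, 1, 0, 0, 1], [0, 0, 1, 1, 1, 1, 0, 1, 0], [0, 1, 0, 0, 0, 1, 1, 0, 0], [0, 1, 0, 0, 0, 1, 1, 1, 1], [0, 1, 0, 0, 1, 1, 1, 0, 0], [0, 1, 0, 1, 1, 1, 1, 0, 0], [0, 1, 0, 1, 1, 1, 1, 0, 1], [0, 1,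 1, 0, 0, 1, 1, 1, 0], [0, 1, 1, 0, 0, 1, 1, 1, 1], [0, 1, 1, 0, 1, 1, 1, 1, 0], [0, 1, 1, 1, 0, 1, 1, 1, 1], [0, 1, 1, 1, 1, 0, 0, 0, 1], [0, 1, 1, 1, 1, 0, 0, 1, 1], [0, 1, 1, 1, 1, 0, 1, 0, 0], [0, 1, 1, 1, 1, 0, 1, 1, 0], [1, 0, 0, 0, 1, 1, 0, 0, 0], [1, 0, 0, 0, 1, 1, 0, 0, 1], [1, 0, 0, 0, 1, 1, 1, 0, 0], [1, 0, 0, 0, 1, 1, 1, 1, 0], [1, 0, 0, 1, 0, 0, 1, 1, 1], [1, 0, 0, 1, 1, 1, 0, 0, 0], [1, 0, 0, 1, 1, 1, 0, 1, 0], [1, 0, 0, 1, 1, 1, 1, 0, 0], [1, 0, 0, 1, 1, 1, 1, 0, 1], [1, 0, 1, 0, 0, 0, 1, 1, 0], [1, 0, 1, 0, 0, 0, 1, 1, 1], [1, 0, 1, 1, 0, 0, 1, 1, 1], [1, 0, 1, 1, 1, 1, 0, 0, 1], [1, 0, 1, 1, 1, 1, 0, 1, 0], [1, 0, 1, 1, 1, 1, 0, 1, 1], [1, 1, 0, 0, 1, 1, 1, 0, 0], [1, 1, 0, 0, 1, 1, 1, 0, 1], [1, 1, 0, 0, 1,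 1, 1, 1, 0], [1, 1, 0, 1, 0, 0, 0, 1, 1], [1, 1, 0, 1, 1, 1, 1, 0, 1], [0, 0, 0, 0, 1, 0, 0, 0, 1, 1], [0, 0, 0, 0, 1, 0, 0, 1, 1, 1], [0, 0, 0, 0, 1, 1, 0, 0, 0, 0], [0, 0, 0, 0, 1, 1, 0, 0, 0, 1], [0, 0, 0, 0, 1, 1, 0, 0, 1, 0], [0, 0, 0, 0, 1, 1, 0, 1, 1, 0], [0, 0, 0, 0, 1, 1, 0, 1, 1, 1], [0, 0, 0, 0, 1, 1, 1, 0, 0, 1], [0, 0, 0, 0, 1, 1, 1, 0, 1, 0], [0, 0, 0, 0, 1, 1, 1, 0, 1, 1], [0, 0, 0, 1, 0, 0, 1, 1, 1, 1], [0, 0, 0, 1, 0, 1, 1, 1, 1, 0], [0, 0, 0, 1, 1, 0, 1, 1, 1, 1], [0, 0, 0, 1, 1, 1, 0, 0, 1, 0], [0, 0, 0, 1, 1, 1, 0, 0, 1, 1], [0, 0, 0, 1, 1, 1, 0, 1, 0, 0], [0, 0, 0, 1, 1, 1, 1, 0, 0, 1], [0, 0, 1, 0, 0, 0, 1, 1, 1, 1], [0, 0, 1, 0, 1, 1, 1, 1, 0, 0], [0, 0, 1, 1, 0, 1, 1, 1, 1, 0], [0, 0, 1, 1, 1, 0, 1, 1,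 1, 1], [0, 0, 1, 1, 1, 1, 0, 0, 0, 1], [0, 0, 1, 1, 1, 1, 0, 1, 0, 0], [0, 1, 0, 0, 0, 1, 1, 0, 0, 0], [0, 1, 0, 0, 1, 1, 1, 0, 0, 0], [0, 1, 0, 1, 1, 1, 1, 0, 1, 1], [0, 1, 1, 0, 0, 1, 1, 1, 0, 0], [0, 1, 1, 0, 1, 1, 1, 1, 0, 1], [1, 0, 0, 0, 1, 1, 0, 0, 0, 1], [1, 0, 0, 0, 1, 1, 0, 0, 1, 0], [1, 0, 0, 0, 1, 1, 1, 0, 0, 1], [1, 0, 0, 0, 1, 1, 1, 1, 0, 0], [1, 0, 0, 1, 1, 1, 0, 0, 0, 1], [1, 0, 0, 1, 1, 1, 0, 1, 0, 0], [1, 0, 0, 1, 1, 1, 1, 0, 0, 0], [1, 0, 1, 1, 0, 0, 1, 1, 1, 0], [1, 0, 1, 1, 1, 1, 0, 0, 1, 1], [1, 0, 1, 1, 1, 1, 0, 1, 1, 0], [1, 1, 0, 0, 1, 1, 1, 1, 0, 1], [1, 1, 0, 1, 0, 0, 0, 1, 1, 0], [1, 1, 0, 1, 1, 1, 1, 0, 1, 0], [0, 0, 0, 0, 1, 1, 1, 0, 0, 1, 0], [0, 0, 0, 0, 1, 1, 1, 0, 0, 1, 1], [0, 1, 0, 0, 1, 1,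 1, 0, 0, 0, 1], [0, 1, 0, 1, 1, 1, 1, 0, 1, 1, 0], [0, 1, 1, 0, 1, 1, 1, 1, 0, 1, 0]]

theorem WL9_nodup : nodupB (WL9.map (evalW gens9)) = true := by decide +kernel

theorem WL9_length : WL9.length = 360 := by decide +kernel

theorem LL3_length : LL3.flatten.flatten.length = 168 := by decide +kernel

theorem LL4_length : LL4.flatten.flatten.length = 168 := by decide +kernel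

/-- The code of the odd involution `(2 3)(4 7)(5 6)`. -/
def tC : ℕ := 9925832

/-- The permutations fixing the points `0, …, 4`. -/
def Lker7 : List ℕ := [16434824, 12535432, 14141064, 16205448, 12306056, 14599816]

/-- The identity and the transposition `(6 7)`. -/
def Lker2 : List ℕ := [16434824, 14599816]

/-- Five involutions permuted by the normalizer of the group of node `8`. -/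
def E5L : List ℕ := [16362241, 16300074, 16404563, 16319324, 16258277]

theorem E5L_valid : allG validC E5L = true := by decide +kernel

theorem E5L_nodup : nodupB E5L = true := by decide +kernel


end Cfsg.Agent.H61.A8
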