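import Cfsg.Agent.H99.EmDefs2
import Cfsg.Agent.H61.TmXTransM
import Cfsg.Agent.H49.PtExTransP
import Cfsg.Agent.H19.PtExAnisoEx
import Cfsg.Agent.H19.TmAnisoIso
import Cfsg.Agent.H86.OtHalf

/-!
# S5990 piece G-ISO (helper61, for helper99): nondegenerate subspaces of the same even dimension
and the same type are isometric (any characteristic)

Each of the two subspaces is isometric to the standard plus space (`H49.PtEx.transP`) or to the
standard minus space for one fixed anisotropic binary form (`H61.Tm.transM_aux`).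
-/

set_option autoImplicit false
open scoped Matrix

namespace Cfsg.Agent.H61.Em

open Cfsg.Agent.H45 Cfsg.Agent.H42.Spd Cfsg.Agent.H42.Ti Cfsg.Agent.H48.Ep Cfsg.Agent.H77.Tq
  Cfsg.Agent.H77.Tm Cfsg.Agent.H99.Em Module

universe u v

section Model

variable {F : Type u} [Field F] {V : Type v} [AddCommGroup V] [Module F V]
  [FiniteDimensional F V]

/-- Coordinates on a subspace. -/
noncomputable def coord (W : Submodule F V) : ↥W ≃ₗ[F] (Fin (Module.finrank F ↥W) → F) :=
  (Module.finBasis F ↥W).equivFun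

/-- The quadratic form of `W` in coordinates. -/
noncomputable def modelQ (Q : QuadraticForm F V) (W : Submodule F V) :
    QuadraticForm F (Fin (Module.finrank F ↥W) → F) :=
  (Q.comp W.subtype).comp ((coord W).symm : (Fin (Module.finrank F ↥W) → F) →ₗ[F] ↥W)

theorem modelQ_apply (Q : QuadraticForm F V) (W : Submodule F V)
    (x : Fin (Module.finrank F ↥W) → F) : modelQ Q W x = Q (((coord W).symm x : ↥W) : V) := rfl

theorem modelQ_coord (Q : QuadraticForm F V) (W : Submodule F V) (w : ↥W) :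
    modelQ Q W (coord W w) = Q (w : V) := by
  rw [modelQ_apply, LinearEquiv.symm_apply_apply]

theorem modelQ_polar (Q : QuadraticForm F V) (W : Submodule F V)
    (x y : Fin (Module.finrank F ↥W) → F) :
    QuadraticMap.polar ⇑(modelQ Q W) x y
      = QuadraticMap.polar ⇑Q (((coord W).symm x : ↥W) : V) (((coord W).symm y : ↥W) : V) := by
  simp only [QuadraticMap.polar, modelQ_apply, map_add, Submodule.coe_add]

theorem modelQ_nondeg (Q : QuadraticForm F V) (W : Submodule F V) (hW : QNd Q W)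
    (x : Fin (Module.finrank F ↥W) → F)
    (hx : ∀ y, QuadraticMap.polar ⇑(modelQ Q W) x y = 0) : x = 0 := by
  have h1 : (((coord W).symm x : ↥W) : V) ∈ W ⊓ perp (QuadraticMap.polarBilin Q) W := by
    refine ⟨((coord W).symm x).2, ?_⟩
    intro u hu
    have h0 := hx (coord W ⟨u, hu⟩)
    rw [modelQ_polar, LinearEquiv.symm_apply_apply] at h0
    show QuadraticMap.polar ⇑Q u _ = 0
    rw [QuadraticMap.polar_comm]
    exact h0
  rw [hW] at h1
  have h2 : (coord W).symm x = 0 := Subtype.ext ((Submodule.mem_bot F).mp h1)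
  simpa using h2

/-- A totally singular subspace of the model gives one of `W` of the same dimension. -/
theorem qplus_of_model (Q : QuadraticForm F V) (W : Submodule F V) (t : ℕ)
    (ht : Module.finrank F ↥W = 2 * t)
    (M : Submodule F (Fin (Module.finrank F ↥W) → F)) (hM : ∀ x ∈ M, modelQ Q W x = 0)
    (hMd : Module.finrank F ↥M = t) : QPlus Q W := by
  refine ⟨(M.map ((coord W).symm : (Fin (Module.finrank F ↥W) → F) →ₗ[F] ↥W)).map W.subtype,
    ?_, ?_, ?_⟩
  · rintro _ ⟨w, -, rfl⟩
    exact w.2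
  · rintro _ ⟨w, ⟨x, hx, rfl⟩, rfl⟩
    have h0 := hM x hx
    rw [modelQ_apply] at h0
    exact h0
  · have h1 : Module.finrank F ↥((M.map ((coord W).symm :
        (Fin (Module.finrank F ↥W) → F) →ₗ[F] ↥W)).map W.subtype) = Module.finrank F ↥M := by
      rw [← (Submodule.equivMapOfInjective W.subtype W.injective_subtype _).finrank_eq,
        ← (Submodule.equivMapOfInjective _ (coord W).symm.injective M).finrank_eq]
    rw [h1, hMd, ht]

/-- Conversely. -/
theorem model_of_qplus (Q : QuadraticForm F V) (W : Submodule F V) (t : ℕ)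
    (ht : Module.finrank F ↥W = 2 * t) (h : QPlus Q W) :
    ∃ M : Submodule F (Fin (Module.finrank F ↥W) → F), (∀ x ∈ M, modelQ Q W x = 0) ∧
      Module.finrank F ↥M = t := by
  obtain ⟨U, hUW, hU, hUd⟩ := h
  refine ⟨(U.comap W.subtype).map ((coord W : ↥W →ₗ[F] (Fin (Module.finrank F ↥W) → F))), ?_, ?_⟩
  · rintro _ ⟨w, hw, rfl⟩
    rw [LinearEquiv.coe_coe, modelQ_coord]
    exact hU _ hw
  · rw [← (Submodule.equivMapOfInjective _ (coord W).injective _).finrank_eq,
      (Submodule.comapSubtypeEquivOfLe hUW).finrank_eq]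
    omega

end Model

/-- A model of a nondegenerate non-plus subspace has no totally singular subspace of half
dimension. -/
theorem model_ts_lt {F : Type u} [Field F] {V : Type v} [AddCommGroup V] [Module F V]
    [FiniteDimensional F V] (Q : QuadraticForm F V) (W₁ : Submodule F V) (t : ℕ)
    (hW₁ : QNd Q W₁) (ht₁ : Module.finrank F ↥W₁ = 2 * t) (hP₁ : ¬ QPlus Q W₁)
    (U : Submodule F (Fin (Module.finrank F ↥W₁) → F)) (hU : TS (modelQ Q W₁) U) :
    Module.finrank F ↥U < t := by
  by_contra hcon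
  push Not at hcon
  have hhalf := Cfsg.Agent.H86.Ot.oHalf F (Fin (Module.finrank F ↥W₁) → F)
    (QuadraticMap.polarBilin (modelQ Q W₁)) (fun x y => QuadraticMap.polar_comm _ x y) ⊤ U ?_
    le_top ?_
  · rw [finrank_top, Module.finrank_fin_fun] at hhalf
    exact hP₁ (qplus_of_model Q W₁ t ht₁ U hU (by omega))
  · rw [eq_bot_iff]
    rintro x ⟨-, hx⟩
    rw [Submodule.mem_bot]
    apply modelQ_nondeg Q W₁ hW₁ x
    intro y
    rw [QuadraticMap.polar_comm]
    exact hx y Submodule.mem_top
  · intro u hu v hv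
    show QuadraticMap.polar ⇑(modelQ Q W₁) u v = 0
    simp only [QuadraticMap.polar]
    rw [hU _ (U.add_mem hu hv), hU u hu, hU v hv]
    simp

/-- G-ISO. -/
theorem qIso : StQIso.{u,v} := by
  intro F _ _ V _ _ _ Q W W' hW hW' hdim hev hpl
  classical
  obtain ⟨t, ht⟩ : ∃ t, Module.finrank F ↥W = 2 * t := by
    obtain ⟨c, hc⟩ := hev
    exact ⟨c, by omega⟩
  have ht' : Module.finrank F ↥W' = 2 * t := by rw [← hdim]; exact ht
  have hfr : Module.finrank F (Fin (Module.finrank F ↥W) → F) = 2 * t := by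
    rw [Module.finrank_fin_fun]; exact ht
  have hfr' : Module.finrank F (Fin (Module.finrank F ↥W') → F) = 2 * t := by
    rw [Module.finrank_fin_fun]; exact ht'
  by_cases hP : QPlus Q W
  · have hP' := hpl.mp hP
    obtain ⟨M, hM, hMd⟩ := model_of_qplus Q W t ht hP
    obtain ⟨M', hM', hMd'⟩ := model_of_qplus Q W' t ht' hP'
    obtain ⟨e1, he1⟩ := Cfsg.Agent.H49.PtEx.transP F _ (modelQ Q W) t (modelQ_nondeg Q W hW) hfr
      ⟨M, hM, hMd⟩
    obtain ⟨e2, he2⟩ := Cfsg.Agent.H49.PtEx.transP F _ (modelQ Q W') t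
      (modelQ_nondeg Q W' hW') hfr' ⟨M', hM', hMd'⟩
    refine ⟨(coord W).trans (e1.trans (e2.symm.trans (coord W').symm)), ?_⟩
    intro w
    simp only [LinearEquiv.trans_apply]
    rw [← modelQ_apply, ← he2, LinearEquiv.apply_symm_apply, he1, modelQ_coord]
  · have hP' : ¬ QPlus Q W' := fun h => hP (hpl.mpr h)
    obtain ⟨a, b, hab⟩ := Cfsg.Agent.H19.PtEx.anisoEx F
    obtain ⟨e1, he1⟩ := Cfsg.Agent.H61.Tm.transM_aux Cfsg.Agent.H19.Tm.anisoIso F t a b _
      (modelQ Q W) hab hfr (modelQ_nondeg Q W hW) (model_ts_lt Q W t hW ht hP)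
    obtain ⟨e2, he2⟩ := Cfsg.Agent.H61.Tm.transM_aux Cfsg.Agent.H19.Tm.anisoIso F t a b _
      (modelQ Q W') hab hfr' (modelQ_nondeg Q W' hW') (model_ts_lt Q W' t hW' ht' hP')
    refine ⟨(coord W).trans (e1.trans (e2.symm.trans (coord W').symm)), ?_⟩
    intro w
    simp only [LinearEquiv.trans_apply]
    rw [← modelQ_apply, ← he2, LinearEquiv.apply_symm_apply, he1, modelQ_coord]

example : Cfsg.Agent.H99.Em.StQIso.{u,v} := qIso

end Cfsg.Agent.H61.Em

#print axioms Cfsg.Agent.H61.Em.qIso
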