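import Mathlib
import Cfsg.Agent.H92.F2Defs

/-!
# F2-FREE (helper92's S1353 project): the pure fixed-point formula `|V| = |C_V(D)| ^ |D|` for a
Frobenius-like group `B D` acting on an abelian group `V` with `C_V(B) = 1` (Vandermonde).
-/

set_option autoImplicit false

universe u

namespace Cfsg.Agent.H61.F2

open Cfsg Subgroup

/-- Vandermonde: a module-valued "polynomial" of degree `< n` vanishing at `n` nodes whose
pairwise differences act injectively is zero. -/
theorem vdm_inj {R M : Type*} [CommRing R] [AddCommGroup M] [Module R M] {n : ℕ} (v : Fin n → R)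
    (hinj : ∀ i j, i ≠ j → Function.Injective (fun m : M => (v i - v j) • m))
    (w : Fin n → M) (h : ∀ k, ∑ i : Fin n, v k ^ (i : ℕ) • w i = 0) (i : Fin n) : w i = 0 := by
  classical
  set A : Matrix (Fin n) (Fin n) R := Matrix.vandermonde v with hA
  have hAw : ∀ k, ∑ j, A k j • w j = 0 := by
    intro k
    simpa [hA, Matrix.vandermonde_apply] using h k
  have h2 : ∀ j, ∑ k, A.adjugate i k * A k j = if i = j then A.det else 0 := by
    intro j
    have h1 := congrFun (congrFun (Matrix.adjugate_mul A) i) j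
    simpa [Matrix.mul_apply, Matrix.one_apply, Matrix.smul_apply] using h1
  have hdet : A.det • w i = 0 := by
    calc A.det • w i = ∑ j, (if i = j then A.det else 0) • w j := by
          simp [ite_smul]
      _ = ∑ j, ∑ k, (A.adjugate i k * A k j) • w j := by
          refine Finset.sum_congr rfl (fun j _ => ?_)
          rw [← h2 j, Finset.sum_smul]
      _ = ∑ k, A.adjugate i k • ∑ j, A k j • w j := by
          rw [Finset.sum_comm]
          refine Finset.sum_congr rfl (fun k _ => ?_)
          rw [Finset.smul_sum]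
          refine Finset.sum_congr rfl (fun j _ => ?_)
          rw [mul_smul]
      _ = 0 := by simp [hAw]
  have hmulinj : ∀ a b : R, Function.Injective (fun m : M => a • m) →
      Function.Injective (fun m : M => b • m) → Function.Injective (fun m : M => (a * b) • m) := by
    intro a b ha hb
    have h3 : (fun m : M => (a * b) • m) = (fun m => a • m) ∘ (fun m => b • m) := by
      funext m; simp [mul_smul]
    rw [h3]; exact ha.comp hb
  have honeinj : Function.Injective (fun m : M => (1 : R) • m) := by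
    simp only [one_smul]; exact Function.injective_id
  have hdetinj : Function.Injective (fun m : M => A.det • m) := by
    rw [hA, Matrix.det_vandermonde]
    apply Finset.prod_induction _ (fun a : R => Function.Injective (fun m : M => a • m)) hmulinj
      honeinj
    intro i _
    apply Finset.prod_induction _ (fun a : R => Function.Injective (fun m : M => a • m)) hmulinj
      honeinj
    intro j hj
    exact hinj j i (ne_of_gt (Finset.mem_Ioi.mp hj))
  exact hdetinj (by simp [hdet])

/-- The abstract fixed-point formula: `D` acts on the finite abelian group `M` (through `ρ`),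
the nodes `y d` commute pairwise, have injective pairwise differences and are permuted by `ρ`. -/
theorem free_abs {M : Type*} [AddCommGroup M] [Finite M] {D : Type*} [Group D] [Finite D]
    (ρ y : D → Module.End ℤ M) (hρ1 : ρ 1 = 1) (hρmul : ∀ d e, ρ (d * e) = ρ d * ρ e)
    (hcomm : ∀ d e, y d * y e = y e * y d)
    (hinj : ∀ d e, d ≠ e → ∀ m, y d m = y e m → m = 0)
    (heq : ∀ e d, ρ e * y d = y (e * d) * ρ e) :
    Nat.card M = Nat.card {m : M // ∀ d, ρ d m = m} ^ Nat.card D := by
  classical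
  obtain ⟨n, hn⟩ : ∃ n, n = Nat.card D := ⟨_, rfl⟩
  have e : Fin n ≃ D := by rw [hn]; exact (Finite.equivFin D).symm
  obtain ⟨Φ, hΦ⟩ : ∃ Φ : (Fin n → M) → (D → M),
      ∀ w d, Φ w d = ∑ i : Fin n, (y d ^ (i : ℕ)) (w i) := ⟨_, fun _ _ => rfl⟩
  have hΦadd : ∀ w w', Φ (w - w') = Φ w - Φ w' := by
    intro w w'; funext d
    simp [hΦ, Finset.sum_sub_distrib]
  have hΦker : ∀ w, Φ w = 0 → w = 0 := by
    intro w hw
    have hs : ∀ a ∈ Set.range y, ∀ b ∈ Set.range y, a * b = b * a := by
      rintro _ ⟨d, rfl⟩ _ ⟨d', rfl⟩; exact hcomm d d'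
    letI : CommRing (Subring.closure (Set.range y)) := Subring.closureCommRingOfComm hs
    letI : Module (Subring.closure (Set.range y)) M :=
      Module.compHom M (Subring.closure (Set.range y)).subtype
    have hsmul : ∀ (a : Subring.closure (Set.range y)) (m : M),
        a • m = (a : Module.End ℤ M) m := fun a m => rfl
    funext i
    refine vdm_inj (R := Subring.closure (Set.range y))
      (fun k => ⟨y (e k), Subring.subset_closure ⟨e k, rfl⟩⟩) ?_ w ?_ i
    · intro i j hij m m' hmm
      simp only [hsmul] at hmm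
      have hmm' : (y (e i) - y (e j)) m = (y (e i) - y (e j)) m' := hmm
      simp only [LinearMap.sub_apply] at hmm'
      have h1 : y (e i) (m - m') = y (e j) (m - m') := by
        rw [map_sub, map_sub]
        exact sub_eq_sub_iff_sub_eq_sub.mp hmm'
      have h2 := hinj (e i) (e j) (fun h => hij (e.injective h)) (m - m') h1
      exact sub_eq_zero.mp h2
    · intro k
      have h1 := congrFun hw (e k)
      rw [hΦ] at h1
      simp only [hsmul]
      exact h1
  have hΦinj : Function.Injective Φ := by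
    intro w w' h
    have h1 := hΦker (w - w') (by rw [hΦadd, h, sub_self])
    exact sub_eq_zero.mp h1
  have hΦbij : Function.Bijective Φ := by
    apply hΦinj.bijective_of_nat_card_le
    rw [Nat.card_fun, Nat.card_fun, Nat.card_fin, hn]
  have heqpow : ∀ (e' d : D) (i : ℕ), ρ e' * y d ^ i = y (e' * d) ^ i * ρ e' := by
    intro e' d i
    induction i with
    | zero => simp
    | succ i ih => rw [pow_succ, ← mul_assoc, ih, mul_assoc, heq, ← mul_assoc, ← pow_succ]
  have heqpow' : ∀ (e' d : D) (i : ℕ) (m : M),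
      ρ e' ((y d ^ i) m) = (y (e' * d) ^ i) (ρ e' m) := by
    intro e' d i m
    have h1 := congrArg (fun f : Module.End ℤ M => f m) (heqpow e' d i)
    simpa [Module.End.mul_apply] using h1
  obtain ⟨θ, hθ⟩ : ∃ θ : (Fin n → {m : M // ∀ d, ρ d m = m}) → M,
      ∀ w, θ w = ∑ i : Fin n, (y 1 ^ (i : ℕ)) (w i).1 := ⟨_, fun _ => rfl⟩
  have hΦθ : ∀ (w : Fin n → {m : M // ∀ d, ρ d m = m}) (d : D),
      Φ (fun i => (w i).1) d = ρ d (θ w) := by
    intro w d
    rw [hΦ, hθ, map_sum]
    refine Finset.sum_congr rfl (fun i _ => ?_)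
    rw [heqpow', mul_one, (w i).2 d]
  have hθinj : Function.Injective θ := by
    intro w w' h
    have h1 : Φ (fun i => (w i).1) = Φ (fun i => (w' i).1) := by
      funext d; rw [hΦθ, hΦθ, h]
    have h2 := hΦinj h1
    funext i
    exact Subtype.ext (congrFun h2 i)
  have hθsurj : Function.Surjective θ := by
    intro m
    obtain ⟨w, hw⟩ := hΦbij.2 (fun d => ρ d m)
    have hwW : ∀ i d', ρ d' (w i) = w i := by
      intro i d'
      have h1 : Φ (fun i => ρ d' (w i)) = Φ w := by
        funext d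
        rw [hΦ]
        have h3 : ∀ i : Fin n, (y d ^ (i : ℕ)) (ρ d' (w i)) =
            ρ d' ((y (d'⁻¹ * d) ^ (i : ℕ)) (w i)) := by
          intro i
          rw [heqpow', mul_inv_cancel_left]
        rw [Finset.sum_congr rfl (fun i _ => h3 i), ← map_sum, ← hΦ, hw]
        show ρ d' (ρ (d'⁻¹ * d) m) = ρ d m
        rw [← Module.End.mul_apply, ← hρmul, mul_inv_cancel_left]
      exact congrFun (hΦinj h1) i
    refine ⟨fun i => ⟨w i, hwW i⟩, ?_⟩
    have h1 := hΦθ (fun i => ⟨w i, hwW i⟩) 1
    rw [hρ1] at h1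
    have h2 : Φ w 1 = ρ 1 m := congrFun hw 1
    rw [hρ1] at h2
    exact h1.symm.trans h2
  rw [← Nat.card_congr (Equiv.ofBijective θ ⟨hθinj, hθsurj⟩), Nat.card_fun, Nat.card_fin, hn]

/-- conjugation by `g ∈ N(V)` on `V` -/
def conjV {G : Type u} [Group G] (V : Subgroup G) (g : ↥(normalizer (V : Set G))) :
    ↥V →* ↥V where
  toFun v := ⟨(g : G) * v * (g : G)⁻¹, (mem_normalizer_iff.mp g.2 v).mp v.2⟩
  map_one' := by ext; simp
  map_mul' a b := by ext; simp [mul_assoc]

set_option maxHeartbeats 1000000 in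
theorem free : Cfsg.Agent.H92.F2.StFree.{u} := by
  intro G _ _ V B D r hr hB hVab hBV hDV hDB hDcB hVcB
  classical
  letI : CommGroup ↥V := { (inferInstance : Group ↥V) with
    mul_comm := fun a b => Subtype.ext (hVab a a.2 b b.2) }
  -- the conjugation endomorphisms of `Additive V`
  obtain ⟨cj, hcj⟩ : ∃ cj : ↥(normalizer (V : Set G)) → Module.End ℤ (Additive ↥V),
      ∀ (g : ↥(normalizer (V : Set G))) (m : Additive ↥V),
        ((Additive.toMul (cj g m) : ↥V) : G) = (g : G) * ((Additive.toMul m : ↥V) : G) * (g : G)⁻¹ :=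
    ⟨fun g => (MonoidHom.toAdditive (conjV V g)).toIntLinearMap, fun g m => rfl⟩
  have hext : ∀ m m' : Additive ↥V,
      ((Additive.toMul m : ↥V) : G) = ((Additive.toMul m' : ↥V) : G) → m = m' := by
    intro m m' h
    exact Additive.toMul.injective (Subtype.ext h)
  have hcj1 : cj 1 = 1 := by
    apply LinearMap.ext; intro m
    apply hext
    rw [hcj]; simp
  have hcjmul : ∀ g g', cj (g * g') = cj g * cj g' := by
    intro g g'
    apply LinearMap.ext; intro m
    apply hext
    rw [hcj, Module.End.mul_apply, hcj, hcj]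
    simp [mul_assoc]
  -- `B` is cyclic of prime order
  have hzp : ∀ c ∈ B, c ≠ 1 → zpowers c = B := by
    intro c hc hc1
    apply Subgroup.eq_of_le_of_card_ge ((zpowers_le).mpr hc)
    rw [Nat.card_zpowers, hB]
    have h1 : orderOf c ∣ r := by rw [← hB]; exact Subgroup.orderOf_dvd_natCard B hc
    rcases (Nat.dvd_prime hr).mp h1 with h2 | h2
    · exact absurd (orderOf_eq_one_iff.mp h2) hc1
    · exact le_of_eq h2.symm
  have hgen : ∀ c ∈ B, c ≠ 1 → ∀ x : G, c * x = x * c → x ∈ centralizer (B : Set G) := by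
    intro c hc hc1 x hcx
    rw [mem_centralizer_iff]
    intro h hh
    have hh' : h ∈ zpowers c := by rw [hzp c hc hc1]; exact hh
    obtain ⟨k, rfl⟩ := mem_zpowers_iff.mp hh'
    exact (Commute.zpow_left (show Commute c x from hcx) k).eq
  have hBne : B ≠ ⊥ := by
    rw [← Subgroup.one_lt_card_iff_ne_bot, hB]
    exact hr.one_lt
  obtain ⟨b, hb, hb1⟩ := (Subgroup.ne_bot_iff_exists_ne_one).mp hBne |>.imp
    (fun a ha => ha) |> fun ⟨a, ha⟩ => (⟨a.1, a.2, fun h => ha (Subtype.ext h)⟩ :
      ∃ b : G, b ∈ B ∧ b ≠ 1)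
  have hBab : ∀ g ∈ B, ∀ h ∈ B, g * h = h * g := by
    intro g hg h hh
    have hg' : g ∈ zpowers b := by rw [hzp b hb hb1]; exact hg
    have hh' : h ∈ zpowers b := by rw [hzp b hb hb1]; exact hh
    obtain ⟨k, rfl⟩ := mem_zpowers_iff.mp hg'
    obtain ⟨l, rfl⟩ := mem_zpowers_iff.mp hh'
    exact (Commute.zpow_zpow_self b k l).eq
  have hconjB : ∀ d ∈ D, d * b * d⁻¹ ∈ B := fun d hd =>
    (mem_normalizer_iff.mp (hDB hd) b).mp hb
  -- the data for `free_abs`
  obtain ⟨ι, hι⟩ : ∃ ι : ↥D →* ↥(normalizer (V : Set G)), ∀ d : ↥D, ((ι d : ↥(normalizer (V : Set G))) : G) = (d : G) :=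
    ⟨Subgroup.inclusion hDV, fun d => rfl⟩
  obtain ⟨ιb, hιb⟩ : ∃ ιb : ↥(normalizer (V : Set G)), (ιb : G) = b := ⟨⟨b, hBV hb⟩, rfl⟩
  have hyval : ∀ d : ↥D, ((ι d * ιb * (ι d)⁻¹ : ↥(normalizer (V : Set G))) : G) =
      (d : G) * b * (d : G)⁻¹ := by
    intro d
    simp [hι, hιb]
  have key := free_abs (M := Additive ↥V) (D := ↥D) (fun d => cj (ι d))
    (fun d => cj (ι d * ιb * (ι d)⁻¹))
    (by simp [hcj1])
    (by intro d e; simp [hcjmul])
    (by
      intro d e
      rw [← hcjmul, ← hcjmul]
      congr 1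
      apply Subtype.ext
      show ((ι d * ιb * (ι d)⁻¹ : ↥(normalizer (V : Set G))) : G) *
          ((ι e * ιb * (ι e)⁻¹ : ↥(normalizer (V : Set G))) : G) =
        ((ι e * ιb * (ι e)⁻¹ : ↥(normalizer (V : Set G))) : G) *
          ((ι d * ιb * (ι d)⁻¹ : ↥(normalizer (V : Set G))) : G)
      rw [hyval, hyval]
      exact hBab _ (hconjB d d.2) _ (hconjB e e.2))
    (by
      intro d e hde m hm
      have h1 := congrArg (fun z : Additive ↥V => ((Additive.toMul z : ↥V) : G)) hm
      simp only [hcj, hyval] at h1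
      -- `c = (e b e⁻¹)⁻¹ (d b d⁻¹)` commutes with `v`
      have hc : ((e : G) * b * (e : G)⁻¹)⁻¹ * ((d : G) * b * (d : G)⁻¹) *
          ((Additive.toMul m : ↥V) : G) = ((Additive.toMul m : ↥V) : G) *
          (((e : G) * b * (e : G)⁻¹)⁻¹ * ((d : G) * b * (d : G)⁻¹)) := by
        calc ((e : G) * b * (e : G)⁻¹)⁻¹ * ((d : G) * b * (d : G)⁻¹) *
              ((Additive.toMul m : ↥V) : G)
            = ((e : G) * b * (e : G)⁻¹)⁻¹ * (((d : G) * b * (d : G)⁻¹) *
              ((Additive.toMul m : ↥V) : G) * ((d : G) * b * (d : G)⁻¹)⁻¹) *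
              ((d : G) * b * (d : G)⁻¹) := by group
          _ = ((e : G) * b * (e : G)⁻¹)⁻¹ * (((e : G) * b * (e : G)⁻¹) *
              ((Additive.toMul m : ↥V) : G) * ((e : G) * b * (e : G)⁻¹)⁻¹) *
              ((d : G) * b * (d : G)⁻¹) := by rw [h1]
          _ = _ := by group
      have hcB : ((e : G) * b * (e : G)⁻¹)⁻¹ * ((d : G) * b * (d : G)⁻¹) ∈ B :=
        B.mul_mem (B.inv_mem (hconjB e e.2)) (hconjB d d.2)
      have hc1 : ((e : G) * b * (e : G)⁻¹)⁻¹ * ((d : G) * b * (d : G)⁻¹) ≠ 1 := by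
        intro h
        apply hde
        have h2 : b * ((e : G)⁻¹ * (d : G)) = ((e : G)⁻¹ * (d : G)) * b := by
          have h3 : (d : G) * b * (d : G)⁻¹ = (e : G) * b * (e : G)⁻¹ :=
            (inv_mul_eq_one.mp h).symm
          calc b * ((e : G)⁻¹ * (d : G)) = (e : G)⁻¹ * ((e : G) * b * (e : G)⁻¹) * (d : G) := by
                group
            _ = (e : G)⁻¹ * ((d : G) * b * (d : G)⁻¹) * (d : G) := by rw [h3]
            _ = _ := by group
        have h5 : (e : G)⁻¹ * (d : G) ∈ D ⊓ centralizer (B : Set G) :=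
          ⟨D.mul_mem (D.inv_mem e.2) d.2, hgen b hb hb1 _ h2⟩
        rw [hDcB, mem_bot] at h5
        apply Subtype.ext
        have h6 : (d : G) = (e : G) * ((e : G)⁻¹ * (d : G)) := by group
        rw [h6, h5, mul_one]
      have hv : ((Additive.toMul m : ↥V) : G) ∈ V ⊓ centralizer (B : Set G) :=
        ⟨(Additive.toMul m).2, hgen _ hcB hc1 _ hc⟩
      rw [hVcB, mem_bot] at hv
      apply hext
      rw [hv]
      rfl)
    (by
      intro e d
      rw [← hcjmul, ← hcjmul]
      congr 1
      rw [map_mul]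
      group)
  rw [← Nat.card_congr (Additive.toMul : Additive ↥V ≃ ↥V), key]
  congr 1
  apply Nat.card_congr
  exact
    { toFun := fun m => ⟨((Additive.toMul m.1 : ↥V) : G), (Additive.toMul m.1).2, by
        show ((Additive.toMul m.1 : ↥V) : G) ∈ centralizer (D : Set G)
        rw [mem_centralizer_iff]
        intro h hh
        have h1 := congrArg (fun z : Additive ↥V => ((Additive.toMul z : ↥V) : G)) (m.2 ⟨h, hh⟩)
        simp only [hcj, hι] at h1
        calc h * ((Additive.toMul m.1 : ↥V) : G)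
            = (h * ((Additive.toMul m.1 : ↥V) : G) * h⁻¹) * h := by group
          _ = ((Additive.toMul m.1 : ↥V) : G) * h := by rw [h1]⟩
      invFun := fun x => ⟨Additive.ofMul ⟨x.1, x.2.1⟩, by
        intro d
        apply hext
        rw [hcj, hι]
        have h1 := mem_centralizer_iff.mp x.2.2 (d : G) d.2
        show (d : G) * (x : G) * (d : G)⁻¹ = (x : G)
        rw [h1]; group⟩
      left_inv := fun m => rfl
      right_inv := fun x => rfl }

example : Cfsg.Agent.H92.F2.StFree.{u} := free

end Cfsg.Agent.H61.F2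

#print axioms Cfsg.Agent.H61.F2.free
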