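import Cfsg.Agent.H10.HO.Defs2

/-!
# HO-HG (helper61, for helper10's S2075 project)

An automorphism fixing `x, z, t` fixes the fourth generator `n` as well: `n⁻¹ β(n)` centralises `z` and
every word `d` in `x, z, t` whose `n`-conjugate is again such a word.
-/

set_option autoImplicit false

namespace Cfsg.Agent.H61.Ho

open Cfsg.Agent.H10.HO

universe u

/-- An automorphism fixing `x, z, t` fixes every word in them. -/
theorem evS_fixed {G : Type u} [Group G] (x z t : G) (β : MulAut G) (hx : β x = x) (hz : β z = z)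
    (ht : β t = t) : ∀ w : List ℕ, β (evS x z t w) = evS x z t w := by
  intro w
  induction w with
  | nil =>
    show β 1 = 1
    exact map_one β
  | cons a w ih =>
    match a with
    | 0 =>
      show β (x * evS x z t w) = x * evS x z t w
      rw [map_mul, hx, ih]
    | 1 =>
      show β (x⁻¹ * evS x z t w) = x⁻¹ * evS x z t w
      rw [map_mul, map_inv, hx, ih]
    | 2 =>
      show β (z * evS x z t w) = z * evS x z t w
      rw [map_mul, hz, ih]
    | 3 =>
      show β (z⁻¹ * evS x z t w) = z⁻¹ * evS x z t w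
      rw [map_mul, map_inv, hz, ih]
    | (m + 4) =>
      show β (t * evS x z t w) = t * evS x z t w
      rw [map_mul, ht, ih]

/-- **HO-HG**. -/
theorem hg : StHG.{u} := by
  intro G _ x z t n k D hC hnz hD hne1 hne2 hgen β hx hz ht
  have hfix := evS_fixed x z t β hx hz ht
  have hβzk : β (z ^ k) = z ^ k := by rw [map_pow, hz]
  have hcomm : ∀ d d' : G, β d = d → β d' = d' → n * d * n⁻¹ = d' →
      (n⁻¹ * β n) * d = d * (n⁻¹ * β n) := by
    intro d d' hd hd' hnd
    have h1 : β n * d * (β n)⁻¹ = n * d * n⁻¹ := by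
      have h0 := congrArg β hnd
      rw [map_mul, map_mul, map_inv, hd, hd'] at h0
      rw [h0, hnd]
    have h2 : β n * d = n * d * n⁻¹ * β n := by
      rw [← h1]
      group
    calc n⁻¹ * β n * d = n⁻¹ * (β n * d) := by group
      _ = n⁻¹ * (n * d * n⁻¹ * β n) := by rw [h2]
      _ = d * (n⁻¹ * β n) := by group
  have hw0z : (n⁻¹ * β n) * z = z * (n⁻¹ * β n) := hcomm z (z ^ k) hz hβzk hnz
  have hw0D : ∀ p ∈ D, (n⁻¹ * β n) * evS x z t p.1 = evS x z t p.1 * (n⁻¹ * β n) :=
    fun p hp => hcomm _ _ (hfix p.1) (hfix p.2) (hD p hp)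
  obtain ⟨a, ha, hw0 | hw0⟩ := hC _ hw0z
  · have ha0 : a = 0 := by
      by_contra hne
      obtain ⟨p, hp, hpne⟩ := hne1 a (Nat.pos_of_ne_zero hne) ha
      apply hpne
      rw [← hw0]
      exact hw0D p hp
    subst ha0
    rw [pow_zero] at hw0
    have hn : β n = n := by
      have h0 : n * (n⁻¹ * β n) = n * 1 := by rw [hw0]
      rw [mul_one, mul_inv_cancel_left] at h0
      exact h0
    have hhom : β.toMonoidHom = MonoidHom.id G := by
      apply MonoidHom.eq_of_eqOn_dense hgen
      intro y hy
      simp only [Set.mem_insert_iff, Set.mem_singleton_iff] at hy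
      rcases hy with rfl | rfl | rfl | rfl
      · exact hx
      · exact hz
      · exact ht
      · exact hn
    apply MulEquiv.ext
    intro y
    exact DFunLike.congr_fun hhom y
  · exfalso
    obtain ⟨p, hp, hpne⟩ := hne2 a ha
    apply hpne
    rw [← hw0]
    exact hw0D p hp

example : StHG.{u} := hg

end Cfsg.Agent.H61.Ho

#print axioms Cfsg.Agent.H61.Ho.hg
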