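import Mathlib
import Cfsg.Agent.H95.HupDefs

/-!
# Huppert's theorem, piece `S3360-CRIT` (helper61)

Existence of a critical subgroup for `x`: a minimal `R`-invariant subgroup of `S` not centralised
by `x`.
-/

set_option autoImplicit false

namespace Cfsg.Agent.H61.Hup

open Cfsg Cfsg.Agent.H95.Hup
open scoped commutatorElement

universe w

section

variable {G : Type w} [Group G]

theorem cent_iff (P : Subgroup G) (z : G) :
    Cent P z ↔ z ∈ Subgroup.centralizer (P : Set G) := by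
  rw [Subgroup.mem_centralizer_iff]
  constructor
  · intro h c hc; exact (h c hc).symm
  · intro h c hc; exact (h c hc).symm

theorem cent_one (P : Subgroup G) : Cent P 1 := (cent_iff P 1).2 (Subgroup.one_mem _)

theorem cent_mul {P : Subgroup G} {a b : G} (ha : Cent P a) (hb : Cent P b) : Cent P (a * b) :=
  (cent_iff P _).2 (Subgroup.mul_mem _ ((cent_iff P a).1 ha) ((cent_iff P b).1 hb))

theorem cent_inv {P : Subgroup G} {a : G} (ha : Cent P a) : Cent P a⁻¹ :=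
  (cent_iff P _).2 (Subgroup.inv_mem _ ((cent_iff P a).1 ha))

theorem cent_conj (P : Subgroup G) (y z : G) (hy : ∀ u ∈ P, y⁻¹ * u * y ∈ P) (hz : Cent P z) :
    Cent P (y * z * y⁻¹) := by
  intro c hc
  have h1 := hz _ (hy c hc)
  calc y * z * y⁻¹ * c = y * (z * (y⁻¹ * c * y)) * y⁻¹ := by group
    _ = y * ((y⁻¹ * c * y) * z) * y⁻¹ := by rw [h1]
    _ = c * (y * z * y⁻¹) := by group

/-- If `x` (of order `r`) centralises `C` and acts trivially on the cosets of `C` in the `s`-group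
`P`, then `x` centralises `P`. -/
theorem stab_lemma (s r : ℕ) (hs : s.Prime) (hr : r.Prime) (hsr : s ≠ r)
    (S P C : Subgroup G) (x : G) (hS : IsPGroup s S) (hPS : P ≤ S) (hCP : C ≤ P)
    (hx : orderOf x = r) (hxC : ∀ c ∈ C, x * c = c * x)
    (hC : ∀ u ∈ P, u⁻¹ * (x * u * x⁻¹) ∈ C) : ∀ u ∈ P, x * u = u * x := by
  intro u hu
  obtain ⟨c, hc⟩ : ∃ c, c = u⁻¹ * (x * u * x⁻¹) := ⟨_, rfl⟩
  have hcC : c ∈ C := hc ▸ hC u hu
  have hxu : x * u * x⁻¹ = u * c := by rw [hc]; group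
  have hxc : x * c * x⁻¹ = c := by rw [hxC c hcC]; group
  have hpow : ∀ k : ℕ, x ^ k * u * (x ^ k)⁻¹ = u * c ^ k := by
    intro k
    induction k with
    | zero => simp
    | succ k ih =>
      have hxck : x * c ^ k * x⁻¹ = c ^ k := by
        rw [← conj_pow, hxc]
      calc x ^ (k + 1) * u * (x ^ (k + 1))⁻¹ = x * (x ^ k * u * (x ^ k)⁻¹) * x⁻¹ := by
            rw [pow_succ']; group
        _ = x * (u * c ^ k) * x⁻¹ := by rw [ih]
        _ = (x * u * x⁻¹) * (x * c ^ k * x⁻¹) := by group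
        _ = u * c * c ^ k := by rw [hxu, hxck]
        _ = u * c ^ (k + 1) := by rw [pow_succ', mul_assoc]
  have hxr : x ^ r = 1 := by rw [← hx]; exact pow_orderOf_eq_one x
  have hcr : c ^ r = 1 := by
    have h1 := hpow r
    rw [hxr] at h1
    simpa using h1
  obtain ⟨m, hm⟩ := hS ⟨c, hPS (hCP hcC)⟩
  have hcs : c ^ s ^ m = 1 := by
    have h1 := congrArg Subtype.val hm
    simpa using h1
  have hcop : Nat.Coprime r (s ^ m) :=
    Nat.Coprime.pow_right m ((Nat.coprime_primes hr hs).2 (Ne.symm hsr))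
  have hd := Nat.dvd_gcd (orderOf_dvd_of_pow_eq_one hcr) (orderOf_dvd_of_pow_eq_one hcs)
  rw [hcop.gcd_eq_one] at hd
  have hc1 : c = 1 := orderOf_eq_one_iff.1 (Nat.dvd_one.1 hd)
  rw [hc1, mul_one] at hxu
  exact mul_inv_eq_iff_eq_mul.1 hxu

end

theorem crit : CritStmt.{w} := by
  intro G _ _ s r hs hr hsr S R x hS hRab hRS hxR hxr hnc hab
  classical
  have hex : ∃ k, ∃ P : Subgroup G, P ≤ S ∧ (∀ y ∈ R, ∀ u ∈ P, y * u * y⁻¹ ∈ P) ∧
      (∃ u ∈ P, x * u ≠ u * x) ∧ Nat.card P = k := ⟨_, S, le_rfl, hRS, hnc, rfl⟩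
  obtain ⟨P, hPS, hPR, hPx, hPk⟩ := Nat.find_spec hex
  have hmin : ∀ N : Subgroup G, N ≤ S → (∀ y ∈ R, ∀ u ∈ N, y * u * y⁻¹ ∈ N) →
      (∃ u ∈ N, x * u ≠ u * x) → Nat.card P ≤ Nat.card N := by
    intro N h1 h2 h3
    rw [hPk]
    exact Nat.find_min' hex ⟨N, h1, h2, h3, rfl⟩
  have hM : ∀ N : Subgroup G, N ≤ P → (∀ y ∈ R, ∀ u ∈ N, y * u * y⁻¹ ∈ N) → N ≠ P →
      ∀ u ∈ N, x * u = u * x := by
    intro N hNP hNR hne u hu
    by_contra hcon
    have h1 := hmin N (hNP.trans hPS) hNR ⟨u, hu, hcon⟩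
    exact hne (Subgroup.eq_of_le_of_card_ge hNP h1)
  have hPR' : ∀ y ∈ R, ∀ u ∈ P, y⁻¹ * u * y ∈ P := by
    intro y hy u hu
    have h1 := hPR y⁻¹ (R.inv_mem hy) u hu
    rwa [inv_inv] at h1
  have hPn : ∀ v ∈ P, ∀ u ∈ P, v⁻¹ * u * v ∈ P := fun v hv u hu =>
    P.mul_mem (P.mul_mem (P.inv_mem hv) hu) hv
  have hxP : ∀ u ∈ P, x * u * x⁻¹ ∈ P := hPR x hxR
  -- `P` is not abelian
  have hnab : ∃ a ∈ P, ∃ b ∈ P, a * b ≠ b * a := by
    by_contra hcon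
    simp only [not_exists, not_and, not_not] at hcon
    obtain ⟨u, hu, hux⟩ := hPx
    exact hux (hab P hPS hPR hcon u hu)
  -- proper `R`-invariant normal subgroups of `P` are central
  have hc : ∀ N : Subgroup G, N ≤ P → (∀ y ∈ R, ∀ u ∈ N, y * u * y⁻¹ ∈ N) →
      (∀ u ∈ P, ∀ n ∈ N, u * n * u⁻¹ ∈ N) → N ≠ P → ∀ n ∈ N, Cent P n := by
    intro N hNP hNR hNn hne
    have hxN := hM N hNP hNR hne
    obtain ⟨C, hCdef⟩ : ∃ C : Subgroup G, C = P ⊓ Subgroup.centralizer (N : Set G) := ⟨_, rfl⟩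
    have hCP : C ≤ P := by rw [hCdef]; exact inf_le_left
    have hCmem : ∀ u, u ∈ C ↔ u ∈ P ∧ ∀ n ∈ N, n * u = u * n := by
      intro u; rw [hCdef, Subgroup.mem_inf, Subgroup.mem_centralizer_iff]; exact Iff.rfl
    have hCR : ∀ y ∈ R, ∀ u ∈ C, y * u * y⁻¹ ∈ C := by
      intro y hy u hu
      rw [hCmem] at hu ⊢
      refine ⟨hPR y hy u hu.1, ?_⟩
      intro n hn
      have hn' : y⁻¹ * n * y ∈ N := by
        have h1 := hNR y⁻¹ (R.inv_mem hy) n hn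
        rwa [inv_inv] at h1
      have h1 := hu.2 _ hn'
      calc n * (y * u * y⁻¹) = y * ((y⁻¹ * n * y) * u) * y⁻¹ := by group
        _ = y * (u * (y⁻¹ * n * y)) * y⁻¹ := by rw [h1]
        _ = y * u * y⁻¹ * n := by group
    by_cases hCeq : C = P
    · intro n hn c hcP
      have h1 : c ∈ C := by rw [hCeq]; exact hcP
      exact ((hCmem c).1 h1).2 n hn
    · exfalso
      have hxC := hM C hCP hCR hCeq
      have hstab : ∀ u ∈ P, u⁻¹ * (x * u * x⁻¹) ∈ C := by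
        intro u hu
        rw [hCmem]
        refine ⟨P.mul_mem (P.inv_mem hu) (hxP u hu), ?_⟩
        intro n hn
        have h1 : x * n = n * x := hxN n hn
        have h2 : x * (u * n * u⁻¹) = (u * n * u⁻¹) * x := hxN _ (hNn u hu n hn)
        have h3 : x⁻¹ * n * x = n := by rw [mul_assoc, ← h1, inv_mul_cancel_left]
        have h4 : (x * u * x⁻¹) * n * (x * u * x⁻¹)⁻¹ = u * n * u⁻¹ := by
          calc (x * u * x⁻¹) * n * (x * u * x⁻¹)⁻¹
              = x * (u * (x⁻¹ * n * x) * u⁻¹) * x⁻¹ := by group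
            _ = x * (u * n * u⁻¹) * x⁻¹ := by rw [h3]
            _ = u * n * u⁻¹ := by rw [h2]; group
        calc n * (u⁻¹ * (x * u * x⁻¹)) = u⁻¹ * (u * n * u⁻¹) * (x * u * x⁻¹) := by group
          _ = u⁻¹ * ((x * u * x⁻¹) * n * (x * u * x⁻¹)⁻¹) * (x * u * x⁻¹) := by rw [h4]
          _ = u⁻¹ * (x * u * x⁻¹) * n := by group
      obtain ⟨u, hu, hux⟩ := hPx
      exact hux (stab_lemma s r hs hr hsr S P C x hS hPS hCP hxr hxC hstab u hu)
  -- the centre of `P`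
  obtain ⟨Z, hZdef⟩ : ∃ Z : Subgroup G, Z = P ⊓ Subgroup.centralizer (P : Set G) := ⟨_, rfl⟩
  have hZmem : ∀ z, z ∈ Z ↔ z ∈ P ∧ Cent P z := by
    intro z; rw [hZdef, Subgroup.mem_inf, cent_iff]
  have hZP : Z ≤ P := by rw [hZdef]; exact inf_le_left
  have hZR : ∀ y ∈ R, ∀ u ∈ Z, y * u * y⁻¹ ∈ Z := by
    intro y hy u hu
    rw [hZmem] at hu ⊢
    exact ⟨hPR y hy u hu.1, cent_conj P y u (hPR' y hy) hu.2⟩
  have hZne : Z ≠ P := by
    intro h
    obtain ⟨a, ha, b, hb, hab'⟩ := hnab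
    have h1 : a ∈ Z := by rw [h]; exact ha
    exact hab' (((hZmem a).1 h1).2 b hb)
  have h3 : ∀ z ∈ P, Cent P z → x * z = z * x := fun z hz hzc =>
    hM Z hZP hZR hZne z ((hZmem z).2 ⟨hz, hzc⟩)
  -- the derived subgroup of `P`
  obtain ⟨D, hDdef⟩ : ∃ D : Subgroup G,
      D = Subgroup.closure {g | ∃ a ∈ P, ∃ b ∈ P, g = a * b * a⁻¹ * b⁻¹} := ⟨_, rfl⟩
  have hDP : D ≤ P := by
    rw [hDdef, Subgroup.closure_le]
    rintro g ⟨a, ha, b, hb, rfl⟩
    exact P.mul_mem (P.mul_mem (P.mul_mem ha hb) (P.inv_mem ha)) (P.inv_mem hb)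
  have hDconj : ∀ y : G, (∀ u ∈ P, y * u * y⁻¹ ∈ P) → ∀ d ∈ D, y * d * y⁻¹ ∈ D := by
    intro y hy
    have hle : Subgroup.closure {g | ∃ a ∈ P, ∃ b ∈ P, g = a * b * a⁻¹ * b⁻¹} ≤
        D.comap (MulAut.conj y).toMonoidHom := by
      rw [Subgroup.closure_le]
      rintro g ⟨a, ha, b, hb, rfl⟩
      show y * (a * b * a⁻¹ * b⁻¹) * y⁻¹ ∈ D
      rw [hDdef]
      apply Subgroup.subset_closure
      exact ⟨y * a * y⁻¹, hy a ha, y * b * y⁻¹, hy b hb, by group⟩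
    intro d hd
    rw [hDdef] at hd
    exact hle hd
  have hDR : ∀ y ∈ R, ∀ u ∈ D, y * u * y⁻¹ ∈ D := fun y hy => hDconj y (hPR y hy)
  have hDn : ∀ u ∈ P, ∀ n ∈ D, u * n * u⁻¹ ∈ D := fun u hu =>
    hDconj u (fun v hv => P.mul_mem (P.mul_mem hu hv) (P.inv_mem hu))
  have hDne : D ≠ P := by
    intro h
    have : Fact s.Prime := ⟨hs⟩
    have hPp : IsPGroup s P := hS.to_le hPS
    have : Group.IsNilpotent P := hPp.isNilpotent
    have : Nontrivial P := by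
      obtain ⟨a, ha, b, hb, hab'⟩ := hnab
      refine ⟨⟨⟨a, ha⟩, 1, ?_⟩⟩
      intro h1
      have h2 : a = 1 := congrArg Subtype.val h1
      rw [h2] at hab'
      simp at hab'
    have hlt := Group.IsSolvable.commutator_lt_top_of_nontrivial (G := P)
    have hle : D ≤ (commutator P).map P.subtype := by
      rw [hDdef, Subgroup.closure_le]
      rintro g ⟨a, ha, b, hb, rfl⟩
      refine ⟨⁅(⟨a, ha⟩ : P), ⟨b, hb⟩⁆,
        Subgroup.commutator_mem_commutator (Subgroup.mem_top _) (Subgroup.mem_top _), ?_⟩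
      simp [commutatorElement_def]
    have htop : commutator P = ⊤ := by
      rw [eq_top_iff]
      intro p _
      have hp : (p : G) ∈ D := by rw [h]; exact p.2
      obtain ⟨k, hk, hkp⟩ := hle hp
      have h2 : k = p := Subtype.ext hkp
      rw [← h2]; exact hk
    rw [htop] at hlt
    exact lt_irrefl _ hlt
  have hcl : Class2 P := by
    intro a ha b hb c hc'
    have hmem : a * b * a⁻¹ * b⁻¹ ∈ D := by
      rw [hDdef]; exact Subgroup.subset_closure ⟨a, ha, b, hb, rfl⟩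
    exact hc D hDP hDR hDn hDne _ hmem c hc'
  have hclc : ∀ a ∈ P, ∀ b ∈ P, Cent P (a * b * a⁻¹ * b⁻¹) := fun a ha b hb c hc' =>
    hcl a ha b hb c hc'
  -- elements with central `x`-commutator
  let N3 : Subgroup G :=
    { carrier := {u | u ∈ P ∧ Cent P (x * u * x⁻¹ * u⁻¹)}
      one_mem' := ⟨P.one_mem, by
        have e : x * 1 * x⁻¹ * (1 : G)⁻¹ = 1 := by group
        rw [e]; exact cent_one P⟩
      mul_mem' := by
        rintro u v ⟨hu, hcu⟩ ⟨hv, hcv⟩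
        refine ⟨P.mul_mem hu hv, ?_⟩
        have e : x * (u * v) * x⁻¹ * (u * v)⁻¹ =
            (x * v * x⁻¹ * v⁻¹) * (x * u * x⁻¹ * u⁻¹) := by
          have h1 := hcv (x * u * x⁻¹) (hxP u hu)
          calc x * (u * v) * x⁻¹ * (u * v)⁻¹
              = (x * u * x⁻¹) * (x * v * x⁻¹ * v⁻¹) * u⁻¹ := by group
            _ = (x * v * x⁻¹ * v⁻¹) * (x * u * x⁻¹) * u⁻¹ := by rw [h1]
            _ = (x * v * x⁻¹ * v⁻¹) * (x * u * x⁻¹ * u⁻¹) := by group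
        rw [e]
        exact cent_mul hcv hcu
      inv_mem' := by
        rintro u ⟨hu, hcu⟩
        refine ⟨P.inv_mem hu, ?_⟩
        have e : x * u⁻¹ * x⁻¹ * u⁻¹⁻¹ = (x * u * x⁻¹ * u⁻¹)⁻¹ := by
          have h1 := hcu u hu
          calc x * u⁻¹ * x⁻¹ * u⁻¹⁻¹ = (u⁻¹ * ((x * u * x⁻¹ * u⁻¹) * u))⁻¹ := by group
            _ = (u⁻¹ * (u * (x * u * x⁻¹ * u⁻¹)))⁻¹ := by rw [h1]
            _ = (x * u * x⁻¹ * u⁻¹)⁻¹ := by group
        rw [e]
        exact cent_inv hcu }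
  have hN3mem : ∀ u, u ∈ N3 ↔ u ∈ P ∧ Cent P (x * u * x⁻¹ * u⁻¹) := fun u => Iff.rfl
  have hN3P : N3 ≤ P := fun u hu => hu.1
  have hN3R : ∀ y ∈ R, ∀ u ∈ N3, y * u * y⁻¹ ∈ N3 := by
    intro y hy u hu
    rw [hN3mem] at hu ⊢
    refine ⟨hPR y hy u hu.1, ?_⟩
    have hxy : x * y = y * x := hRab x hxR y hy
    have hxy' : y⁻¹ * x⁻¹ = x⁻¹ * y⁻¹ := by
      rw [← mul_inv_rev, ← mul_inv_rev, hxy]
    have e : x * (y * u * y⁻¹) * x⁻¹ * (y * u * y⁻¹)⁻¹ = y * (x * u * x⁻¹ * u⁻¹) * y⁻¹ := by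
      calc x * (y * u * y⁻¹) * x⁻¹ * (y * u * y⁻¹)⁻¹
          = (x * y) * u * (y⁻¹ * x⁻¹) * y * u⁻¹ * y⁻¹ := by group
        _ = (y * x) * u * (x⁻¹ * y⁻¹) * y * u⁻¹ * y⁻¹ := by rw [hxy, hxy']
        _ = y * (x * u * x⁻¹ * u⁻¹) * y⁻¹ := by group
    rw [e]
    exact cent_conj P y _ (hPR' y hy) hu.2
  have hZN3 : ∀ z ∈ P, Cent P z → z ∈ N3 := by
    intro z hz hzc
    rw [hN3mem]
    refine ⟨hz, ?_⟩
    have e : x * z * x⁻¹ * z⁻¹ = 1 := by rw [h3 z hz hzc]; group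
    rw [e]; exact cent_one P
  have hN3n : ∀ v ∈ P, ∀ u ∈ N3, v * u * v⁻¹ ∈ N3 := by
    intro v hv u hu
    have e : v * u * v⁻¹ = (v * u * v⁻¹ * u⁻¹) * u := by group
    rw [e]
    exact N3.mul_mem (hZN3 _ (P.mul_mem (P.mul_mem (P.mul_mem hv hu.1) (P.inv_mem hv))
      (P.inv_mem hu.1)) (hclc v hv u hu.1)) hu
  have hN3ne : N3 ≠ P := by
    intro h
    have hstab : ∀ u ∈ P, u⁻¹ * (x * u * x⁻¹) ∈ Z := by
      intro u hu
      have hu3 : u ∈ N3 := by rw [h]; exact hu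
      have hcu := hu3.2
      have e : u⁻¹ * (x * u * x⁻¹) = x * u * x⁻¹ * u⁻¹ := by
        have h1 := hcu u hu
        calc u⁻¹ * (x * u * x⁻¹) = u⁻¹ * ((x * u * x⁻¹ * u⁻¹) * u) := by group
          _ = u⁻¹ * (u * (x * u * x⁻¹ * u⁻¹)) := by rw [h1]
          _ = x * u * x⁻¹ * u⁻¹ := by group
      rw [e, hZmem]
      exact ⟨P.mul_mem (hxP u hu) (P.inv_mem hu), hcu⟩
    obtain ⟨u, hu, hux⟩ := hPx
    exact hux (stab_lemma s r hs hr hsr S P Z x hS hPS hZP hxr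
      (fun c hcZ => h3 c ((hZmem c).1 hcZ).1 ((hZmem c).1 hcZ).2) hstab u hu)
  have h4 : ∀ u ∈ P, Cent P (x * u * x⁻¹ * u⁻¹) → Cent P u := fun u hu hcu =>
    hc N3 hN3P hN3R hN3n hN3ne u ⟨hu, hcu⟩
  -- powers in class two
  have hpow : ∀ u ∈ P, ∀ v ∈ P, ∀ k : ℕ, ∃ z, Cent P z ∧ (u * v) ^ k = u ^ k * v ^ k * z := by
    intro u hu v hv k
    induction k with
    | zero => exact ⟨1, cent_one P, by simp⟩
    | succ k ih =>
      obtain ⟨z, hzc, hk⟩ := ih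
      have hvk : v ^ k ∈ P := P.pow_mem hv k
      have hcc : Cent P ((v ^ k)⁻¹ * u⁻¹ * (v ^ k)⁻¹⁻¹ * u⁻¹⁻¹) :=
        hclc _ (P.inv_mem hvk) _ (P.inv_mem hu)
      refine ⟨(v ^ k)⁻¹ * u⁻¹ * (v ^ k)⁻¹⁻¹ * u⁻¹⁻¹ * z, cent_mul hcc hzc, ?_⟩
      have h1 := hzc (u * v) (P.mul_mem hu hv)
      have h2 := hcc v hv
      calc (u * v) ^ (k + 1) = u ^ k * v ^ k * (z * (u * v)) := by
            rw [pow_succ, hk]; simp only [mul_assoc]
        _ = u ^ k * v ^ k * ((u * v) * z) := by rw [h1]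
        _ = u ^ k * u * v ^ k * (((v ^ k)⁻¹ * u⁻¹ * (v ^ k)⁻¹⁻¹ * u⁻¹⁻¹) * v) * z := by group
        _ = u ^ k * u * v ^ k * (v * ((v ^ k)⁻¹ * u⁻¹ * (v ^ k)⁻¹⁻¹ * u⁻¹⁻¹)) * z := by rw [h2]
        _ = u ^ (k + 1) * v ^ (k + 1) * ((v ^ k)⁻¹ * u⁻¹ * (v ^ k)⁻¹⁻¹ * u⁻¹⁻¹ * z) := by
            rw [pow_succ, pow_succ]; simp only [mul_assoc]
  let N4 : Subgroup G :=
    { carrier := {u | u ∈ P ∧ Cent P (u ^ s)}
      one_mem' := ⟨P.one_mem, by rw [one_pow]; exact cent_one P⟩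
      mul_mem' := by
        rintro u v ⟨hu, hcu⟩ ⟨hv, hcv⟩
        refine ⟨P.mul_mem hu hv, ?_⟩
        obtain ⟨z, hzc, hz⟩ := hpow u hu v hv s
        rw [hz]
        exact cent_mul (cent_mul hcu hcv) hzc
      inv_mem' := by
        rintro u ⟨hu, hcu⟩
        refine ⟨P.inv_mem hu, ?_⟩
        rw [inv_pow]
        exact cent_inv hcu }
  have hN4mem : ∀ u, u ∈ N4 ↔ u ∈ P ∧ Cent P (u ^ s) := fun u => Iff.rfl
  have hN4P : N4 ≤ P := fun u hu => hu.1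
  have hN4R : ∀ y ∈ R, ∀ u ∈ N4, y * u * y⁻¹ ∈ N4 := by
    intro y hy u hu
    rw [hN4mem] at hu ⊢
    refine ⟨hPR y hy u hu.1, ?_⟩
    rw [conj_pow]
    exact cent_conj P y _ (hPR' y hy) hu.2
  have hN4n : ∀ v ∈ P, ∀ u ∈ N4, v * u * v⁻¹ ∈ N4 := by
    intro v hv u hu
    rw [hN4mem] at hu ⊢
    refine ⟨P.mul_mem (P.mul_mem hv hu.1) (P.inv_mem hv), ?_⟩
    rw [conj_pow]
    exact cent_conj P v _ (hPn v hv) hu.2
  have h5 : ∀ u ∈ P, Cent P (u ^ s) := by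
    by_cases hN4 : N4 = P
    · intro u hu
      have hu4 : u ∈ N4 := by rw [hN4]; exact hu
      exact hu4.2
    · have h6 := hc N4 hN4P hN4R hN4n hN4
      have h7 : ∀ j : ℕ, ∀ u ∈ P, Cent P (u ^ s ^ j) → Cent P u := by
        intro j
        induction j with
        | zero => intro u hu h; simpa using h
        | succ j ih =>
          intro u hu h
          apply ih u hu
          apply h6
          rw [hN4mem]
          refine ⟨P.pow_mem hu _, ?_⟩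
          rw [← pow_mul, ← pow_succ]
          exact h
      have h8 : ∀ u ∈ P, Cent P u := by
        intro u hu
        obtain ⟨m, hm⟩ := hS ⟨u, hPS hu⟩
        have hus : u ^ s ^ m = 1 := by
          have h1 := congrArg Subtype.val hm
          simpa using h1
        apply h7 m u hu
        rw [hus]
        exact cent_one P
      intro u hu
      exact h8 _ (P.pow_mem hu s)
  exact ⟨P, hPS, hPR, hxP, hcl, h3, h4, h5, hnab⟩

end Cfsg.Agent.H61.Hup
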