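import Mathlib
import Cfsg.Agent.H95.HupDefs

/-!
# Huppert's theorem, piece `S3360-LI` (helper61)

A class-two group `P` of order prime to `q` whose central elements act fixed-point-freely on an
`n`-dimensional space has `|P : Z(P)| ≤ n²`: a transversal of `Z(P)` is linearly independent in
`End V`.
-/

set_option autoImplicit false

namespace Cfsg.Agent.H61.Hup

open Cfsg Cfsg.Agent.H95.Hup

universe u w

section core

variable {K : Type*} [Field K] {V : Type*} [AddCommGroup V] [Module K V]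
  {P : Type*} [Group P]

/-- The commutator `g a g⁻¹ a⁻¹`. -/
def cm (g a : P) : P := g * a * g⁻¹ * a⁻¹

theorem cm_mul (hcl : ∀ a b : P, cm a b ∈ Subgroup.center P) (g h a : P) :
    cm (g * h) a = cm g a * cm h a := by
  have hz := Subgroup.mem_center_iff.1 (hcl h a)
  calc cm (g * h) a = g * cm h a * a * g⁻¹ * a⁻¹ := by unfold cm; group
    _ = cm h a * g * a * g⁻¹ * a⁻¹ := by rw [hz g]
    _ = cm h a * cm g a := by unfold cm; group
    _ = cm g a * cm h a := (hz _).symm

/-- `ψ g = [g,b]⁻¹ [g,a]`. -/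
def psi (a b g : P) : P := (cm g b)⁻¹ * cm g a

theorem psi_mem (hcl : ∀ a b : P, cm a b ∈ Subgroup.center P) (a b g : P) :
    psi a b g ∈ Subgroup.center P :=
  Subgroup.mul_mem _ (Subgroup.inv_mem _ (hcl g b)) (hcl g a)

theorem psi_mul (hcl : ∀ a b : P, cm a b ∈ Subgroup.center P) (a b h g : P) :
    psi a b (h * g) = psi a b h * psi a b g := by
  have hz := Subgroup.mem_center_iff.1 (Subgroup.inv_mem _ (hcl g b))
  calc psi a b (h * g) = (cm g b)⁻¹ * ((cm h b)⁻¹ * cm h a) * cm g a := by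
        unfold psi; rw [cm_mul hcl, cm_mul hcl, mul_inv_rev]; simp only [mul_assoc]
    _ = ((cm h b)⁻¹ * cm h a) * (cm g b)⁻¹ * cm g a := by rw [← hz]
    _ = psi a b h * psi a b g := by unfold psi; simp only [mul_assoc]

theorem psi_self (b g : P) : psi b b g = 1 := by
  unfold psi; rw [inv_mul_cancel]

theorem exists_psi_ne_one (a b : P) (hne : b⁻¹ * a ∉ Subgroup.center P) :
    ∃ h : P, psi a b h ≠ 1 := by
  by_contra hcon
  simp only [not_exists, not_not] at hcon
  apply hne
  rw [Subgroup.mem_center_iff]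
  intro k
  have h1 := hcon k⁻¹
  unfold psi cm at h1
  rw [inv_mul_eq_one, inv_inv] at h1
  -- h1 : k⁻¹ * b * k * b⁻¹ = k⁻¹ * a * k * a⁻¹
  have h2 : b * k * b⁻¹ = a * k * a⁻¹ := by
    have h3 : k⁻¹ * (b * k * b⁻¹) = k⁻¹ * (a * k * a⁻¹) := by
      simp only [mul_assoc] at h1 ⊢; exact h1
    exact mul_left_cancel h3
  calc k * (b⁻¹ * a) = b⁻¹ * (b * k * b⁻¹) * a := by group
    _ = b⁻¹ * (a * k * a⁻¹) * a := by rw [h2]
    _ = b⁻¹ * a * k := by group

variable [Fintype P]

theorem sum_psi_eq_zero (ρ : P →* Module.End K V)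
    (hcl : ∀ a b : P, cm a b ∈ Subgroup.center P)
    (hfpf : ∀ z ∈ Subgroup.center P, z ≠ 1 → ∀ v : V, ρ z v = v → v = 0)
    (a b : P) (hne : b⁻¹ * a ∉ Subgroup.center P) :
    ∑ g : P, ρ (psi a b g) = 0 := by
  obtain ⟨h, hh⟩ := exists_psi_ne_one a b hne
  have h1 : ρ (psi a b h) * ∑ g : P, ρ (psi a b g) = ∑ g : P, ρ (psi a b g) := by
    rw [Finset.mul_sum]
    rw [← Equiv.sum_comp (Equiv.mulLeft h) (fun g => ρ (psi a b g))]
    apply Finset.sum_congr rfl
    intro g _
    rw [← map_mul, Equiv.coe_mulLeft, psi_mul hcl]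
  apply LinearMap.ext
  intro v
  rw [LinearMap.zero_apply]
  apply hfpf _ (psi_mem hcl a b h) hh
  have h2 := congrArg (fun f : Module.End K V => f v) h1
  exact h2

theorem li_core [Nontrivial V] (ρ : P →* Module.End K V)
    (hcl : ∀ a b : P, cm a b ∈ Subgroup.center P)
    (hfpf : ∀ z ∈ Subgroup.center P, z ≠ 1 → ∀ v : V, ρ z v = v → v = 0)
    (hcard : (Fintype.card P : K) ≠ 0)
    {ι : Type*} [Fintype ι] (s : ι → P)
    (hdist : ∀ i j, (s j)⁻¹ * s i ∈ Subgroup.center P → i = j) :
    LinearIndependent K (fun i => ρ (s i)) := by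
  classical
  rw [Fintype.linearIndependent_iff]
  intro c hc y
  have key : ∀ g : P, ∑ i, c i • (ρ (psi (s i) (s y) g) * ρ (s i)) = 0 := by
    intro g
    have h1 : ρ ((cm g (s y))⁻¹) * ρ g * (∑ i, c i • ρ (s i)) * ρ g⁻¹ = 0 := by
      rw [hc]; simp
    rw [Finset.mul_sum, Finset.sum_mul] at h1
    rw [← h1]
    apply Finset.sum_congr rfl
    intro i _
    rw [mul_smul_comm, smul_mul_assoc, ← map_mul, ← map_mul, ← map_mul, ← map_mul]
    congr 2
    unfold psi cm
    group
  have h2 : ∑ i, c i • ((∑ g : P, ρ (psi (s i) (s y) g)) * ρ (s i)) = 0 := by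
    have h3 : ∑ g : P, ∑ i, c i • (ρ (psi (s i) (s y) g) * ρ (s i)) = 0 :=
      Finset.sum_eq_zero (fun g _ => key g)
    rw [Finset.sum_comm] at h3
    rw [← h3]
    apply Finset.sum_congr rfl
    intro i _
    rw [Finset.sum_mul, Finset.smul_sum]
  rw [Finset.sum_eq_single y] at h2
  · have h4 : ∑ g : P, ρ (psi (s y) (s y) g) = (Fintype.card P : K) • (1 : Module.End K V) := by
      simp only [psi_self, map_one, Finset.sum_const, Finset.card_univ]
      rw [Nat.cast_smul_eq_nsmul]
    rw [h4, smul_mul_assoc, one_mul, smul_smul] at h2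
    obtain ⟨v, hv⟩ := exists_ne (0 : V)
    have h5 := congrArg (fun f : Module.End K V => f ((ρ (s y)⁻¹) v)) h2
    simp only [LinearMap.smul_apply, LinearMap.zero_apply] at h5
    have h6 : ρ (s y) (ρ (s y)⁻¹ v) = v := by
      have h7 : ρ (s y) * ρ (s y)⁻¹ = 1 := by rw [← map_mul, mul_inv_cancel, map_one]
      have h8 := congrArg (fun f : Module.End K V => f v) h7
      exact h8
    rw [h6] at h5
    rcases smul_eq_zero.1 h5 with h9 | h9
    · rcases mul_eq_zero.1 h9 with h10 | h10
      · exact h10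
      · exact absurd h10 hcard
    · exact absurd h9 hv
  · intro i _ hiy
    have hne : (s y)⁻¹ * s i ∉ Subgroup.center P := fun hmem => hiy (hdist i y hmem)
    rw [sum_psi_eq_zero ρ hcl hfpf _ _ hne, zero_mul, smul_zero]
  · intro hy
    exact absurd (Finset.mem_univ y) hy

end core

theorem li : LIStmt.{u, w} := by
  intro q hq V _ _ _ _ G _ _ ρ hinj n hV P hPq hcl hfpf
  classical
  have : Fintype P := Fintype.ofFinite P
  have : Fintype (↥P ⧸ Subgroup.center ↥P) := Fintype.ofFinite _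
  obtain ⟨ρP, hρP⟩ : ∃ ρP : ↥P →* Module.End (ZMod q) V, ∀ (g : ↥P) (v : V), ρP g v = ρ (g : G) v :=
    ⟨(LinearEquiv.automorphismGroup.toLinearMapMonoidHom).comp (ρ.comp P.subtype),
      fun g v => rfl⟩
  have hcl' : ∀ a b : ↥P, cm a b ∈ Subgroup.center ↥P := by
    intro a b
    rw [Subgroup.mem_center_iff]
    intro g
    apply Subtype.ext
    have h1 := hcl a.1 a.2 b.1 b.2 g.1 g.2
    exact h1.symm
  have hfpf' : ∀ z ∈ Subgroup.center ↥P, z ≠ 1 → ∀ v : V, ρP z v = v → v = 0 := by
    intro z hz hz1 v hv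
    rw [hρP] at hv
    refine hfpf z.1 z.2 ?_ ?_ v hv
    · intro c hc
      have h1 := Subgroup.mem_center_iff.1 hz ⟨c, hc⟩
      exact (congrArg Subtype.val h1).symm
    · intro h; exact hz1 (Subtype.ext h)
  have hcard : (Fintype.card ↥P : ZMod q) ≠ 0 := by
    rw [Ne, ZMod.natCast_eq_zero_iff]
    intro hdvd
    rw [← Nat.card_eq_fintype_card] at hdvd
    have h1 := Nat.Coprime.eq_one_of_dvd hPq.symm hdvd
    exact hq.out.one_lt.ne' h1
  have hli := li_core ρP hcl' hfpf' hcard (fun x : ↥P ⧸ Subgroup.center ↥P => x.out) (by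
    intro i j hmem
    have h1 : (QuotientGroup.mk j.out : ↥P ⧸ Subgroup.center ↥P) = QuotientGroup.mk i.out :=
      QuotientGroup.eq.2 hmem
    rw [QuotientGroup.out_eq', QuotientGroup.out_eq'] at h1
    exact h1.symm)
  have hfin : Module.finrank (ZMod q) V = n := by
    have h1 := Module.natCard_eq_pow_finrank (K := ZMod q) (V := V)
    rw [Nat.card_zmod, hV] at h1
    exact (Nat.pow_right_injective hq.out.two_le h1).symm
  have hfinE : Module.finrank (ZMod q) (Module.End (ZMod q) V) = n ^ 2 := by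
    rw [Module.finrank_linearMap, hfin, pow_two]
  have hcardQ : Nat.card ↥P =
      Fintype.card (↥P ⧸ Subgroup.center ↥P) * Nat.card (Subgroup.center ↥P) := by
    rw [← Nat.card_eq_fintype_card]
    exact Subgroup.card_eq_card_quotient_mul_card_subgroup _
  have hle := hli.fintype_card_le_finrank
  rw [hfinE] at hle
  refine ⟨?_, ?_⟩
  · rw [hcardQ]; exact Nat.mul_le_mul_right _ hle
  · intro heq g hg
    have hcz : 0 < Nat.card (Subgroup.center ↥P) := Nat.card_pos
    have hcι : Fintype.card (↥P ⧸ Subgroup.center ↥P) =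
        Module.finrank (ZMod q) (Module.End (ZMod q) V) := by
      rw [hfinE]
      rw [hcardQ] at heq
      exact Nat.eq_of_mul_eq_mul_right hcz heq
    have hspan := hli.span_eq_top_of_card_eq_finrank' hcι
    have hcen : ((ρ g : V ≃ₗ[ZMod q] V) : V →ₗ[ZMod q] V) ∈
        Set.center (Module.End (ZMod q) V) := by
      rw [Semigroup.mem_center_iff]
      intro X
      have hX : X ∈ Submodule.span (ZMod q)
          (Set.range fun i : ↥P ⧸ Subgroup.center ↥P => ρP i.out) := by
        rw [hspan]; trivial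
      induction hX using Submodule.span_induction with
      | mem Y hY =>
        obtain ⟨i, rfl⟩ := hY
        apply LinearMap.ext
        intro v
        show ρP i.out (ρ g v) = ρ g (ρP i.out v)
        rw [hρP, hρP, ← LinearEquiv.mul_apply, ← LinearEquiv.mul_apply, ← map_mul, ← map_mul,
          hg _ i.out.2]
      | zero => simp
      | add Y Z _ _ hY hZ => rw [add_mul, mul_add, hY, hZ]
      | smul c Y _ hY => rw [smul_mul_assoc, mul_smul_comm, hY]
    obtain ⟨α, hα, hf⟩ := Module.End.mem_center_iff.1 hcen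
    refine ⟨α, fun v => ?_⟩
    have h1 := congrArg (fun f : Module.End (ZMod q) V => f v) hf
    exact h1

end Cfsg.Agent.H61.Hup
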