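import Mathlib
import Cfsg.Prelude.Def_Spor_J1

/-!
# A kernel-friendly code for `7 × 7` matrices over `ZMod 11`

A matrix is coded by a natural number whose base-11 digit number `7 i + j` is the entry `(i, j)`.
Multiplication of codes is written with the raw `Nat` primitives (fast in the kernel) and is
proved to agree with matrix multiplication.
-/

set_option autoImplicit false

namespace Cfsg.Agent.H61.J1

/-- The base-11 digit number `k` of `c`. -/
def dg (c k : ℕ) : ℕ := Nat.mod (Nat.div c (Nat.pow 11 k)) 11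

theorem dg_def (c k : ℕ) : dg c k = c / 11 ^ k % 11 := rfl

theorem dg_lt (c k : ℕ) : dg c k < 11 := Nat.mod_lt _ (by norm_num)

/-- Sum of seven terms, unrolled. -/
def sum7 (f : ℕ → ℕ) : ℕ :=
  Nat.add (Nat.add (Nat.add (Nat.add (Nat.add (Nat.add (f 0) (f 1)) (f 2)) (f 3)) (f 4)) (f 5)) (f 6)

theorem sum7_def (f : ℕ → ℕ) : sum7 f = f 0 + f 1 + f 2 + f 3 + f 4 + f 5 + f 6 := rfl

/-- Horner evaluation of seven digits in base `B`, unrolled. -/
def horner7 (B : ℕ) (f : ℕ → ℕ) : ℕ :=
  Nat.add (f 0) (Nat.mul B (Nat.add (f 1) (Nat.mul B (Nat.add (f 2) (Nat.mul B (Nat.add (f 3)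
    (Nat.mul B (Nat.add (f 4) (Nat.mul B (Nat.add (f 5) (Nat.mul B (f 6))))))))))))

theorem horner7_def (B : ℕ) (f : ℕ → ℕ) :
    horner7 B f = f 0 + B * (f 1 + B * (f 2 + B * (f 3 + B * (f 4 + B * (f 5 + B * f 6))))) := rfl

theorem div_step (x r B : ℕ) (hx : x < B) : (x + B * r) / B = r := by
  rw [Nat.add_mul_div_left _ _ (by omega : 0 < B), Nat.div_eq_of_lt hx, zero_add]

theorem mod_step (x r B : ℕ) (hx : x < B) : (x + B * r) % B = x := by
  rw [Nat.add_mul_mod_self_left, Nat.mod_eq_of_lt hx]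

theorem div_pow_succ' (n B k : ℕ) : n / B ^ (k + 1) = n / B / B ^ k := by
  rw [pow_succ', Nat.div_div_eq_div_mul]

theorem horner7_digit (B : ℕ) (f : ℕ → ℕ) (hf : ∀ k, f k < B) (k : ℕ) (hk : k < 7) :
    horner7 B f / B ^ k % B = f k := by
  rw [horner7_def]
  interval_cases k
  · rw [pow_zero, Nat.div_one, mod_step _ _ _ (hf _)]
  · simp only [div_pow_succ', div_step _ _ _ (hf _), pow_zero, Nat.div_one, mod_step _ _ _ (hf _)]
  · simp only [div_pow_succ', div_step _ _ _ (hf _), pow_zero, Nat.div_one, mod_step _ _ _ (hf _)]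
  · simp only [div_pow_succ', div_step _ _ _ (hf _), pow_zero, Nat.div_one, mod_step _ _ _ (hf _)]
  · simp only [div_pow_succ', div_step _ _ _ (hf _), pow_zero, Nat.div_one, mod_step _ _ _ (hf _)]
  · simp only [div_pow_succ', div_step _ _ _ (hf _), pow_zero, Nat.div_one, mod_step _ _ _ (hf _)]
  · simp only [div_pow_succ', div_step _ _ _ (hf _), pow_zero, Nat.div_one,
      Nat.mod_eq_of_lt (hf _)]

theorem horner7_lt (f : ℕ → ℕ) (hf : ∀ k, f k < 11) : horner7 11 f < 19487171 := by
  rw [horner7_def]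
  have h0 := hf 0
  have h1 := hf 1
  have h2 := hf 2
  have h3 := hf 3
  have h4 := hf 4
  have h5 := hf 5
  have h6 := hf 6
  omega

/-- The entry `(i, j)` of the product of the coded matrices. -/
def entryC (a b i j : ℕ) : ℕ :=
  Nat.mod (sum7 (fun k => Nat.mul (dg a (Nat.add (Nat.mul 7 i) k)) (dg b (Nat.add (Nat.mul 7 k) j)))) 11

theorem entryC_def (a b i j : ℕ) :
    entryC a b i j = (sum7 fun k => dg a (7 * i + k) * dg b (7 * k + j)) % 11 := rfl

theorem entryC_lt (a b i j : ℕ) : entryC a b i j < 11 := Nat.mod_lt _ (by norm_num)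

/-- Product of matrix codes. -/
def mulC (a b : ℕ) : ℕ :=
  horner7 19487171 (fun i => horner7 11 (fun j => entryC a b i j))

theorem dg_mod (Y j : ℕ) (hj : j < 7) : Y % 19487171 / 11 ^ j % 11 = Y / 11 ^ j % 11 := by
  have h2 : (19487171 : ℕ) = 11 ^ j * 11 ^ (7 - j) := by
    rw [← pow_add]
    have : j + (7 - j) = 7 := by omega
    rw [this]
    norm_num
  have h3 : (11 : ℕ) ∣ 11 ^ (7 - j) := dvd_pow_self 11 (by omega)
  rw [h2, Nat.mod_mul_right_div_self, Nat.mod_mod_of_dvd _ h3]

theorem dg_split (X i j : ℕ) (hj : j < 7) :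
    dg X (7 * i + j) = dg (X / 19487171 ^ i % 19487171) j := by
  rw [dg_def, dg_def]
  have h1 : (11 : ℕ) ^ (7 * i + j) = 19487171 ^ i * 11 ^ j := by
    rw [pow_add, pow_mul]
    norm_num
  rw [h1, ← Nat.div_div_eq_div_mul, dg_mod _ _ hj]

theorem dg_mulC (a b i j : ℕ) (hi : i < 7) (hj : j < 7) :
    dg (mulC a b) (7 * i + j) = entryC a b i j := by
  rw [dg_split _ _ _ hj, mulC,
    horner7_digit 19487171 _ (fun k => horner7_lt _ (fun l => entryC_lt a b k l)) i hi, dg_def,
    horner7_digit 11 _ (fun l => entryC_lt a b i l) j hj]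

/-- The matrix coded by `c`. -/
def decM (c : ℕ) : Matrix (Fin 7) (Fin 7) (ZMod 11) :=
  Matrix.of fun i j => ((dg c (7 * i.val + j.val) : ℕ) : ZMod 11)

theorem decM_mulC (a b : ℕ) : decM (mulC a b) = decM a * decM b := by
  ext i j
  simp only [decM, Matrix.of_apply, Matrix.mul_apply]
  rw [dg_mulC a b i.val j.val i.2 j.2, entryC_def, ZMod.natCast_mod, sum7_def, Fin.sum_univ_seven]
  push_cast
  rfl

theorem decM_ne (c c' : ℕ) (m : ℕ) (hm : m < 49) (h : dg c m ≠ dg c' m) : decM c ≠ decM c' := by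
  intro e
  apply h
  have h1 := congrFun (congrFun e ⟨m / 7, by omega⟩) ⟨m % 7, by omega⟩
  simp only [decM, Matrix.of_apply] at h1
  have h2 : 7 * (m / 7) + m % 7 = m := Nat.div_add_mod m 7
  rw [h2] at h1
  have h3 := (ZMod.natCast_eq_natCast_iff' _ _ _).mp h1
  rwa [Nat.mod_eq_of_lt (dg_lt _ _), Nat.mod_eq_of_lt (dg_lt _ _)] at h3

/-- Code of the identity matrix. -/
def oneC : ℕ := 97017234237464720195340918138392575865960457120487
/-- Code of Janko's matrix `X`. -/
def xc : ℕ := 59742217373217410912008818046396455710289787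
/-- Code of Janko's matrix `Y`. -/
def yc : ℕ := 124412789792502026216006414760324641976925555873257

theorem decM_oneC : decM oneC = 1 := by decide +kernel

theorem decM_xc : decM xc = Cfsg.jankoMatrixX := by decide +kernel

theorem decM_yc : decM yc = Cfsg.jankoMatrixY := by decide +kernel

end Cfsg.Agent.H61.J1
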