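import Mathlib
import Cfsg.Agent.H61.J1Code

/-!
# Janko's group `J₁ ≤ GL₇(11)`: certificates

Generic checkers (evaluated by the kernel on explicit data) and their soundness: a stabiliser-chain
style covering of the group by products of four transversals, words in the two generators, orders
of elements, normal closures, and a Sylow 2-subgroup.
-/

set_option autoImplicit false

namespace Cfsg.Agent.H61.J1

open scoped MatrixGroups Pointwise

/-- The matrices. -/
abbrev Mat := Matrix (Fin 7) (Fin 7) (ZMod 11)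

theorem closure_left_closed {Γ : Type*} [Group Γ] [Finite Γ] (S X : Set Γ)
    (h1 : (1 : Γ) ∈ X) (hstep : ∀ g ∈ S, ∀ x ∈ X, g * x ∈ X) :
    ∀ x ∈ Subgroup.closure S, x ∈ X := by
  have key : ∀ x ∈ Subgroup.closure S, ∀ y ∈ X, x * y ∈ X := by
    intro x hx
    induction hx using Subgroup.closure_induction with
    | mem g hg => exact hstep g hg
    | one => intro y hy; rwa [one_mul]
    | mul a b _ _ iha ihb => intro y hy; rw [mul_assoc]; exact iha _ (ihb y hy)
    | inv a _ iha =>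
      have hpow : ∀ k : ℕ, ∀ y ∈ X, a ^ k * y ∈ X := by
        intro k
        induction k with
        | zero => intro y hy; rwa [pow_zero, one_mul]
        | succ k ih => intro y hy; rw [pow_succ, mul_assoc]; exact ih _ (iha y hy)
      have hinv : a⁻¹ = a ^ (orderOf a - 1) := by
        rw [inv_eq_iff_mul_eq_one, ← pow_succ']
        have : orderOf a - 1 + 1 = orderOf a := by
          have := orderOf_pos a
          omega
        rw [this, pow_orderOf_eq_one]
      rw [hinv]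
      exact hpow _
  intro x hx
  have := key x hx 1 h1
  rwa [mul_one] at this

theorem cover_step {M : Type*} [Monoid M] [DecidableEq M] (A A' U K : Finset M)
    (hK : ∀ a ∈ A', ∀ k ∈ K, a * k ∈ K)
    (hcert : ∀ a ∈ A, ∀ u ∈ U, ∃ u' ∈ U, ∃ L : List M, (∀ m ∈ L, m ∈ A') ∧ a * u = u' * L.prod) :
    ∀ a ∈ A, ∀ z ∈ U * K, a * z ∈ U * K := by
  intro a ha z hz
  obtain ⟨u, hu, k, hk, rfl⟩ := Finset.mem_mul.mp hz
  obtain ⟨u', hu', L, hL, e⟩ := hcert a ha u hu
  have hLk : ∀ (L : List M), (∀ m ∈ L, m ∈ A') → L.prod * k ∈ K := by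
    intro L
    induction L with
    | nil => intro _; simpa using hk
    | cons m L ih =>
      intro h
      rw [List.prod_cons, mul_assoc]
      exact hK m (h m List.mem_cons_self) _ (ih (fun m' hm' => h m' (List.mem_cons_of_mem _ hm')))
  refine Finset.mem_mul.mpr ⟨u', hu', L.prod * k, hLk L hL, ?_⟩
  rw [← mul_assoc, ← e, mul_assoc]

/-- `i`-th entry of a list of codes (the code of `1` if out of range). -/
def nth : List ℕ → ℕ → ℕ
  | [], _ => oneC
  | c :: _, 0 => c
  | _ :: L, n + 1 => nth L n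

theorem nth_mem_or : ∀ (L : List ℕ) (n : ℕ), nth L n ∈ L ∨ nth L n = oneC
  | [], _ => Or.inr (by rw [nth])
  | d :: L, 0 => Or.inl (by simp [nth])
  | d :: L, n + 1 => by
    rw [nth]
    rcases nth_mem_or L n with h | h
    · exact Or.inl (List.mem_cons_of_mem _ h)
    · exact Or.inr h

theorem nth_mem (L : List ℕ) (i : ℕ) (h : oneC ∈ L) : nth L i ∈ L := by
  rcases nth_mem_or L i with h' | h'
  · exact h'
  · rw [h']; exact h

/-- Product of a list of codes. -/
def prodC : List ℕ → ℕ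
  | [] => oneC
  | c :: L => mulC c (prodC L)

theorem decM_prodC (L : List ℕ) : decM (prodC L) = (L.map decM).prod := by
  induction L with
  | nil => simp [prodC, decM_oneC]
  | cons c L ih => simp [prodC, decM_mulC, ih]

/-- One row of a level certificate: `a * u = U[r.1] * ∏ G'[r.2]`. -/
@[irreducible] def rowOK (U G' : List ℕ) (a u : ℕ) (r : ℕ × List ℕ) : Bool :=
  mulC a u == mulC (nth U r.1) (prodC (r.2.map (nth G')))

theorem rowOK_iff (U G' : List ℕ) (a u : ℕ) (r : ℕ × List ℕ) :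
    rowOK U G' a u r = true ↔ mulC a u = mulC (nth U r.1) (prodC (r.2.map (nth G'))) := by
  unfold rowOK
  exact beq_iff_eq

/-- The rows for one generator. -/
def chkRows (U G' : List ℕ) (a : ℕ) : List ℕ → List (ℕ × List ℕ) → Bool
  | [], _ => true
  | _ :: _, [] => false
  | u :: us, r :: rs => rowOK U G' a u r && chkRows U G' a us rs

theorem chkRows_sound (U G' : List ℕ) (a : ℕ) :
    ∀ (us : List ℕ) (rs : List (ℕ × List ℕ)), chkRows U G' a us rs = true →
      ∀ u ∈ us, ∃ r, rowOK U G' a u r = true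
  | [], _, _ => by simp
  | _ :: _, [], h => by simp [chkRows] at h
  | u :: us, r :: rs, h => by
    simp only [chkRows, Bool.and_eq_true] at h
    intro v hv
    rcases List.mem_cons.mp hv with rfl | hv
    · exact ⟨r, h.1⟩
    · exact chkRows_sound U G' a us rs h.2 v hv

/-- A whole level: all generators against the transversal. -/
def chkLevel (U G' : List ℕ) : List ℕ → List (List (ℕ × List ℕ)) → Bool
  | [], _ => true
  | _ :: _, [] => false
  | a :: as, c :: cs => chkRows U G' a U c && chkLevel U G' as cs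

theorem chkLevel_sound (U G' : List ℕ) :
    ∀ (Gl : List ℕ) (cert : List (List (ℕ × List ℕ))), chkLevel U G' Gl cert = true →
      ∀ a ∈ Gl, ∀ u ∈ U, ∃ r, rowOK U G' a u r = true
  | [], _, _ => by simp
  | _ :: _, [], h => by simp [chkLevel] at h
  | a :: as, c :: cs, h => by
    simp only [chkLevel, Bool.and_eq_true] at h
    intro b hb
    rcases List.mem_cons.mp hb with rfl | hb
    · exact chkRows_sound U G' b U c h.1
    · exact chkLevel_sound U G' as cs h.2 b hb

/-- The finite set of matrices coded by a list. -/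
def Sfin (U : List ℕ) : Finset Mat := (U.map decM).toFinset

theorem mem_Sfin {U : List ℕ} {M : Mat} : M ∈ Sfin U ↔ ∃ u ∈ U, decM u = M := by
  simp [Sfin]

theorem card_Sfin_le (U : List ℕ) : (Sfin U).card ≤ U.length := by
  unfold Sfin
  exact (List.toFinset_card_le _).trans (by rw [List.length_map])

theorem level_cert (U G' Gl : List ℕ) (cert : List (List (ℕ × List ℕ)))
    (h : chkLevel U G' Gl cert = true) (hU : oneC ∈ U) (hG : oneC ∈ G') :
    ∀ a ∈ Sfin Gl, ∀ u ∈ Sfin U, ∃ u' ∈ Sfin U, ∃ L : List Mat,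
      (∀ m ∈ L, m ∈ Sfin G') ∧ a * u = u' * L.prod := by
  intro a ha u hu
  obtain ⟨ac, hac, rfl⟩ := mem_Sfin.mp ha
  obtain ⟨uc, huc, rfl⟩ := mem_Sfin.mp hu
  obtain ⟨r, hr⟩ := chkLevel_sound U G' Gl cert h ac hac uc huc
  rw [rowOK_iff] at hr
  refine ⟨decM (nth U r.1), mem_Sfin.mpr ⟨_, nth_mem U _ hU, rfl⟩,
    (r.2.map (nth G')).map decM, ?_, ?_⟩
  · intro m hm
    simp only [List.mem_map] at hm
    obtain ⟨c, ⟨j, hj, rfl⟩, rfl⟩ := hm
    exact mem_Sfin.mpr ⟨_, nth_mem G' _ hG, rfl⟩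
  · rw [← decM_mulC, hr, decM_mulC, decM_prodC]

theorem cover (U0 U1 U2 U3 : List ℕ) (c0 c1 c2 c3 : List (List (ℕ × List ℕ)))
    (h0 : chkLevel U0 (U1 ++ (U2 ++ U3)) [xc, yc] c0 = true)
    (h1 : chkLevel U1 (U2 ++ U3) (U1 ++ (U2 ++ U3)) c1 = true)
    (h2 : chkLevel U2 U3 (U2 ++ U3) c2 = true)
    (h3 : chkLevel U3 [oneC] U3 c3 = true)
    (hone : oneC ∈ U0 ∧ oneC ∈ U1 ∧ oneC ∈ U2 ∧ oneC ∈ U3) :
    ∀ g ∈ Cfsg.Spor.J1, ((g : GL (Fin 7) (ZMod 11)) : Mat) ∈
      Sfin U0 * (Sfin U1 * (Sfin U2 * (Sfin U3 * {1}))) := by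
  have k3 := cover_step (Sfin U3) (Sfin [oneC]) (Sfin U3) {1}
    (by
      intro a ha k hk
      obtain ⟨c, hc, rfl⟩ := mem_Sfin.mp ha
      rw [List.mem_singleton] at hc
      rw [Finset.mem_singleton] at hk ⊢
      rw [hc, hk, decM_oneC, mul_one])
    (level_cert _ _ _ _ h3 hone.2.2.2 (by simp))
  have k2 := cover_step (Sfin (U2 ++ U3)) (Sfin U3) (Sfin U2) _ k3
    (level_cert _ _ _ _ h2 hone.2.2.1 hone.2.2.2)
  have k1 := cover_step (Sfin (U1 ++ (U2 ++ U3))) (Sfin (U2 ++ U3)) (Sfin U1) _ k2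
    (level_cert _ _ _ _ h1 hone.2.1 (List.mem_append_left _ hone.2.2.1))
  have k0 := cover_step (Sfin [xc, yc]) (Sfin (U1 ++ (U2 ++ U3))) (Sfin U0) _ k1
    (level_cert _ _ _ _ h0 hone.1 (List.mem_append_left _ hone.2.1))
  intro g hg
  refine closure_left_closed {Cfsg.Spor.jankoX, Cfsg.Spor.jankoY}
    {g | ((g : GL (Fin 7) (ZMod 11)) : Mat) ∈
      Sfin U0 * (Sfin U1 * (Sfin U2 * (Sfin U3 * {1})))} ?_ ?_ g hg
  · rw [Set.mem_ofPred_eq, Units.val_one]
    have m1 : ∀ U : List ℕ, oneC ∈ U → (1 : Mat) ∈ Sfin U :=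
      fun U h => mem_Sfin.mpr ⟨oneC, h, decM_oneC⟩
    have mm : ∀ (A B : Finset Mat), (1 : Mat) ∈ A → (1 : Mat) ∈ B → (1 : Mat) ∈ A * B :=
      fun A B ha hb => Finset.mem_mul.mpr ⟨1, ha, 1, hb, mul_one 1⟩
    exact mm _ _ (m1 _ hone.1) (mm _ _ (m1 _ hone.2.1) (mm _ _ (m1 _ hone.2.2.1)
      (mm _ _ (m1 _ hone.2.2.2) (Finset.mem_singleton_self (1 : Mat)))))
  · intro s hs z hz
    rw [Set.mem_ofPred_eq] at hz ⊢
    rw [Units.val_mul]
    apply k0 _ _ _ hz
    rcases hs with rfl | rfl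
    · exact mem_Sfin.mpr ⟨xc, by simp, decM_xc⟩
    · exact mem_Sfin.mpr ⟨yc, by simp, decM_yc⟩

theorem card_le_of_cover (F : Finset Mat)
    (h : ∀ g ∈ Cfsg.Spor.J1, ((g : GL (Fin 7) (ZMod 11)) : Mat) ∈ F) :
    Nat.card Cfsg.Spor.J1 ≤ F.card := by
  have hinj : Function.Injective (fun g : Cfsg.Spor.J1 =>
      (⟨((g : GL (Fin 7) (ZMod 11)) : Mat), h g.1 g.2⟩ : F)) := by
    intro a b e
    have e' := congrArg Subtype.val e
    exact Subtype.ext (Units.ext e')
  have h2 := Nat.card_le_card_of_injective _ hinj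
  rwa [Nat.card_eq_fintype_card (α := ↥F), Fintype.card_coe] at h2

theorem card_le (U0 U1 U2 U3 : List ℕ) (c0 c1 c2 c3 : List (List (ℕ × List ℕ)))
    (h0 : chkLevel U0 (U1 ++ (U2 ++ U3)) [xc, yc] c0 = true)
    (h1 : chkLevel U1 (U2 ++ U3) (U1 ++ (U2 ++ U3)) c1 = true)
    (h2 : chkLevel U2 U3 (U2 ++ U3) c2 = true)
    (h3 : chkLevel U3 [oneC] U3 c3 = true)
    (hone : oneC ∈ U0 ∧ oneC ∈ U1 ∧ oneC ∈ U2 ∧ oneC ∈ U3) :
    Nat.card Cfsg.Spor.J1 ≤ U0.length * (U1.length * (U2.length * U3.length)) := by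
  refine (card_le_of_cover _ (cover U0 U1 U2 U3 c0 c1 c2 c3 h0 h1 h2 h3 hone)).trans ?_
  refine (Finset.card_mul_le).trans (Nat.mul_le_mul (card_Sfin_le _) ?_)
  refine (Finset.card_mul_le).trans (Nat.mul_le_mul (card_Sfin_le _) ?_)
  refine (Finset.card_mul_le).trans (Nat.mul_le_mul (card_Sfin_le _) ?_)
  refine (Finset.card_mul_le).trans ?_
  rw [Finset.card_singleton, mul_one]
  exact card_Sfin_le _

/-! ### Coded elements of `J₁` -/

/-- `c` is a code of `g`. -/
def IsCode (g : ↥Cfsg.Spor.J1) (c : ℕ) : Prop :=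
  (((g : ↥Cfsg.Spor.J1) : GL (Fin 7) (ZMod 11)) : Mat) = decM c

theorem isCode_one : IsCode 1 oneC := by
  unfold IsCode
  rw [Subgroup.coe_one, Units.val_one, decM_oneC]

theorem IsCode.mul {g h : ↥Cfsg.Spor.J1} {c d : ℕ} (hg : IsCode g c) (hh : IsCode h d) :
    IsCode (g * h) (mulC c d) := by
  unfold IsCode at *
  rw [Subgroup.coe_mul, Units.val_mul, hg, hh, decM_mulC]

theorem IsCode.eq {g h : ↥Cfsg.Spor.J1} {c : ℕ} (hg : IsCode g c) (hh : IsCode h c) : g = h := by
  unfold IsCode at *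
  exact Subtype.ext (Units.ext (hg.trans hh.symm))

theorem IsCode.pow {g : ↥Cfsg.Spor.J1} {c : ℕ} (hg : IsCode g c) (n : ℕ) :
    IsCode (g ^ n) (prodC (List.replicate n c)) := by
  induction n with
  | zero => rw [pow_zero, List.replicate_zero, prodC]; exact isCode_one
  | succ n ih => rw [pow_succ', List.replicate_succ, prodC]; exact hg.mul ih

/-- Do two codes differ in one of the 49 digits? -/
@[irreducible] def neC (c d : ℕ) : Bool := (List.range 49).any fun m => dg c m != dg d m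

theorem decM_ne_of_neC {c d : ℕ} (h : neC c d = true) : decM c ≠ decM d := by
  unfold neC at h
  rw [List.any_eq_true] at h
  obtain ⟨m, hm, hne⟩ := h
  exact decM_ne c d m (List.mem_range.mp hm) (by simpa using hne)

theorem IsCode.ne {g h : ↥Cfsg.Spor.J1} {c d : ℕ} (hg : IsCode g c) (hh : IsCode h d)
    (hne : neC c d = true) : g ≠ h := by
  intro e
  unfold IsCode at *
  rw [e] at hg
  exact decM_ne_of_neC hne (hg.symm.trans hh)

/-- Code of a generator: `false ↦ X`, `true ↦ Y`. -/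
def genC (b : Bool) : ℕ := bif b then yc else xc

/-- The generators as elements of `J₁`. -/
def gen (b : Bool) : ↥Cfsg.Spor.J1 :=
  bif b then ⟨Cfsg.Spor.jankoY, Subgroup.subset_closure (Set.mem_insert_of_mem _ rfl)⟩
  else ⟨Cfsg.Spor.jankoX, Subgroup.subset_closure (Set.mem_insert _ _)⟩

theorem isCode_gen (b : Bool) : IsCode (gen b) (genC b) := by
  cases b
  · exact decM_xc.symm
  · exact decM_yc.symm

/-- Code of a word. -/
def evalC : List Bool → ℕ
  | [] => oneC
  | b :: w => mulC (genC b) (evalC w)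

/-- The element of `J₁` given by a word. -/
def wp (w : List Bool) : ↥Cfsg.Spor.J1 := (w.map gen).prod

theorem wp_nil : wp [] = 1 := rfl

theorem wp_cons (b : Bool) (w : List Bool) : wp (b :: w) = gen b * wp w := by
  simp [wp]

theorem wp_append (v w : List Bool) : wp (v ++ w) = wp v * wp w := by
  simp [wp]

theorem wp_flatten (L : List (List Bool)) : wp L.flatten = (L.map wp).prod := by
  induction L with
  | nil => rfl
  | cons v L ih => rw [List.flatten_cons, wp_append, ih, List.map_cons, List.prod_cons]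

theorem wp_replicate (n : ℕ) (w : List Bool) : wp (List.replicate n w).flatten = wp w ^ n := by
  rw [wp_flatten, List.map_replicate, List.prod_replicate]

theorem isCode_wp (w : List Bool) : IsCode (wp w) (evalC w) := by
  induction w with
  | nil => exact isCode_one
  | cons b w ih => rw [wp_cons, evalC]; exact (isCode_gen b).mul ih

theorem wp_eq {v w : List Bool} (h : evalC v = evalC w) : wp v = wp w :=
  (isCode_wp v).eq (h ▸ isCode_wp w)

/-- Equality test of two words through their codes. -/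
@[irreducible] def eqW (v w : List Bool) : Bool := evalC v == evalC w

theorem wp_eq_of_eqW {v w : List Bool} (h : eqW v w = true) : wp v = wp w := by
  unfold eqW at h
  exact wp_eq (beq_iff_eq.mp h)

/-- Certificate that the word `w` has prime order `p`. -/
@[irreducible] def ordOK (w : List Bool) (p : ℕ) : Bool :=
  (prodC (List.replicate p (evalC w)) == oneC) && neC (evalC w) oneC

theorem orderOf_wp (w : List Bool) (p : ℕ) (hp : p.Prime) (h : ordOK w p = true) :
    orderOf (wp w) = p := by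
  unfold ordOK at h
  rw [Bool.and_eq_true, beq_iff_eq] at h
  have : Fact p.Prime := ⟨hp⟩
  refine orderOf_eq_prime ?_ ?_
  · exact ((isCode_wp w).pow p).eq (h.1 ▸ isCode_one)
  · exact (isCode_wp w).ne isCode_one h.2

theorem top_of_gens (N : Subgroup ↥Cfsg.Spor.J1) (hx : wp [false] ∈ N) (hy : wp [true] ∈ N) :
    N = ⊤ := by
  rw [eq_top_iff]
  have h := Subgroup.closure_closure_coe_preimage
    (k := ({Cfsg.Spor.jankoX, Cfsg.Spor.jankoY} : Set (GL (Fin 7) (ZMod 11))))
  have h' : (Subgroup.closure (((↑) : ↥Cfsg.Spor.J1 → GL (Fin 7) (ZMod 11)) ⁻¹'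
      {Cfsg.Spor.jankoX, Cfsg.Spor.jankoY}) : Subgroup ↥Cfsg.Spor.J1) = ⊤ := h
  rw [← h', Subgroup.closure_le]
  intro g hg
  rcases hg with hg | hg
  · have : g = wp [false] := Subtype.ext (by rw [hg]; simp [wp, gen])
    rw [this]; exact hx
  · have : g = wp [true] := Subtype.ext (by rw [Set.mem_singleton_iff.mp hg]; simp [wp, gen])
    rw [this]; exact hy

/-! ### Normal closure certificates -/

/-- One row `(a, b, e)`: `b * a = a * g ^ e`. -/
@[irreducible] def nclRow (wg : List Bool) (r : List Bool × List Bool × ℕ) : Bool :=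
  eqW (r.2.1 ++ r.1) (r.1 ++ (List.replicate r.2.2 wg).flatten)

/-- A normal closure certificate: the target is the product of the conjugates `b`. -/
@[irreducible] def nclOK (wg wt : List Bool) (rows : List (List Bool × List Bool × ℕ)) : Bool :=
  (rows.all (nclRow wg)) && eqW (rows.map fun r => r.2.1).flatten wt

theorem ncl_sound (N : Subgroup ↥Cfsg.Spor.J1) (hN : N.Normal) (wg wt : List Bool)
    (rows : List (List Bool × List Bool × ℕ)) (h : nclOK wg wt rows = true) (hg : wp wg ∈ N) :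
    wp wt ∈ N := by
  unfold nclOK at h
  rw [Bool.and_eq_true, List.all_eq_true] at h
  obtain ⟨h1, h2⟩ := h
  rw [← wp_eq_of_eqW h2, wp_flatten]
  apply Subgroup.list_prod_mem
  intro x hx
  simp only [List.map_map, List.mem_map, Function.comp_apply] at hx
  obtain ⟨r, hr, rfl⟩ := hx
  have h3 := h1 r hr
  unfold nclRow at h3
  have h4 := wp_eq_of_eqW h3
  rw [wp_append, wp_append, wp_replicate] at h4
  have h5 : wp r.2.1 = wp r.1 * wp wg ^ r.2.2 * (wp r.1)⁻¹ := by
    rw [← h4, mul_inv_cancel_right]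
  rw [h5]
  exact hN.conj_mem _ (N.pow_mem hg _) _

/-! ### Abstract group theory -/

theorem mem_of_prime_dvd_card {G : Type*} [Group G] [Finite G] (N : Subgroup G) [N.Normal]
    (p : ℕ) (hp : p.Prime) (g : G) (hg : orderOf g = p) (hpN : p ∣ Nat.card N)
    (hpp : ¬ p * p ∣ Nat.card G) : g ∈ N := by
  rw [← QuotientGroup.eq_one_iff]
  have h1 : orderOf (g : G ⧸ N) ∣ p := by
    apply orderOf_dvd_of_pow_eq_one
    rw [← QuotientGroup.mk_pow, ← hg, pow_orderOf_eq_one]
    rfl
  rcases (Nat.dvd_prime hp).mp h1 with h | h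
  · exact orderOf_eq_one_iff.mp h
  · exfalso
    apply hpp
    have h2 : p ∣ Nat.card (G ⧸ N) := by
      have := orderOf_dvd_natCard (g : G ⧸ N)
      rwa [h] at this
    rw [Subgroup.card_eq_card_quotient_mul_card_subgroup N]
    exact Nat.mul_dvd_mul h2 hpN

/-- The subgroup `{E 0, …, E 7}` for a family multiplying like bitwise xor. -/
def xorSubgroup {G : Type*} [Group G] (E : ℕ → G) (h0 : E 0 = 1)
    (hmul : ∀ a < 8, ∀ k < 8, E a * E k = E (a ^^^ k)) : Subgroup G where
  carrier := {g | ∃ k < 8, E k = g}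
  mul_mem' := by
    rintro _ _ ⟨a, ha, rfl⟩ ⟨k, hk, rfl⟩
    exact ⟨a ^^^ k, Nat.xor_lt_two_pow (n := 3) ha hk, (hmul a ha k hk).symm⟩
  one_mem' := ⟨0, by norm_num, h0⟩
  inv_mem' := by
    rintro _ ⟨a, ha, rfl⟩
    refine ⟨a, ha, ?_⟩
    rw [eq_comm, inv_eq_iff_mul_eq_one, hmul a ha a ha, Nat.xor_self, h0]

theorem mem_xorSubgroup {G : Type*} [Group G] (E : ℕ → G) (h0 : E 0 = 1)
    (hmul : ∀ a < 8, ∀ k < 8, E a * E k = E (a ^^^ k)) (g : G) :
    g ∈ xorSubgroup E h0 hmul ↔ ∃ k < 8, E k = g := Iff.rfl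

theorem card_xorSubgroup {G : Type*} [Group G] (E : ℕ → G) (h0 : E 0 = 1)
    (hmul : ∀ a < 8, ∀ k < 8, E a * E k = E (a ^^^ k)) (hne : ∀ k < 8, k ≠ 0 → E k ≠ 1) :
    Nat.card (xorSubgroup E h0 hmul) = 8 := by
  have hbij : Function.Bijective (fun k : Fin 8 =>
      (⟨E k.val, k.val, k.isLt, rfl⟩ : xorSubgroup E h0 hmul)) := by
    constructor
    · intro a k e
      have e' : E a.val = E k.val := congrArg Subtype.val e
      have h1 : E (a.val ^^^ k.val) = 1 := by
        rw [← hmul a.val a.isLt k.val k.isLt, e', hmul k.val k.isLt k.val k.isLt, Nat.xor_self, h0]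
      have h2 : a.val ^^^ k.val = 0 := by
        by_contra hx
        exact hne _ (Nat.xor_lt_two_pow (n := 3) a.isLt k.isLt) hx h1
      exact Fin.ext (Nat.xor_eq_zero_iff.mp h2)
    · rintro ⟨g, k, hk, rfl⟩
      exact ⟨⟨k, hk⟩, rfl⟩
  rw [← Nat.card_congr (Equiv.ofBijective _ hbij), Nat.card_fin]

theorem simple_of_data {G : Type*} [Group G] [Finite G] (hcard : Nat.card G = 175560)
    (g3 g5 g7 g11 g19 e1 : G)
    (h3 : orderOf g3 = 3) (h5 : orderOf g5 = 5) (h7 : orderOf g7 = 7) (h11 : orderOf g11 = 11)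
    (h19 : orderOf g19 = 19)
    (P0 : Subgroup G) (hP0 : Nat.card P0 = 8)
    (hconj : ∀ n ∈ P0, n ≠ 1 → ∃ c : G, c * e1 = n * c)
    (hncl : ∀ N : Subgroup G, N.Normal →
      (g3 ∈ N ∨ g5 ∈ N ∨ g7 ∈ N ∨ g11 ∈ N ∨ g19 ∈ N ∨ e1 ∈ N) → N = ⊤) :
    IsSimpleGroup G := by
  have hnt : Nontrivial G := by
    rw [← Finite.one_lt_card_iff_nontrivial, hcard]
    norm_num
  refine ⟨fun N hN => ?_⟩
  by_contra hcon
  push Not at hcon
  obtain ⟨hbot, htop⟩ := hcon
  have hdvd : Nat.card N ∣ 175560 := hcard ▸ Subgroup.card_subgroup_dvd_card N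
  have key : ∀ p : ℕ, p.Prime → ¬ p * p ∣ 175560 → ∀ g : G, orderOf g = p →
      p ∣ Nat.card N → g ∈ N :=
    fun p hp hpp g hg hd => mem_of_prime_dvd_card N p hp g hg hd (hcard ▸ hpp)
  by_cases c3 : 3 ∣ Nat.card N
  · exact htop (hncl N hN (Or.inl (key 3 (by norm_num) (by norm_num) g3 h3 c3)))
  by_cases c5 : 5 ∣ Nat.card N
  · exact htop (hncl N hN (Or.inr (Or.inl (key 5 (by norm_num) (by norm_num) g5 h5 c5))))
  by_cases c7 : 7 ∣ Nat.card N
  · exact htop (hncl N hN (Or.inr (Or.inr (Or.inl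
      (key 7 (by norm_num) (by norm_num) g7 h7 c7)))))
  by_cases c11 : 11 ∣ Nat.card N
  · exact htop (hncl N hN (Or.inr (Or.inr (Or.inr (Or.inl
      (key 11 (by norm_num) (by norm_num) g11 h11 c11))))))
  by_cases c19 : 19 ∣ Nat.card N
  · exact htop (hncl N hN (Or.inr (Or.inr (Or.inr (Or.inr (Or.inl
      (key 19 (by norm_num) (by norm_num) g19 h19 c19)))))))
  have h8 : Nat.card N ∣ 8 := by
    have cp : ∀ p : ℕ, p.Prime → ¬ p ∣ Nat.card N → Nat.Coprime (Nat.card N) p :=
      fun p hp hnd => ((Nat.Prime.coprime_iff_not_dvd hp).mpr hnd).symm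
    have hc : Nat.Coprime (Nat.card N) (3 * (5 * (7 * (11 * 19)))) :=
      Nat.Coprime.mul_right (cp 3 (by norm_num) c3) (Nat.Coprime.mul_right (cp 5 (by norm_num) c5)
        (Nat.Coprime.mul_right (cp 7 (by norm_num) c7)
          (Nat.Coprime.mul_right (cp 11 (by norm_num) c11) (cp 19 (by norm_num) c19))))
    exact hc.dvd_of_dvd_mul_right (by norm_num; exact hdvd)
  have hNle : N ≤ P0 := by
    obtain ⟨m, -, hNm⟩ := (Nat.dvd_prime_pow Nat.prime_two).mp (show Nat.card N ∣ 2 ^ 3 from h8)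
    have : Fact (Nat.Prime 2) := ⟨Nat.prime_two⟩
    have pN : IsPGroup 2 N := IsPGroup.of_card hNm
    have pP : IsPGroup 2 P0 := IsPGroup.of_card (n := 3) hP0
    have pS : IsPGroup 2 (N ⊔ P0 : Subgroup G) := IsPGroup.to_sup_of_normal_left pN pP
    obtain ⟨j, hj⟩ := IsPGroup.iff_card.mp pS
    have hd : 2 ^ j ∣ 175560 := by
      rw [← hj, ← hcard]
      exact Subgroup.card_subgroup_dvd_card _
    have hj3 : j ≤ 3 := by
      by_contra hj4
      push Not at hj4
      have : 2 ^ 4 ∣ 175560 := (pow_dvd_pow 2 hj4).trans hd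
      norm_num at this
    have hle : Nat.card (N ⊔ P0 : Subgroup G) ≤ Nat.card P0 := by
      rw [hj, hP0]
      calc 2 ^ j ≤ 2 ^ 3 := Nat.pow_le_pow_right (by norm_num) hj3
        _ = 8 := by norm_num
    have hsup := Subgroup.eq_of_le_of_card_ge (le_sup_right : P0 ≤ N ⊔ P0) hle
    rw [hsup]
    exact le_sup_left
  obtain ⟨n, hnN, hn1⟩ : ∃ n ∈ N, n ≠ 1 := by
    by_contra h
    push Not at h
    exact hbot ((Subgroup.eq_bot_iff_forall N).mpr h)
  obtain ⟨c, hc⟩ := hconj n (hNle hnN) hn1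
  have he1 : e1 ∈ N := by
    have e : e1 = c⁻¹ * n * c⁻¹⁻¹ := by
      rw [inv_inv, mul_assoc, ← hc, inv_mul_cancel_left]
    rw [e]
    exact hN.conj_mem n hnN c⁻¹
  exact htop (hncl N hN (Or.inr (Or.inr (Or.inr (Or.inr (Or.inr he1))))))

theorem card_dvd_of_data {G : Type*} [Group G] [Finite G] (g3 g5 g7 g11 g19 : G)
    (h3 : orderOf g3 = 3) (h5 : orderOf g5 = 5) (h7 : orderOf g7 = 7) (h11 : orderOf g11 = 11)
    (h19 : orderOf g19 = 19) (P0 : Subgroup G) (hP0 : Nat.card P0 = 8) :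
    175560 ∣ Nat.card G := by
  have d3 : 3 ∣ Nat.card G := h3 ▸ orderOf_dvd_natCard g3
  have d5 : 5 ∣ Nat.card G := h5 ▸ orderOf_dvd_natCard g5
  have d7 : 7 ∣ Nat.card G := h7 ▸ orderOf_dvd_natCard g7
  have d11 : 11 ∣ Nat.card G := h11 ▸ orderOf_dvd_natCard g11
  have d19 : 19 ∣ Nat.card G := h19 ▸ orderOf_dvd_natCard g19
  have d8 : 8 ∣ Nat.card G := hP0 ▸ Subgroup.card_subgroup_dvd_card P0
  have e : (175560 : ℕ) = 8 * (3 * (5 * (7 * (11 * 19)))) := by norm_num
  rw [e]
  exact Nat.Coprime.mul_dvd_of_dvd_of_dvd (by norm_num) d8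
    (Nat.Coprime.mul_dvd_of_dvd_of_dvd (by norm_num) d3
      (Nat.Coprime.mul_dvd_of_dvd_of_dvd (by norm_num) d5
        (Nat.Coprime.mul_dvd_of_dvd_of_dvd (by norm_num) d7
          (Nat.Coprime.mul_dvd_of_dvd_of_dvd (by norm_num) d11 d19))))

/-! ### The Sylow 2-subgroup data and the main theorem -/

/-- `k`-th word of a list of words (the empty word if out of range). -/
def wordAt : List (List Bool) → ℕ → List Bool
  | [], _ => []
  | w :: _, 0 => w
  | _ :: L, n + 1 => wordAt L n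

/-- Checks for the elementary abelian subgroup of order 8: the codes of the eight words, the
xor multiplication table, and distinctness from `1`. -/
@[irreducible] def sylOK (WE : List (List Bool)) (EC : List ℕ) : Bool :=
  (List.range 8).all fun a =>
    (evalC (wordAt WE a) == nth EC a) && ((a == 0 || neC (nth EC a) oneC) &&
      (List.range 8).all fun k => mulC (nth EC a) (nth EC k) == nth EC (a ^^^ k))

theorem sylOK_sound (WE : List (List Bool)) (EC : List ℕ) (h : sylOK WE EC = true) :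
    (∀ a < 8, IsCode (wp (wordAt WE a)) (nth EC a)) ∧
    (∀ a < 8, a ≠ 0 → wp (wordAt WE a) ≠ 1) ∧
    (∀ a < 8, ∀ k < 8, wp (wordAt WE a) * wp (wordAt WE k) = wp (wordAt WE (a ^^^ k))) := by
  unfold sylOK at h
  rw [List.all_eq_true] at h
  have hc : ∀ a < 8, IsCode (wp (wordAt WE a)) (nth EC a) := by
    intro a ha
    have h1 := h a (List.mem_range.mpr ha)
    rw [Bool.and_eq_true, beq_iff_eq] at h1
    exact h1.1 ▸ isCode_wp _
  refine ⟨hc, ?_, ?_⟩
  · intro a ha ha0
    have h1 := h a (List.mem_range.mpr ha)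
    rw [Bool.and_eq_true, Bool.and_eq_true, Bool.or_eq_true] at h1
    rcases h1.2.1 with h2 | h2
    · exact absurd (beq_iff_eq.mp h2) ha0
    · exact (hc a ha).ne isCode_one h2
  · intro a ha k hk
    have h1 := h a (List.mem_range.mpr ha)
    rw [Bool.and_eq_true, Bool.and_eq_true, List.all_eq_true] at h1
    have h2 := h1.2.2 k (List.mem_range.mpr hk)
    rw [beq_iff_eq] at h2
    have h3 := (hc a ha).mul (hc k hk)
    rw [h2] at h3
    exact h3.eq (hc _ (Nat.xor_lt_two_pow (n := 3) ha hk))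

/-- Checks for the conjugators: `c_k * E_1 = E_k * c_k`. -/
@[irreducible] def conjOK (WC : List (List Bool)) (EC : List ℕ) : Bool :=
  (List.range 8).all fun k =>
    k == 0 || (mulC (evalC (wordAt WC k)) (nth EC 1) == mulC (nth EC k) (evalC (wordAt WC k)))

theorem main (U0 U1 U2 U3 : List ℕ) (c0 c1 c2 c3 : List (List (ℕ × List ℕ)))
    (h0 : chkLevel U0 (U1 ++ (U2 ++ U3)) [xc, yc] c0 = true)
    (h1 : chkLevel U1 (U2 ++ U3) (U1 ++ (U2 ++ U3)) c1 = true)
    (h2 : chkLevel U2 U3 (U2 ++ U3) c2 = true)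
    (h3 : chkLevel U3 [oneC] U3 c3 = true)
    (hone : oneC ∈ U0 ∧ oneC ∈ U1 ∧ oneC ∈ U2 ∧ oneC ∈ U3)
    (hlen : U0.length * (U1.length * (U2.length * U3.length)) = 175560)
    (w3 w11 w19 : List Bool) (o3 : ordOK w3 3 = true) (o5 : ordOK [true] 5 = true)
    (o7 : ordOK [false] 7 = true) (o11 : ordOK w11 11 = true) (o19 : ordOK w19 19 = true)
    (WE WC : List (List Bool)) (EC : List ℕ) (hWE0 : wordAt WE 0 = [])
    (hsyl : sylOK WE EC = true) (hconj : conjOK WC EC = true)
    (r3 r5 r7 r11 r19 re : List (List Bool × List Bool × ℕ))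
    (n3 : nclOK w3 [false] r3 = true) (n5 : nclOK [true] [false] r5 = true)
    (n7 : nclOK [false] [true] r7 = true) (n11 : nclOK w11 [false] r11 = true)
    (n19 : nclOK w19 [false] r19 = true) (ne : nclOK (wordAt WE 1) [false] re = true) :
    IsSimpleGroup ↥Cfsg.Spor.J1 ∧ Nat.card ↥Cfsg.Spor.J1 = 175560 := by
  obtain ⟨hc, hne1, hmul⟩ := sylOK_sound WE EC hsyl
  have hE0 : wp (wordAt WE 0) = 1 := by rw [hWE0]; rfl
  have hP0 := card_xorSubgroup (fun k => wp (wordAt WE k)) hE0 hmul hne1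
  have q3 := orderOf_wp w3 3 (by norm_num) o3
  have q5 := orderOf_wp [true] 5 (by norm_num) o5
  have q7 := orderOf_wp [false] 7 (by norm_num) o7
  have q11 := orderOf_wp w11 11 (by norm_num) o11
  have q19 := orderOf_wp w19 19 (by norm_num) o19
  have hcard : Nat.card ↥Cfsg.Spor.J1 = 175560 := by
    have hdvd := card_dvd_of_data (wp w3) (wp [true]) (wp [false]) (wp w11) (wp w19)
      q3 q5 q7 q11 q19 _ hP0
    have hle := card_le U0 U1 U2 U3 c0 c1 c2 c3 h0 h1 h2 h3 hone
    rw [hlen] at hle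
    exact le_antisymm hle (Nat.le_of_dvd Nat.card_pos hdvd)
  refine ⟨?_, hcard⟩
  refine simple_of_data hcard (wp w3) (wp [true]) (wp [false]) (wp w11) (wp w19)
    (wp (wordAt WE 1)) q3 q5 q7 q11 q19 _ hP0 ?_ ?_
  · rintro n ⟨k, hk, rfl⟩ hn1
    have hk0 : k ≠ 0 := by
      rintro rfl
      exact hn1 hE0
    unfold conjOK at hconj
    rw [List.all_eq_true] at hconj
    have h4 := hconj k (List.mem_range.mpr hk)
    rw [Bool.or_eq_true] at h4
    rcases h4 with h4 | h4
    · exact absurd (beq_iff_eq.mp h4) hk0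
    · refine ⟨wp (wordAt WC k), ?_⟩
      have a1 := (isCode_wp (wordAt WC k)).mul (hc 1 (by norm_num))
      have a2 := (hc k hk).mul (isCode_wp (wordAt WC k))
      rw [beq_iff_eq.mp h4] at a1
      exact a1.eq a2
  · intro N hN hmem
    have hx : wp [false] ∈ N := by
      rcases hmem with h | h | h | h | h | h
      · exact ncl_sound N hN _ _ _ n3 h
      · exact ncl_sound N hN _ _ _ n5 h
      · exact h
      · exact ncl_sound N hN _ _ _ n11 h
      · exact ncl_sound N hN _ _ _ n19 h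
      · exact ncl_sound N hN _ _ _ ne h
    exact top_of_gens N hx (ncl_sound N hN _ _ _ n7 hx)

end Cfsg.Agent.H61.J1
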