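import Mathlib
import Cfsg.Agent.H61.J1Main
import Cfsg.Agent.S3377

/-!
# Janko's group `J₁`: the centraliser of an involution

Checkers (and their soundness) for a tree of conjugates of an element, a kernel-friendly sorting
test for distinctness of codes, and the abstract recognition of `C(t) ≅ 2 × A₅`.
-/

set_option autoImplicit false

namespace Cfsg.Agent.H61.J1

open scoped MatrixGroups

/-! ### Codes below `11 ^ 49` are determined by their matrix -/

theorem digits_sum (c : ℕ) (n : ℕ) : ∑ m ∈ Finset.range n, dg c m * 11 ^ m = c % 11 ^ n := by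
  induction n with
  | zero => simp [Nat.mod_one]
  | succ n ih => rw [Finset.sum_range_succ, ih, Nat.mod_pow_succ, dg_def, mul_comm]

theorem dg_eq_of_decM_eq {c c' : ℕ} (h : decM c = decM c') (m : ℕ) (hm : m < 49) :
    dg c m = dg c' m := by
  by_contra hne
  exact decM_ne c c' m hm hne h

theorem eq_of_decM_eq {c c' : ℕ} (hc : c < 11 ^ 49) (hc' : c' < 11 ^ 49)
    (h : decM c = decM c') : c = c' := by
  have h1 : ∑ m ∈ Finset.range 49, dg c m * 11 ^ m = ∑ m ∈ Finset.range 49, dg c' m * 11 ^ m :=
    Finset.sum_congr rfl (fun m hm => by rw [dg_eq_of_decM_eq h m (Finset.mem_range.mp hm)])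
  rw [digits_sum, digits_sum, Nat.mod_eq_of_lt hc, Nat.mod_eq_of_lt hc'] at h1
  exact h1

/-! ### Trees of conjugates -/

theorem IsCode.conj_of_eq {u g : ↥Cfsg.Spor.J1} {cu p c : ℕ} (hu : IsCode u cu) (hg : IsCode g p)
    (h : mulC cu p = mulC c cu) : IsCode (u * g * u⁻¹) c := by
  unfold IsCode at *
  have h1 : decM cu * decM p = decM c * decM cu := by rw [← decM_mulC, h, decM_mulC]
  rw [Subgroup.coe_mul, Subgroup.coe_mul, Units.val_mul, Units.val_mul, hu, hg, h1, ← hu,
    Subgroup.coe_inv, mul_assoc, Units.mul_inv, mul_one]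

/-- A binary tree of codes: a node carries a code and the subtrees obtained by conjugating with
the generators `X` and `Y`. -/
inductive CT where
  | leaf : CT
  | node (c : ℕ) (x y : CT) : CT

/-- `c` codes the conjugate by the generator `l` of the element coded by `p`. -/
@[irreducible] def conjStep (l : Bool) (p c : ℕ) : Bool := mulC (genC l) p == mulC c (genC l)

theorem conjStep_iff (l : Bool) (p c : ℕ) :
    conjStep l p c = true ↔ mulC (genC l) p = mulC c (genC l) := by
  unfold conjStep
  exact beq_iff_eq

/-- Check a tree of conjugates below a parent with code `p`, reached through the generator `l`. -/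
def chkCT (l : Bool) (p : ℕ) : CT → Bool
  | .leaf => true
  | .node c x y => conjStep l p c && (chkCT false c x && chkCT true c y)

/-- The codes in a tree. -/
def codesCT : CT → List ℕ
  | .leaf => []
  | .node c x y => c :: (codesCT x ++ codesCT y)

/-- Check a tree whose root is the code `tc`. -/
def chkRoot (tc : ℕ) : CT → Bool
  | .leaf => false
  | .node c x y => (c == tc) && (chkCT false c x && chkCT true c y)

/-- `c` codes a conjugate of `t`. -/
def ConjCode (t : ↥Cfsg.Spor.J1) (c : ℕ) : Prop :=
  ∃ g : ↥Cfsg.Spor.J1, IsCode g c ∧ ∃ a : ↥Cfsg.Spor.J1, a * t * a⁻¹ = g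

theorem chkCT_sound (t : ↥Cfsg.Spor.J1) : ∀ (T : CT) (l : Bool) (p : ℕ), chkCT l p T = true →
    ConjCode t p → ∀ c ∈ codesCT T, ConjCode t c
  | .leaf, _, _, _, _ => by
    intro c hc
    rw [codesCT] at hc
    exact absurd hc List.not_mem_nil
  | .node c x y, l, p, h, hp => by
    rw [chkCT, Bool.and_eq_true, Bool.and_eq_true, conjStep_iff] at h
    obtain ⟨h1, h2, h3⟩ := h
    have hc : ConjCode t c := by
      obtain ⟨g, hg, a, ha⟩ := hp
      refine ⟨gen l * g * (gen l)⁻¹, (isCode_gen l).conj_of_eq hg h1, gen l * a, ?_⟩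
      rw [← ha]
      group
    intro c' hc'
    rw [codesCT, List.mem_cons, List.mem_append] at hc'
    rcases hc' with rfl | hc' | hc'
    · exact hc
    · exact chkCT_sound t x false c h2 hc c' hc'
    · exact chkCT_sound t y true c h3 hc c' hc'

theorem chkRoot_sound (t : ↥Cfsg.Spor.J1) (tc : ℕ) (ht : IsCode t tc) (T : CT)
    (h : chkRoot tc T = true) : ∀ c ∈ codesCT T, ConjCode t c := by
  cases T with
  | leaf => rw [chkRoot] at h; exact absurd h (by simp)
  | node c x y =>
    rw [chkRoot, Bool.and_eq_true, Bool.and_eq_true, beq_iff_eq] at h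
    obtain ⟨h1, h2, h3⟩ := h
    have hc : ConjCode t c := ⟨t, h1 ▸ ht, 1, by group⟩
    intro c' hc'
    rw [codesCT, List.mem_cons, List.mem_append] at hc'
    rcases hc' with rfl | hc' | hc'
    · exact hc
    · exact chkCT_sound t x false c h2 hc c' hc'
    · exact chkCT_sound t y true c h3 hc c' hc'

/-! ### Distinctness through a tree sort -/

/-- Binary search trees of natural numbers. -/
inductive BT where
  | leaf : BT
  | node (l : BT) (c : ℕ) (r : BT) : BT

/-- Insertion. -/
def insBT (c : ℕ) : BT → BT
  | .leaf => .node .leaf c .leaf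
  | .node l d r => bif Nat.blt c d then .node (insBT c l) d r else .node l d (insBT c r)

/-- In-order traversal. -/
def listBT : BT → List ℕ
  | .leaf => []
  | .node l d r => listBT l ++ d :: listBT r

theorem listBT_ins (c : ℕ) : ∀ b : BT, (listBT (insBT c b)).Perm (c :: listBT b)
  | .leaf => by simp [insBT, listBT]
  | .node l d r => by
    rw [insBT]
    cases Nat.blt c d
    · rw [cond_false, listBT, listBT]
      have ih := listBT_ins c r
      exact ((List.Perm.cons d ih).append_left _).trans
        (((List.Perm.swap c d _).append_left _).trans List.perm_middle)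
    · rw [cond_true, listBT, listBT]
      have ih := listBT_ins c l
      exact ih.append_right _

theorem foldl_ins_perm : ∀ (L : List ℕ) (b : BT),
    (listBT (L.foldl (fun b c => insBT c b) b)).Perm (L ++ listBT b)
  | [], b => by simp
  | c :: L, b => by
    rw [List.foldl_cons]
    exact (foldl_ins_perm L (insBT c b)).trans
      (((listBT_ins c b).append_left L).trans List.perm_middle)

/-- Strictly increasing lists. -/
def strictInc : List ℕ → Bool
  | a :: b :: L => Nat.blt a b && strictInc (b :: L)
  | _ => true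

theorem strictInc_lt : ∀ (L : List ℕ) (a : ℕ), strictInc (a :: L) = true → ∀ x ∈ L, a < x
  | [], _, _ => by simp
  | b :: L, a, h => by
    rw [strictInc, Bool.and_eq_true, Nat.blt_eq] at h
    intro x hx
    rcases List.mem_cons.mp hx with rfl | hx
    · exact h.1
    · exact h.1.trans (strictInc_lt L b h.2 x hx)

theorem strictInc_tail : ∀ (L : List ℕ) (a : ℕ), strictInc (a :: L) = true → strictInc L = true
  | [], _, _ => rfl
  | b :: L, a, h => by
    rw [strictInc, Bool.and_eq_true] at h
    exact h.2

theorem strictInc_nodup : ∀ L : List ℕ, strictInc L = true → L.Nodup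
  | [], _ => List.nodup_nil
  | a :: L, h => by
    rw [List.nodup_cons]
    refine ⟨fun ha => ?_, strictInc_nodup L (strictInc_tail L a h)⟩
    exact lt_irrefl a (strictInc_lt L a h a ha)

/-- Distinctness test: sort by insertion into a search tree, then compare neighbours. -/
@[irreducible] def nodupOK (L : List ℕ) : Bool :=
  strictInc (listBT (L.foldl (fun b c => insBT c b) BT.leaf))

theorem nodup_of_nodupOK (L : List ℕ) (h : nodupOK L = true) : L.Nodup := by
  unfold nodupOK at h
  have h1 := strictInc_nodup _ h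
  have h2 := foldl_ins_perm L BT.leaf
  rw [listBT, List.append_nil] at h2
  exact h2.nodup_iff.mp h1

/-! ### The centraliser -/

theorem card_centralizer_le {G : Type*} [Group G] [Finite G] (t : G) (n : ℕ) (s : Fin n → G)
    (hinj : Function.Injective s) (hs : ∀ i, ∃ a : G, a * t * a⁻¹ = s i) :
    n * Nat.card (Subgroup.centralizer ({t} : Set G)) ≤ Nat.card G := by
  choose a ha using hs
  have hc : ∀ c : Subgroup.centralizer ({t} : Set G), (c : G) * t * (c : G)⁻¹ = t := by
    intro c
    have := Subgroup.mem_centralizer_iff.mp c.2 t rfl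
    rw [← this, mul_inv_cancel_right]
  have key : ∀ (x : G) (c : Subgroup.centralizer ({t} : Set G)),
      x * c * t * (x * c)⁻¹ = x * t * x⁻¹ := by
    intro x c
    calc x * c * t * (x * c)⁻¹ = x * ((c : G) * t * (c : G)⁻¹) * x⁻¹ := by group
      _ = x * t * x⁻¹ := by rw [hc c]
  have hf : Function.Injective
      (fun p : Fin n × Subgroup.centralizer ({t} : Set G) => a p.1 * (p.2 : G)) := by
    rintro ⟨i, c⟩ ⟨j, c'⟩ e
    have e' : a i * (c : G) = a j * (c' : G) := e
    have h1 : s i = s j := by
      rw [← ha i, ← ha j, ← key (a i) c, ← key (a j) c', e']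
    have hij : i = j := hinj h1
    subst hij
    have hcc : c = c' := Subtype.ext (mul_left_cancel e')
    rw [hcc]
  have := Nat.card_le_card_of_injective _ hf
  rwa [Nat.card_prod, Nat.card_fin] at this

theorem card_centralizer_J1 (hG : Nat.card ↥Cfsg.Spor.J1 = 175560) (t : ↥Cfsg.Spor.J1) (tc : ℕ)
    (ht : IsCode t tc) (T : CT) (h1 : chkRoot tc T = true) (h2 : nodupOK (codesCT T) = true)
    (h3 : (codesCT T).all (fun c => Nat.blt c (11 ^ 49)) = true)
    (h4 : (codesCT T).length = 1463) :
    Nat.card (Subgroup.centralizer ({t} : Set ↥Cfsg.Spor.J1)) ≤ 120 := by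
  have hconj := chkRoot_sound t tc ht T h1
  have hnd := nodup_of_nodupOK _ h2
  rw [List.all_eq_true] at h3
  have hex : ∀ i : Fin (codesCT T).length, ConjCode t ((codesCT T).get i) :=
    fun i => hconj _ (List.get_mem _ i)
  choose s hs using hex
  have hinj : Function.Injective s := by
    intro i j e
    have e1 : decM ((codesCT T).get i) = decM ((codesCT T).get j) := by
      rw [← (hs i).1, ← (hs j).1, e]
    have e2 := eq_of_decM_eq (Nat.blt_eq.mp (h3 _ (List.get_mem _ i)))
      (Nat.blt_eq.mp (h3 _ (List.get_mem _ j))) e1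
    exact (List.nodup_iff_injective_get.mp hnd) e2
  have h5 := card_centralizer_le t _ s hinj (fun i => (hs i).2)
  rw [hG, h4] at h5
  omega

theorem centralizer_equiv {G : Type*} [Group G] [Finite G] (t a b : G) (ht : orderOf t = 2)
    (hcard : Nat.card (Subgroup.centralizer ({t} : Set G)) ≤ 120)
    (hat : t * a = a * t) (hbt : t * b = b * t) (ha3 : a ^ 3 = 1) (hb5 : b ^ 5 = 1)
    (hab : (a * b) ^ 2 = 1) (ha1 : a ≠ 1) :
    Nonempty (↥(Subgroup.centralizer ({t} : Set G)) ≃*
      Multiplicative (ZMod 2) × ↥(alternatingGroup (Fin 5))) := by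
  have memC : ∀ g : G, t * g = g * t → g ∈ Subgroup.centralizer ({t} : Set G) := by
    intro g hg
    rw [Subgroup.mem_centralizer_iff]
    intro h hh
    rw [Set.mem_singleton_iff.mp hh]
    exact hg
  let tC : Subgroup.centralizer ({t} : Set G) := ⟨t, memC t rfl⟩
  let aC : Subgroup.centralizer ({t} : Set G) := ⟨a, memC a hat⟩
  let bC : Subgroup.centralizer ({t} : Set G) := ⟨b, memC b hbt⟩
  have htC2 : tC ^ 2 = 1 := Subtype.ext (by
    rw [Subgroup.coe_pow, Subgroup.coe_one, ← ht]
    exact pow_orderOf_eq_one t)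
  have htC1 : tC ≠ 1 := by
    intro e
    have e' : t = 1 := congrArg Subtype.val e
    rw [e', orderOf_one] at ht
    norm_num at ht
  have hcent : ∀ c : Subgroup.centralizer ({t} : Set G), Commute tC c := by
    intro c
    exact Subtype.ext (Subgroup.mem_centralizer_iff.mp c.2 t rfl)
  -- the homomorphism from `A₅`
  have hrel : ∀ r ∈ Cfsg.Agent.S3377.rels, FreeGroup.lift ![aC, bC] r = 1 := by
    intro r hr
    rcases hr with rfl | rfl | rfl
    · rw [map_pow, FreeGroup.lift_apply_of]
      exact Subtype.ext ha3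
    · rw [map_pow, FreeGroup.lift_apply_of]
      exact Subtype.ext hb5
    · rw [map_pow, map_mul, FreeGroup.lift_apply_of, FreeGroup.lift_apply_of]
      exact Subtype.ext hab
  obtain ⟨e⟩ := Cfsg.Agent.S3377.result
  let ψ : alternatingGroup (Fin 5) →* Subgroup.centralizer ({t} : Set G) :=
    (PresentedGroup.toGroup hrel).comp e.symm.toMonoidHom
  have hψa : ψ (e (PresentedGroup.of 0)) = aC := by
    change PresentedGroup.toGroup hrel (e.symm (e (PresentedGroup.of 0))) = aC
    rw [MulEquiv.symm_apply_apply, PresentedGroup.toGroup.of]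
    rfl
  have hψinj : Function.Injective ψ := by
    rw [← MonoidHom.ker_eq_bot_iff]
    have hsimple : IsSimpleGroup (alternatingGroup (Fin 5)) := inferInstance
    rcases hsimple.eq_bot_or_eq_top_of_normal ψ.ker (MonoidHom.normal_ker ψ) with h | h
    · exact h
    · exfalso
      have : e (PresentedGroup.of 0) ∈ ψ.ker := by rw [h]; exact Subgroup.mem_top _
      rw [MonoidHom.mem_ker, hψa] at this
      exact ha1 (congrArg Subtype.val this)
  -- the homomorphism from `ZMod 2`
  let f : Multiplicative (ZMod 2) →* Subgroup.centralizer ({t} : Set G) :=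
    { toFun := fun z => tC ^ (Multiplicative.toAdd z).val
      map_one' := by
        change tC ^ (0 : ZMod 2).val = 1
        rw [ZMod.val_zero, pow_zero]
      map_mul' := by
        intro x y
        change tC ^ (Multiplicative.toAdd x + Multiplicative.toAdd y).val =
          tC ^ (Multiplicative.toAdd x).val * tC ^ (Multiplicative.toAdd y).val
        rw [ZMod.val_add, ← pow_add, ← pow_eq_pow_mod _ htC2] }
  have hf : ∀ z, f z = tC ^ (Multiplicative.toAdd z).val := fun z => rfl
  have hcomm : ∀ m n, Commute (f m) (ψ n) := fun m n => (hcent (ψ n)).pow_left _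
  let Φ := MonoidHom.noncommCoprod f ψ hcomm
  have hΦ : ∀ z σ, Φ (z, σ) = f z * ψ σ := fun z σ => rfl
  have hcenterA : ∀ σ : alternatingGroup (Fin 5), (∀ τ, σ * τ = τ * σ) → σ = 1 := by
    intro σ hσ
    have hsimple : IsSimpleGroup (alternatingGroup (Fin 5)) := inferInstance
    have hmem : σ ∈ Subgroup.center (alternatingGroup (Fin 5)) := by
      rw [Subgroup.mem_center_iff]
      intro τ
      exact (hσ τ).symm
    rcases hsimple.eq_bot_or_eq_top_of_normal (Subgroup.center _) inferInstance with h | h
    · rw [h, Subgroup.mem_bot] at hmem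
      exact hmem
    · exfalso
      have h1 : Cfsg.Agent.S3377.ga ∈ Subgroup.center (alternatingGroup (Fin 5)) := by
        rw [h]; exact Subgroup.mem_top _
      rw [Subgroup.mem_center_iff] at h1
      have h2 := h1 Cfsg.Agent.S3377.gb
      revert h2
      decide
  have hΦinj : Function.Injective Φ := by
    rw [injective_iff_map_eq_one]
    rintro ⟨z, σ⟩ hz
    rw [hΦ, hf] at hz
    have hval : (Multiplicative.toAdd z).val = 0 ∨ (Multiplicative.toAdd z).val = 1 := by
      have := ZMod.val_lt (Multiplicative.toAdd z)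
      omega
    rcases hval with hv | hv
    · rw [hv, pow_zero, one_mul] at hz
      have hσ : σ = 1 := hψinj (hz.trans (map_one ψ).symm)
      have hz0 : Multiplicative.toAdd z = 0 := (ZMod.val_eq_zero _).mp hv
      have hz1 : z = 1 := hz0
      rw [hσ, hz1]
      rfl
    · exfalso
      rw [hv, pow_one] at hz
      have hψσ : ψ σ = tC⁻¹ := eq_inv_of_mul_eq_one_right hz
      have hσ : σ = 1 := by
        apply hcenterA
        intro τ
        apply hψinj
        rw [map_mul, map_mul, hψσ]
        exact ((hcent (ψ τ)).inv_left).eq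
      rw [hσ, map_one] at hψσ
      exact htC1 (inv_eq_one.mp hψσ.symm)
  have hcardA : Nat.card (alternatingGroup (Fin 5)) = 60 := by
    have h := two_mul_nat_card_alternatingGroup (α := Fin 5)
    rw [Nat.card_perm, Nat.card_fin] at h
    have : (5 : ℕ).factorial = 120 := by decide
    omega
  have hcardZ : Nat.card (Multiplicative (ZMod 2)) = 2 := by
    rw [Nat.card_congr Multiplicative.toAdd, Nat.card_eq_fintype_card, ZMod.card]
  have hbij : Function.Bijective Φ := by
    apply hΦinj.bijective_of_nat_card_le
    rw [Nat.card_prod, hcardA, hcardZ]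
    exact hcard
  exact ⟨(MulEquiv.ofBijective Φ hbij).symm⟩

/-- The centraliser of the involution given by the word `wt` is `2 × A₅`, from certificates. -/
theorem centralizer_J1 (hG : Nat.card ↥Cfsg.Spor.J1 = 175560) (wt wa wb : List Bool) (tc : ℕ)
    (T : CT) (hw : (evalC wt == tc) = true)
    (h1 : chkRoot tc T = true) (h2 : nodupOK (codesCT T) = true)
    (h3 : (codesCT T).all (fun c => Nat.blt c (11 ^ 49)) = true)
    (h4 : (codesCT T).length = 1463)
    (ho : ordOK wt 2 = true)
    (k1 : eqW (wt ++ wa) (wa ++ wt) = true) (k2 : eqW (wt ++ wb) (wb ++ wt) = true)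
    (k3 : eqW (List.replicate 3 wa).flatten [] = true)
    (k4 : eqW (List.replicate 5 wb).flatten [] = true)
    (k5 : eqW (List.replicate 2 (wa ++ wb)).flatten [] = true)
    (k6 : neC (evalC wa) oneC = true) :
    ∃ t : ↥Cfsg.Spor.J1, orderOf t = 2 ∧
      Nonempty (↥(Subgroup.centralizer ({t} : Set ↥Cfsg.Spor.J1)) ≃*
        Multiplicative (ZMod 2) × ↥(alternatingGroup (Fin 5))) := by
  have ht : IsCode (wp wt) tc := beq_iff_eq.mp hw ▸ isCode_wp wt
  refine ⟨wp wt, orderOf_wp wt 2 Nat.prime_two ho, ?_⟩
  refine centralizer_equiv (wp wt) (wp wa) (wp wb) (orderOf_wp wt 2 Nat.prime_two ho)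
    (card_centralizer_J1 hG (wp wt) tc ht T h1 h2 h3 h4) ?_ ?_ ?_ ?_ ?_ ?_
  · rw [← wp_append, ← wp_append]
    exact wp_eq_of_eqW k1
  · rw [← wp_append, ← wp_append]
    exact wp_eq_of_eqW k2
  · rw [← wp_replicate]
    exact wp_eq_of_eqW k3
  · rw [← wp_replicate]
    exact wp_eq_of_eqW k4
  · rw [← wp_append, ← wp_replicate]
    exact wp_eq_of_eqW k5
  · exact (isCode_wp wa).ne isCode_one k6

end Cfsg.Agent.H61.J1
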