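import Mathlib
import Cfsg.Agent.H61.J1Cent
import Cfsg.Prelude.Def_KGroupFacts

/-!
# Janko's group `J₁`: all automorphisms are inner

`J₁ = ⟨T, U⟩` with `T` an involution and `U` of order 3.  By Sylow's theorem an automorphism can be
adjusted by an inner one to fix `U`; the image of `T` is then one of the 1463 involutions, and for
each of them a certificate either refutes it (the order of `TU` or of `[T, U]` is wrong) or
exhibits an element of `C(U)` conjugating `T` to it.
-/

set_option autoImplicit false

namespace Cfsg.Agent.H61.J1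

open scoped MatrixGroups Pointwise

/-! ### Sylow -/

theorem exists_conj_mem_of_card_pow {G : Type*} [Group G] [Finite G] (p : ℕ) (hp : p.Prime)
    (P : Subgroup G) (k : ℕ) (hP : Nat.card P = p ^ k) (hk : ¬ p ^ (k + 1) ∣ Nat.card G)
    (x : G) (j : ℕ) (hx : orderOf x = p ^ j) : ∃ g : G, g * x * g⁻¹ ∈ P := by
  have : Fact p.Prime := ⟨hp⟩
  have hPp : IsPGroup p P := IsPGroup.of_card hP
  let S : Sylow p G :=
    { toSubgroup := P
      isPGroup' := hPp
      is_maximal' := by
        intro Q hQ hPQ
        obtain ⟨m, hm⟩ := IsPGroup.iff_card.mp hQ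
        have hmk : m ≤ k := by
          by_contra h
          push Not at h
          apply hk
          have h1 : p ^ (k + 1) ∣ p ^ m := pow_dvd_pow p h
          rw [← hm] at h1
          exact h1.trans (Subgroup.card_subgroup_dvd_card Q)
        have hle : Nat.card Q ≤ Nat.card P := by
          rw [hm, hP]
          exact Nat.pow_le_pow_right hp.pos hmk
        exact (Subgroup.eq_of_le_of_card_ge hPQ hle).symm }
  have hxp : IsPGroup p (Subgroup.zpowers x) :=
    IsPGroup.of_card (n := j) (by rw [Nat.card_zpowers, hx])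
  obtain ⟨Q, hQ⟩ := hxp.exists_le_sylow
  obtain ⟨g, hg⟩ := MulAction.exists_smul_eq G Q S
  refine ⟨g, ?_⟩
  have hxQ : x ∈ (Q : Subgroup G) := hQ (Subgroup.mem_zpowers x)
  have h1 : g * x * g⁻¹ ∈ ((g • Q : Sylow p G) : Subgroup G) := by
    rw [Sylow.smul_def, Sylow.pointwise_smul_def]
    exact Subgroup.smul_mem_pointwise_smul x (MulAut.conj g) _ hxQ
  rw [hg] at h1
  exact h1

/-! ### A full list of conjugates -/

theorem card_centralizer_le_finset {G : Type*} [Group G] [Finite G] (t : G) (S : Finset G)
    (hS : ∀ x ∈ S, ∃ a : G, a * t * a⁻¹ = x) :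
    S.card * Nat.card (Subgroup.centralizer ({t} : Set G)) ≤ Nat.card G :=
  card_centralizer_le t S.card (fun i => (S.equivFin.symm i : G))
    (fun _ _ e => S.equivFin.symm.injective (Subtype.ext e))
    (fun i => hS _ (S.equivFin.symm i).2)

theorem conj_mem_family {G : Type*} [Group G] [Finite G] (t : G) (n : ℕ) (s : Fin n → G)
    (hinj : Function.Injective s) (hs : ∀ i, ∃ a : G, a * t * a⁻¹ = s i)
    (hcard : Nat.card G < (n + 1) * Nat.card (Subgroup.centralizer ({t} : Set G)))
    (x : G) (hx : ∃ a : G, a * t * a⁻¹ = x) : ∃ i, s i = x := by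
  classical
  by_contra hne
  push Not at hne
  have h1 := card_centralizer_le_finset t (insert x (Finset.univ.image s)) (by
    intro y hy
    rcases Finset.mem_insert.mp hy with rfl | hy
    · exact hx
    · obtain ⟨i, -, rfl⟩ := Finset.mem_image.mp hy
      exact hs i)
  rw [Finset.card_insert_of_notMem (by
    intro h
    obtain ⟨i, -, hi⟩ := Finset.mem_image.mp h
    exact hne i hi), Finset.card_image_of_injective _ hinj, Finset.card_univ,
    Fintype.card_fin] at h1
  omega

/-! ### Powers by binary digits -/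

/-- Code of the power with exponent given by binary digits, lowest first. -/
def powB (z : ℕ) : List Bool → ℕ
  | [] => oneC
  | b :: bs =>
    match bs with
    | [] => bif b then z else oneC
    | _ :: _ =>
      bif b then mulC (mulC (powB z bs) (powB z bs)) z else mulC (powB z bs) (powB z bs)

/-- Value of a list of binary digits, lowest first. -/
def bitsVal : List Bool → ℕ
  | [] => 0
  | b :: bs => (bif b then 1 else 0) + 2 * bitsVal bs

theorem IsCode.powB {g : ↥Cfsg.Spor.J1} {z : ℕ} (hg : IsCode g z) :
    ∀ bs : List Bool, IsCode (g ^ bitsVal bs) (powB z bs)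
  | [] => by
    rw [bitsVal, pow_zero, J1.powB]
    exact isCode_one
  | [b] => by
    cases b
    · rw [bitsVal, bitsVal, J1.powB]
      simp only [cond_false, Nat.mul_zero, Nat.add_zero, pow_zero]
      exact isCode_one
    · rw [bitsVal, bitsVal, J1.powB]
      simp only [cond_true, Nat.mul_zero, Nat.add_zero, pow_one]
      exact hg
  | b :: c :: bs => by
    have ih := IsCode.powB hg (c :: bs)
    cases b
    · rw [bitsVal, J1.powB]
      simp only [cond_false, Nat.zero_add]
      rw [two_mul, pow_add]
      exact ih.mul ih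
    · rw [bitsVal, J1.powB]
      simp only [cond_true]
      rw [add_comm, pow_succ, two_mul, pow_add]
      exact (ih.mul ih).mul hg

/-! ### Certificates for the candidates -/

/-- A certificate for a candidate image of `T`: the order of `TU` is wrong, or the order of the
commutator is wrong, or the candidate is the conjugate of `T` by the given word in `C(U)`. -/
inductive OC where
  | bad1 : OC
  | bad2 : OC
  | good (w : List Bool) : OC

/-- Check one candidate. -/
def chkCand (tc uc u2c c : ℕ) : OC → Bool
  | .bad1 => neC (powB (mulC c uc) [true, true, true]) oneC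
  | .bad2 => neC (powB (mulC c (mulC uc (mulC c u2c))) [true, true, false, false, true]) oneC
  | .good w => (mulC (evalC w) tc == mulC c (evalC w)) && (mulC (evalC w) uc == mulC uc (evalC w))

theorem chkCand_bad1 (tc uc u2c c : ℕ) : chkCand tc uc u2c c .bad1 =
    neC (powB (mulC c uc) [true, true, true]) oneC := rfl

theorem chkCand_bad2 (tc uc u2c c : ℕ) : chkCand tc uc u2c c .bad2 =
    neC (powB (mulC c (mulC uc (mulC c u2c))) [true, true, false, false, true]) oneC := rfl

theorem chkCand_good (tc uc u2c c : ℕ) (w : List Bool) : chkCand tc uc u2c c (.good w) =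
    ((mulC (evalC w) tc == mulC c (evalC w)) && (mulC (evalC w) uc == mulC uc (evalC w))) := rfl

/-- Check all candidates. -/
def chkCands (tc uc u2c : ℕ) : List ℕ → List OC → Bool
  | [], _ => true
  | _ :: _, [] => false
  | c :: cs, o :: os => chkCand tc uc u2c c o && chkCands tc uc u2c cs os

theorem chkCands_sound (tc uc u2c : ℕ) : ∀ (L : List ℕ) (O : List OC),
    chkCands tc uc u2c L O = true → ∀ c ∈ L, ∃ o, chkCand tc uc u2c c o = true
  | [], _, _ => by simp
  | _ :: _, [], h => by rw [chkCands] at h; exact absurd h (by simp)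
  | c :: cs, o :: os, h => by
    rw [chkCands, Bool.and_eq_true] at h
    intro c' hc'
    rcases List.mem_cons.mp hc' with rfl | hc'
    · exact ⟨o, h.1⟩
    · exact chkCands_sound tc uc u2c cs os h.2 c' hc'

theorem isCode_listProd {T U : ↥Cfsg.Spor.J1} {tc uc : ℕ} (hT : IsCode T tc) (hU : IsCode U uc) :
    ∀ v : List Bool, IsCode (v.map fun b => bif b then U else T).prod
      (prodC (v.map fun b => bif b then uc else tc))
  | [] => by
    rw [List.map_nil, List.map_nil, List.prod_nil, prodC]
    exact isCode_one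
  | b :: v => by
    rw [List.map_cons, List.map_cons, List.prod_cons, prodC]
    refine IsCode.mul ?_ (isCode_listProd hT hU v)
    cases b
    · exact hT
    · exact hU

theorem conjOK_sound (WC : List (List Bool)) (EC : List ℕ) (h : conjOK WC EC = true)
    (WE : List (List Bool)) (hc : ∀ a < 8, IsCode (wp (wordAt WE a)) (nth EC a))
    (k : ℕ) (hk : k < 8) (hk0 : k ≠ 0) :
    ∃ c : ↥Cfsg.Spor.J1, c * wp (wordAt WE 1) = wp (wordAt WE k) * c := by
  unfold conjOK at h
  rw [List.all_eq_true] at h
  have h4 := h k (List.mem_range.mpr hk)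
  rw [Bool.or_eq_true] at h4
  rcases h4 with h4 | h4
  · exact absurd (beq_iff_eq.mp h4) hk0
  · refine ⟨wp (wordAt WC k), ?_⟩
    have a1 := (isCode_wp (wordAt WC k)).mul (hc 1 (by norm_num))
    have a2 := (hc k hk).mul (isCode_wp (wordAt WC k))
    rw [beq_iff_eq.mp h4] at a1
    exact a1.eq a2

/-! ### The theorem -/

set_option maxHeartbeats 2000000 in
theorem inn_eq_top (hG : Nat.card ↥Cfsg.Spor.J1 = 175560)
    (WE WC : List (List Bool)) (EC : List ℕ) (hWE0 : wordAt WE 0 = [])
    (hsyl : sylOK WE EC = true) (hconj : conjOK WC EC = true)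
    (tc : ℕ) (T : CT) (hw : (evalC (wordAt WE 1) == tc) = true)
    (h1 : chkRoot tc T = true) (h2 : nodupOK (codesCT T) = true)
    (h3 : (codesCT T).all (fun c => Nat.blt c (11 ^ 49)) = true)
    (h4 : (codesCT T).length = 1463)
    (hC : 120 ≤ Nat.card (Subgroup.centralizer ({wp (wordAt WE 1)} : Set ↥Cfsg.Spor.J1)))
    (hT2 : ordOK (wordAt WE 1) 2 = true)
    (wu wn : List Bool) (uc u2c : ℕ) (hu : (evalC wu == uc) = true)
    (hu2 : (mulC uc uc == u2c) = true) (ho3 : ordOK wu 3 = true)
    (hn : eqW (wn ++ wu) ((wu ++ wu) ++ wn) = true)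
    (ht1 : (powB (mulC tc uc) [true, true, true] == oneC) = true)
    (ht2 : (powB (mulC tc (mulC uc (mulC tc u2c))) [true, true, false, false, true] == oneC)
      = true)
    (O : List OC) (hO : chkCands tc uc u2c (codesCT T) O = true)
    (vX vY : List Bool)
    (hX : (prodC (vX.map fun b => bif b then uc else tc) == evalC [false]) = true)
    (hY : (prodC (vY.map fun b => bif b then uc else tc) == evalC [true]) = true) :
    Cfsg.Inn ↥Cfsg.Spor.J1 = ⊤ := by
  obtain ⟨hc, hne1, hmul⟩ := sylOK_sound WE EC hsyl
  have hE0 : wp (wordAt WE 0) = 1 := by rw [hWE0]; rfl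
  have hP0 := card_xorSubgroup (fun k => wp (wordAt WE k)) hE0 hmul hne1
  have hTc : IsCode (wp (wordAt WE 1)) tc := by
    have a1 := isCode_wp (wordAt WE 1)
    rw [beq_iff_eq.mp hw] at a1
    exact a1
  have hTo : orderOf (wp (wordAt WE 1)) = 2 := orderOf_wp _ 2 Nat.prime_two hT2
  -- involutions are conjugate to `T`
  have hinv : ∀ t' : ↥Cfsg.Spor.J1, orderOf t' = 2 →
      ∃ a : ↥Cfsg.Spor.J1, a * wp (wordAt WE 1) * a⁻¹ = t' := by
    intro t' ht'
    obtain ⟨g, hg⟩ := exists_conj_mem_of_card_pow 2 Nat.prime_two _ 3 hP0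
      (by rw [hG]; norm_num) t' 1 (by rw [ht']; norm_num)
    obtain ⟨k, hk, hEk⟩ := hg
    have hk0 : k ≠ 0 := by
      rintro rfl
      have e1 : g * t' * g⁻¹ = 1 := hEk.symm.trans hE0
      have e2 : t' = 1 := by
        have : t' = g⁻¹ * (g * t' * g⁻¹) * g := by group
        rw [this, e1]
        group
      rw [e2, orderOf_one] at ht'
      norm_num at ht'
    obtain ⟨c, hc'⟩ := conjOK_sound WC EC hconj WE hc k hk hk0
    refine ⟨g⁻¹ * c, ?_⟩
    have e3 : c * wp (wordAt WE 1) * c⁻¹ = g * t' * g⁻¹ := by
      rw [hc', mul_inv_cancel_right]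
      exact hEk
    calc g⁻¹ * c * wp (wordAt WE 1) * (g⁻¹ * c)⁻¹
        = g⁻¹ * (c * wp (wordAt WE 1) * c⁻¹) * g := by group
      _ = g⁻¹ * (g * t' * g⁻¹) * g := by rw [e3]
      _ = t' := by group
  -- the list of conjugates is complete
  have hconjL := chkRoot_sound (wp (wordAt WE 1)) tc hTc T h1
  have hnd := nodup_of_nodupOK _ h2
  rw [List.all_eq_true] at h3
  have hex : ∀ i : Fin (codesCT T).length, ConjCode (wp (wordAt WE 1)) ((codesCT T).get i) :=
    fun i => hconjL _ (List.get_mem _ i)
  choose s hs using hex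
  have hsinj : Function.Injective s := by
    intro i j e
    have e1 : decM ((codesCT T).get i) = decM ((codesCT T).get j) := by
      rw [← (hs i).1, ← (hs j).1, e]
    have e2 := eq_of_decM_eq (Nat.blt_eq.mp (h3 _ (List.get_mem _ i)))
      (Nat.blt_eq.mp (h3 _ (List.get_mem _ j))) e1
    exact (List.nodup_iff_injective_get.mp hnd) e2
  have hcode : ∀ t' : ↥Cfsg.Spor.J1, orderOf t' = 2 → ∃ c ∈ codesCT T, IsCode t' c := by
    intro t' ht'
    obtain ⟨i, hi⟩ := conj_mem_family (wp (wordAt WE 1)) _ s hsinj (fun i => (hs i).2)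
      (by rw [hG, h4]; omega) t' (hinv t' ht')
    exact ⟨_, List.get_mem _ i, hi ▸ (hs i).1⟩
  -- the element `U`
  have hUc : IsCode (wp wu) uc := by
    have a1 := isCode_wp wu
    rw [beq_iff_eq.mp hu] at a1
    exact a1
  have hU3 : orderOf (wp wu) = 3 := orderOf_wp wu 3 Nat.prime_three ho3
  have hUUU : wp wu * wp wu * wp wu = 1 := by
    have := pow_orderOf_eq_one (wp wu)
    rwa [hU3, pow_succ, pow_two] at this
  have hUi : (wp wu)⁻¹ = wp wu * wp wu := by
    rw [inv_eq_iff_mul_eq_one, ← mul_assoc]
    exact hUUU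
  have hUic : IsCode (wp wu)⁻¹ u2c := by
    rw [hUi]
    have a1 := hUc.mul hUc
    rw [beq_iff_eq.mp hu2] at a1
    exact a1
  have hN : wp wn * wp wu * (wp wn)⁻¹ = (wp wu)⁻¹ := by
    have := wp_eq_of_eqW hn
    rw [wp_append, wp_append, wp_append] at this
    rw [this, mul_inv_cancel_right, hUi]
  -- the two relations of the true pair
  have hr1 : (wp (wordAt WE 1) * wp wu) ^ 7 = 1 := by
    have a1 := (hTc.mul hUc).powB [true, true, true]
    rw [beq_iff_eq.mp ht1] at a1
    exact a1.eq isCode_one
  have hr2 : (wp (wordAt WE 1) * (wp wu * (wp (wordAt WE 1) * (wp wu)⁻¹))) ^ 19 = 1 := by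
    have a1 := (hTc.mul (hUc.mul (hTc.mul hUic))).powB [true, true, false, false, true]
    rw [beq_iff_eq.mp ht2] at a1
    exact a1.eq isCode_one
  -- generation
  have hgenX : wp [false] = (vX.map fun b => bif b then wp wu else wp (wordAt WE 1)).prod := by
    have a1 := isCode_listProd hTc hUc vX
    rw [beq_iff_eq.mp hX] at a1
    exact (isCode_wp [false]).eq a1
  have hgenY : wp [true] = (vY.map fun b => bif b then wp wu else wp (wordAt WE 1)).prod := by
    have a1 := isCode_listProd hTc hUc vY
    rw [beq_iff_eq.mp hY] at a1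
    exact (isCode_wp [true]).eq a1
  -- every automorphism is inner
  have key : ∀ α : MulAut ↥Cfsg.Spor.J1, ∃ g : ↥Cfsg.Spor.J1, MulAut.conj g = α := by
    intro α
    have hαU : orderOf (α (wp wu)) = 3 := by rw [MulEquiv.orderOf_eq]; exact hU3
    obtain ⟨g, hg⟩ := exists_conj_mem_of_card_pow 3 Nat.prime_three (Subgroup.zpowers (wp wu)) 1
      (by rw [Nat.card_zpowers, hU3]; norm_num) (by rw [hG]; norm_num) (α (wp wu)) 1
      (by rw [hαU]; norm_num)
    have hstep1 : ∃ g' : ↥Cfsg.Spor.J1, g' * α (wp wu) * g'⁻¹ = wp wu := by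
      have hy3 : orderOf (g * α (wp wu) * g⁻¹) = 3 := by
        have e0 : g * α (wp wu) * g⁻¹ = MulAut.conj g (α (wp wu)) := rfl
        rw [e0, MulEquiv.orderOf_eq]
        exact hαU
      rw [← mem_powers_iff_mem_zpowers, Submonoid.mem_powers_iff] at hg
      obtain ⟨m, hm⟩ := hg
      rw [← pow_mod_orderOf, hU3] at hm
      have hm3 : m % 3 < 3 := Nat.mod_lt _ (by norm_num)
      interval_cases h : m % 3
      · exfalso
        rw [pow_zero] at hm
        rw [← hm, orderOf_one] at hy3
        norm_num at hy3
      · rw [pow_one] at hm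
        exact ⟨g, hm.symm⟩
      · refine ⟨(wp wn)⁻¹ * g, ?_⟩
        have e1 : g * α (wp wu) * g⁻¹ = (wp wu)⁻¹ := by
          rw [← hm, pow_two, hUi]
        calc (wp wn)⁻¹ * g * α (wp wu) * ((wp wn)⁻¹ * g)⁻¹
            = (wp wn)⁻¹ * (g * α (wp wu) * g⁻¹) * wp wn := by group
          _ = (wp wn)⁻¹ * (wp wn * wp wu * (wp wn)⁻¹) * wp wn := by rw [e1, hN]
          _ = wp wu := by group
    obtain ⟨g', hg'⟩ := hstep1
    have hβ : ∀ x, (MulAut.conj g' * α) x = g' * α x * g'⁻¹ := fun x => rfl
    have hβU : (MulAut.conj g' * α) (wp wu) = wp wu := by rw [hβ]; exact hg'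
    have hβT2 : orderOf ((MulAut.conj g' * α) (wp (wordAt WE 1))) = 2 := by
      rw [MulEquiv.orderOf_eq]; exact hTo
    obtain ⟨c, hcL, hcode'⟩ := hcode _ hβT2
    obtain ⟨o, ho⟩ := chkCands_sound tc uc u2c _ O hO c hcL
    have hfinal : ∃ W : ↥Cfsg.Spor.J1, MulAut.conj g' * α = MulAut.conj W := by
      cases o with
      | bad1 =>
        exfalso
        rw [chkCand_bad1] at ho
        have e1 := ((hcode'.mul hUc).powB [true, true, true]).ne isCode_one ho
        apply e1
        have e2 := congrArg (MulAut.conj g' * α) hr1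
        rw [map_pow, map_mul, hβU, map_one] at e2
        exact e2
      | bad2 =>
        exfalso
        rw [chkCand_bad2] at ho
        have e1 := ((hcode'.mul (hUc.mul (hcode'.mul hUic))).powB
          [true, true, false, false, true]).ne isCode_one ho
        apply e1
        have e2 := congrArg (MulAut.conj g' * α) hr2
        rw [map_pow, map_mul, map_mul, map_mul, map_inv, hβU, map_one] at e2
        exact e2
      | good w =>
        rw [chkCand_good, Bool.and_eq_true, beq_iff_eq, beq_iff_eq] at ho
        have eT : (MulAut.conj g' * α) (wp (wordAt WE 1)) =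
            wp w * wp (wordAt WE 1) * (wp w)⁻¹ :=
          hcode'.eq ((isCode_wp w).conj_of_eq hTc ho.1)
        have eU0 : wp w * wp wu = wp wu * wp w := by
          have a1 := (isCode_wp w).mul hUc
          have a2 := hUc.mul (isCode_wp w)
          rw [ho.2] at a1
          exact a1.eq a2
        have eU : (MulAut.conj g' * α) (wp wu) = wp w * wp wu * (wp w)⁻¹ := by
          rw [hβU, eU0, mul_inv_cancel_right]
        refine ⟨wp w, ?_⟩
        have hlist : ∀ v : List Bool,
            (MulAut.conj g' * α) (v.map fun b => bif b then wp wu else wp (wordAt WE 1)).prod =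
            MulAut.conj (wp w) (v.map fun b => bif b then wp wu else wp (wordAt WE 1)).prod := by
          intro v
          induction v with
          | nil => rw [List.map_nil, List.prod_nil, map_one, map_one]
          | cons b v ih =>
            have hb : (MulAut.conj g' * α) (bif b then wp wu else wp (wordAt WE 1)) =
                MulAut.conj (wp w) (bif b then wp wu else wp (wordAt WE 1)) := by
              cases b
              · rw [cond_false, MulAut.conj_apply]
                exact eT
              · rw [cond_true, MulAut.conj_apply]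
                exact eU
            rw [List.map_cons, List.prod_cons, map_mul, map_mul, ih, hb]
        have htop := top_of_gens
          ((MulAut.conj g' * α).toMonoidHom.eqLocus (MulAut.conj (wp w)).toMonoidHom)
          (by rw [hgenX]; exact hlist vX) (by rw [hgenY]; exact hlist vY)
        apply MulEquiv.ext
        intro x
        have hx : x ∈ (MulAut.conj g' * α).toMonoidHom.eqLocus
            (MulAut.conj (wp w)).toMonoidHom := by
          rw [htop]; exact Subgroup.mem_top x
        exact hx
    obtain ⟨W, hW⟩ := hfinal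
    refine ⟨g'⁻¹ * W, ?_⟩
    rw [map_mul, map_inv, ← hW, inv_mul_cancel_left]
  rw [eq_top_iff]
  intro α _
  exact key α

/-- The centraliser of the involution given by `wt` has at least 120 elements. -/
theorem centralizer_card_J1 (hG : Nat.card ↥Cfsg.Spor.J1 = 175560) (wt wa wb : List Bool) (tc : ℕ)
    (T : CT) (hw : (evalC wt == tc) = true)
    (h1 : chkRoot tc T = true) (h2 : nodupOK (codesCT T) = true)
    (h3 : (codesCT T).all (fun c => Nat.blt c (11 ^ 49)) = true)
    (h4 : (codesCT T).length = 1463)
    (ho : ordOK wt 2 = true)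
    (k1 : eqW (wt ++ wa) (wa ++ wt) = true) (k2 : eqW (wt ++ wb) (wb ++ wt) = true)
    (k3 : eqW (List.replicate 3 wa).flatten [] = true)
    (k4 : eqW (List.replicate 5 wb).flatten [] = true)
    (k5 : eqW (List.replicate 2 (wa ++ wb)).flatten [] = true)
    (k6 : neC (evalC wa) oneC = true) :
    120 ≤ Nat.card (Subgroup.centralizer ({wp wt} : Set ↥Cfsg.Spor.J1)) := by
  have ht : IsCode (wp wt) tc := by
    have a1 := isCode_wp wt
    rw [beq_iff_eq.mp hw] at a1
    exact a1
  have he : Nonempty (↥(Subgroup.centralizer ({wp wt} : Set ↥Cfsg.Spor.J1)) ≃*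
      Multiplicative (ZMod 2) × ↥(alternatingGroup (Fin 5))) := by
    refine centralizer_equiv (wp wt) (wp wa) (wp wb) (orderOf_wp wt 2 Nat.prime_two ho)
      (card_centralizer_J1 hG (wp wt) tc ht T h1 h2 h3 h4) ?_ ?_ ?_ ?_ ?_ ?_
    · rw [← wp_append, ← wp_append]
      exact wp_eq_of_eqW k1
    · rw [← wp_append, ← wp_append]
      exact wp_eq_of_eqW k2
    · rw [← wp_replicate]
      exact wp_eq_of_eqW k3
    · rw [← wp_replicate]
      exact wp_eq_of_eqW k4
    · rw [← wp_append, ← wp_replicate]
      exact wp_eq_of_eqW k5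
    · exact (isCode_wp wa).ne isCode_one k6
  obtain ⟨e⟩ := he
  have hcardA : Nat.card (alternatingGroup (Fin 5)) = 60 := by
    have h := two_mul_nat_card_alternatingGroup (α := Fin 5)
    rw [Nat.card_perm, Nat.card_fin] at h
    have : (5 : ℕ).factorial = 120 := by decide
    omega
  have hcardZ : Nat.card (Multiplicative (ZMod 2)) = 2 := by
    rw [Nat.card_congr Multiplicative.toAdd, Nat.card_eq_fintype_card, ZMod.card]
  rw [Nat.card_congr e.toEquiv, Nat.card_prod, hcardA, hcardZ]

theorem out_card_one (h : Cfsg.Inn ↥Cfsg.Spor.J1 = ⊤) : Nat.card (Cfsg.Out ↥Cfsg.Spor.J1) = 1 :=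
  Subgroup.index_eq_one.mpr h

end Cfsg.Agent.H61.J1
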