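import Mathlib
import Cfsg.Agent.H61.J1Out
import Cfsg.Agent.H61.J1CentData

/-!
# Janko's group `J₁`: certificate data for `Out(J₁) = 1`

An element `U` of order 3 with `J₁ = ⟨T, U⟩`, `(TU)⁷ = [T, U]¹⁹ = 1`, an element inverting `U`,
and for each of the 1463 involutions a certificate (wrong order of the product with `U`, wrong
order of the commutator, or a conjugating element of `C(U)`).
-/

set_option autoImplicit false

namespace Cfsg.Agent.H61.J1

/-- A word of order 3. -/
def wuO : List Bool := [true, false, true, true, false, false, true, false, false, true, true]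
/-- A word inverting it. -/
def wnO : List Bool := [true, false, true, false, true, true, true]
/-- Code of `U`. -/
def ucO : ℕ := 673516629160882112474841839372214839386981515514621
/-- Code of the inverse of `U`. -/
def u2cO : ℕ := 611156582537062149173962251987865314436570847020381
/-- The generator `X` as a word in `T` (false) and `U` (true). -/
def vXO : List Bool := [true, true, false, true, false, true, false, true, true, false, true, false, true, true, false, true, false, true, true, false, true, false, true, true, false, true, true, false, true, false, true, true, false, true, false, true, true, false, true, false, true, true, false, true, false, true, false, true, true, false, true, false, true, true, false, true, false, true]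
/-- The generator `Y` as a word in `T` (false) and `U` (true). -/
def vYO : List Bool := [true, false, true, true, false, true, true, false, true, false, true, true, false, true, false, true, true, false, true, false, true, true, false, true, true, false, true, false, true, false, true, true, false, true, false, true, false, true, true, false, true, true, false, true, false, true, false, true, false]

/-- Certificates for the 1463 involutions, in the order of `codesCT ctree`. -/
def candO : List OC := [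
  .good [],
  .bad1, .bad1, .bad1, .bad1, .bad1, .bad1, .bad1, .bad1, .bad1, .bad1, .bad1, .bad1,
  .bad1, .bad1, .bad1, .bad1, .bad1, .bad1, .bad1, .bad1, .bad1, .bad1, .bad1, .bad1,
  .bad1, .bad1, .bad1, .bad1, .bad1, .bad1, .bad1, .bad1, .bad1, .bad1, .bad1, .bad1,
  .bad1, .bad1, .bad1, .bad1, .bad1, .bad1, .bad2, .bad1, .bad1, .bad2, .bad1, .bad1,
  .bad1, .bad2, .bad1, .bad1, .bad1, .bad1, .bad1, .bad1, .bad1, .bad2, .bad1, .bad1,
  .bad1, .bad1, .bad1, .bad1, .bad1, .bad1, .bad1, .bad1, .bad1, .bad1, .bad2, .bad1,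
  .bad1, .bad1, .bad1, .bad1, .bad1, .bad1, .bad1, .bad1, .bad1, .bad1, .bad1, .bad1,
  .bad2, .bad1, .bad1, .bad1, .bad1, .bad1, .bad1, .bad1, .bad1, .bad1, .bad1, .bad1,
  .bad1, .bad1, .bad1, .bad1, .bad1, .bad1, .bad1, .bad1, .bad2, .bad1,
  .good [false, false, true, true, true, false, false, false, false, false, false, true, false, false],
  .bad1, .bad1, .bad1, .bad1, .bad1, .bad1, .bad1, .bad1, .bad1, .bad2, .bad2, .bad2,
  .bad1, .bad1, .bad1, .bad1, .bad1, .bad2, .bad1, .bad2, .bad1, .bad2, .bad1, .bad1,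
  .bad1, .bad1, .bad1, .bad1, .bad2, .bad1, .bad1, .bad1, .bad1, .bad1, .bad2, .bad1,
  .bad1, .bad1, .bad1, .bad1, .bad2, .bad1, .bad1, .bad1, .bad1, .bad2, .bad1, .bad1,
  .bad1, .bad2, .bad1, .bad1, .bad1, .bad2, .bad1, .bad1, .bad1, .bad1, .bad1, .bad1,
  .bad1, .bad1, .bad1, .bad1, .bad1, .bad1, .bad1, .bad2, .bad1, .bad1, .bad2, .bad1,
  .bad1, .bad1, .bad1, .bad1, .bad1, .bad1, .bad1, .bad1, .bad1, .bad1, .bad2, .bad1,
  .bad2,
  .good [true, true, false, false, true, false, false, true, true, false, false, true, false, false, false, true, false, true, false],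
  .bad1, .bad1, .bad1, .bad1, .bad1, .bad1, .bad1, .bad1, .bad1, .bad1, .bad1, .bad1,
  .bad2, .bad1, .bad2, .bad1, .bad1, .bad1, .bad1, .bad1,
  .good [true, true, false, false, false, false, true, false, true, false, false, false, false, true, true, false, true, false],
  .bad2, .bad1, .bad2, .bad1, .bad1, .bad1, .bad1, .bad1, .bad1, .bad1, .bad1, .bad1,
  .bad2, .bad1, .bad1, .bad1, .bad1, .bad1, .bad1, .bad2, .bad1, .bad1, .bad1, .bad1,
  .bad1, .bad1, .bad1, .bad1, .bad1, .bad2, .bad1, .bad1, .bad1, .bad1, .bad1, .bad2,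
  .bad1, .bad1, .bad1, .bad1, .bad1, .bad1, .bad1, .bad1, .bad1, .bad1, .bad1, .bad1,
  .bad1, .bad1, .bad1, .bad1, .bad1, .bad1,
  .good [false, true, true, true, false, false, false, false, false, true],
  .bad1, .bad1, .bad1, .bad1, .bad1, .bad1, .bad1, .bad1, .bad1, .bad1, .bad1, .bad1,
  .bad1, .bad1, .bad1, .bad1, .bad1, .bad1, .bad1, .bad1, .bad1, .bad2, .bad1, .bad1,
  .bad1, .bad1, .bad1, .bad1, .bad1, .bad1, .bad1, .bad1, .bad1, .bad1, .bad1, .bad1,
  .bad1, .bad1, .bad1, .bad2, .bad1, .bad1, .bad1, .bad1, .bad1,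
  .good [true, false, true, false, false, false, true, true, false, true, false, true, false, false, false, false],
  .bad2, .bad1, .bad1, .bad1, .bad2, .bad1, .bad1, .bad1, .bad1, .bad1, .bad1, .bad1,
  .bad1, .bad1, .bad2, .bad1, .bad1, .bad1, .bad1, .bad1, .bad2, .bad1, .bad1, .bad2,
  .bad2, .bad1, .bad1, .bad1, .bad1, .bad1, .bad1, .bad1, .bad1,
  .good [true, true, true, false, true, false, true, false, true, false, true, true, true, false, true, false],
  .bad1, .bad1, .bad1, .bad1, .bad1, .bad2, .bad1, .bad1, .bad1, .bad1, .bad1, .bad1,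
  .bad1, .bad1, .bad2, .bad1, .bad1, .bad1, .bad1, .bad1, .bad1, .bad1, .bad1, .bad1,
  .bad1, .bad1, .bad1, .bad1, .bad1, .bad1, .bad1, .bad1, .bad1, .bad1, .bad1, .bad1,
  .bad1, .bad1, .bad1, .bad1, .bad1, .bad1, .bad1, .bad1, .bad2, .bad1, .bad1, .bad1,
  .bad1, .bad1, .bad1, .bad1, .bad1,
  .good [true, true, true, false, false, false, true, true, false, true, true, true, false, true, true, false, true, false, true],
  .bad1, .bad1, .bad2, .bad1,
  .good [true, true, false, false, true, true, false, true, true, false, false, true, true, true, false, false, true, false, false],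
  .bad1, .bad1, .bad1, .bad2, .bad1, .bad1, .bad1, .bad2, .bad1, .bad1, .bad1, .bad1,
  .bad1, .bad1, .bad1, .bad1, .bad2, .bad2, .bad2, .bad1, .bad1, .bad1, .bad1, .bad1,
  .bad1, .bad1, .bad2, .bad1, .bad1, .bad1, .bad1, .bad1, .bad1, .bad1, .bad1, .bad1,
  .bad1, .bad1, .bad1, .bad1, .bad1, .bad1, .bad2, .bad1, .bad1, .bad2, .bad1, .bad1,
  .bad1, .bad1, .bad1, .bad1, .bad1, .bad2, .bad2, .bad1, .bad1, .bad1, .bad1, .bad2,
  .bad2, .bad1, .bad1, .bad1, .bad1, .bad1, .bad1, .bad1, .bad1, .bad1, .bad1, .bad1,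
  .bad1, .bad1, .bad1, .bad1, .bad1, .bad1, .bad2, .bad1, .bad1, .bad1, .bad1, .bad1,
  .bad1, .bad1, .bad1, .bad1, .bad1, .bad1, .bad1, .bad1, .bad1, .bad1, .bad1, .bad1,
  .bad1, .bad1, .bad1, .bad1, .bad2, .bad2, .bad1, .bad1, .bad1, .bad1, .bad1, .bad1,
  .bad1, .bad1, .bad1, .bad1, .bad1, .bad1, .bad1, .bad1, .bad1, .bad2, .bad1, .bad1,
  .bad2, .bad2, .bad1, .bad1, .bad1, .bad1, .bad1, .bad1, .bad1, .bad1, .bad1, .bad1,
  .bad1, .bad1, .bad2, .bad1, .bad1, .bad1, .bad2, .bad2, .bad1, .bad2, .bad1, .bad1,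
  .good [true, false, true, false, true, true, true, false, false, true, true, true, false, true, false, false, false, false],
  .bad2, .bad1, .bad2, .bad1, .bad1, .bad1, .bad1, .bad1, .bad1, .bad1, .bad1, .bad1,
  .bad2, .bad1, .bad1, .bad1, .bad1, .bad1, .bad1, .bad1, .bad1, .bad1, .bad1, .bad1,
  .bad1, .bad1, .bad1, .bad1, .bad2, .bad1, .bad1, .bad1, .bad2, .bad1, .bad1, .bad1,
  .bad1, .bad2, .bad1, .bad1, .bad1, .bad1, .bad1, .bad1, .bad1,
  .good [true, false, false, true, false, true, true, true, false, true, false, true, false, true, false, false],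
  .bad1, .bad1, .bad1, .bad1, .bad1,
  .good [true, true, false, false, true, true, false, true, true, true, false, false, false, false, false],
  .bad1, .bad1, .bad1, .bad2, .bad2, .bad2, .bad1, .bad1, .bad1, .bad1, .bad2, .bad1,
  .bad1, .bad1, .bad1, .bad1, .bad1, .bad2, .bad1, .bad2, .bad1, .bad1, .bad1, .bad1,
  .bad1, .bad1, .bad1, .bad1, .bad1, .bad1, .bad1, .bad1, .bad1, .bad1, .bad1, .bad1,
  .bad1, .bad1, .bad1, .bad1, .bad1, .bad1, .bad1, .bad1, .bad1, .bad1, .bad1, .bad1,
  .bad2, .bad1, .bad1, .bad1, .bad2, .bad2, .bad1, .bad1, .bad1, .bad1, .bad1, .bad2,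
  .bad1, .bad1, .bad1, .bad1, .bad2, .bad2, .bad1, .bad1, .bad1, .bad1, .bad1, .bad1,
  .bad1, .bad1, .bad2, .bad1, .bad1, .bad1, .bad1, .bad2, .bad1, .bad2, .bad1, .bad1,
  .bad2, .bad1, .bad1, .bad1, .bad1, .bad1, .bad1, .bad1, .bad1, .bad1, .bad1, .bad1,
  .bad1, .bad1, .bad1, .bad1, .bad1, .bad1, .bad1, .bad1, .bad1, .bad1, .bad1, .bad1,
  .bad2, .bad1, .bad1, .bad1, .bad1, .bad1, .bad1, .bad1, .bad1, .bad1, .bad2, .bad2,
  .bad1, .bad1, .bad1, .bad1, .bad1, .bad1, .bad1, .bad1, .bad1, .bad1, .bad2, .bad1,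
  .bad1, .bad1, .bad1, .bad1, .bad1, .bad1, .bad1, .bad1, .bad1, .bad1, .bad2, .bad1,
  .bad1, .bad1, .bad1, .bad1, .bad1, .bad1, .bad1, .bad1, .bad1, .bad1, .bad2, .bad1,
  .good [true, false, true, false, true, false, true, false, true, false, false, false, true, false, false, false, true],
  .bad1, .bad2, .bad1, .bad1, .bad1, .bad1, .bad1, .bad1, .bad1, .bad1, .bad1, .bad1,
  .bad2, .bad1, .bad1, .bad1, .bad1, .bad1, .bad1, .bad2, .bad1, .bad1, .bad1, .bad1,
  .bad1, .bad1, .bad1, .bad1, .bad1, .bad2, .bad1, .bad1, .bad1, .bad1, .bad1, .bad1,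
  .bad1, .bad1, .bad1, .bad1, .bad1, .bad2, .bad1, .bad1, .bad1, .bad1, .bad1, .bad1,
  .bad1, .bad1, .bad1, .bad1, .bad1, .bad2, .bad2, .bad1, .bad1, .bad1, .bad1, .bad2,
  .bad1, .bad2, .bad1, .bad2, .bad1,
  .good [false, true, true, false, true, false, true, true, false, true, true, true, false, true, true, false, false, false, false],
  .bad1, .bad1, .bad1, .bad1, .bad1, .bad1, .bad1, .bad1, .bad1, .bad1, .bad1, .bad1,
  .good [true, false, true, false, true, true, true, false, true, true, true, false, true, false, false, false],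
  .bad1, .bad1, .bad1, .bad2, .bad1, .bad1, .bad1, .bad1, .bad1, .bad1, .bad1, .bad1,
  .good [false, true, false, true, false, false, false, true, false, true, false, false, true, false],
  .bad2, .bad1, .bad1, .bad2, .bad1, .bad1, .bad2, .bad1, .bad1, .bad1, .bad2, .bad1,
  .bad1, .bad1, .bad1,
  .good [false, true, true, true, false, true, false, false, false, true, false, true, false, true, true, true],
  .bad1, .bad1, .bad1, .bad1, .bad1, .bad1, .bad2, .bad1, .bad1, .bad1, .bad1, .bad1,
  .bad1, .bad1, .bad1, .bad1, .bad1, .bad1, .bad1, .bad1, .bad1, .bad1, .bad1, .bad1,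
  .bad1, .bad1, .bad1, .bad1, .bad1, .bad1, .bad1, .bad1, .bad1, .bad1, .bad2, .bad1,
  .bad1, .bad1, .bad1, .bad1, .bad1, .bad1, .bad1, .bad1, .bad1, .bad1, .bad1, .bad1,
  .bad1, .bad2, .bad1, .bad1, .bad1, .bad1, .bad1, .bad1, .bad2, .bad2, .bad1, .bad1,
  .bad1, .bad1, .bad1, .bad1, .bad1, .bad1, .bad1, .bad1, .bad1, .bad1, .bad1, .bad1,
  .bad2, .bad1, .bad1, .bad2, .bad1, .bad1, .bad1, .bad1, .bad1, .bad1, .bad1, .bad1,
  .bad1, .bad1, .bad1, .bad1, .bad1, .bad1, .bad2,
  .good [true, false, false, false, true, false, true, false, false, true, true, false, true, false, true, true, false],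
  .bad1, .bad1, .bad1, .bad1, .bad1, .bad1, .bad1, .bad1, .bad1, .bad2, .bad1, .bad1,
  .bad1, .bad1, .bad1, .bad1, .bad1, .bad1, .bad1, .bad1, .bad1, .bad1, .bad1, .bad1,
  .bad1, .bad1, .bad1, .bad1, .bad1, .bad1, .bad2, .bad1, .bad1, .bad1, .bad1, .bad1,
  .bad2, .bad1, .bad1, .bad1, .bad1, .bad2, .bad1, .bad1, .bad1, .bad1, .bad1, .bad1,
  .bad2, .bad1, .bad2, .bad1, .bad1, .bad1, .bad1, .bad1, .bad1, .bad1, .bad1, .bad1,
  .bad1, .bad1, .bad2, .bad1, .bad1, .bad1, .bad1, .bad1, .bad1, .bad1, .bad1, .bad2,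
  .bad1, .bad1, .bad1, .bad1, .bad1, .bad1, .bad1, .bad1, .bad1, .bad1, .bad1, .bad2,
  .bad1, .bad1, .bad1, .bad1, .bad1, .bad2, .bad1, .bad1, .bad1, .bad1, .bad1, .bad1,
  .bad1, .bad1, .bad2, .bad2, .bad1, .bad1, .bad1, .bad2, .bad1, .bad1, .bad1, .bad1,
  .bad1, .bad1, .bad1, .bad1, .bad1, .bad1,
  .good [true, false, true, true, false, false, true, false, false, true, true],
  .bad1, .bad1, .bad1, .bad1, .bad1, .bad1, .bad1, .bad1, .bad1, .bad1, .bad1, .bad1,
  .bad1, .bad1, .bad1, .bad1, .bad2, .bad1, .bad1, .bad1, .bad1, .bad1, .bad1, .bad2,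
  .bad1, .bad1, .bad1, .bad1, .bad1, .bad1, .bad1, .bad1,
  .good [false, false, true, true, false, true, true, false, false, false, true, true, true, false, true, false, false],
  .bad1, .bad1, .bad1, .bad1,
  .good [true, true, false, false, false, false, true, false, true, true, false, false, false, true, true, true],
  .bad1, .bad1, .bad2, .bad1, .bad1, .bad2, .bad1, .bad1, .bad1, .bad1, .bad1, .bad1,
  .bad1, .bad1, .bad1, .bad1, .bad1, .bad1, .bad1, .bad1, .bad1, .bad1, .bad2, .bad1,
  .bad1, .bad1, .bad1, .bad2, .bad1, .bad1, .bad1, .bad1, .bad1, .bad2, .bad1, .bad1,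
  .bad1, .bad2, .bad1, .bad1, .bad1, .bad1, .bad1, .bad1, .bad1, .bad1, .bad2, .bad1,
  .bad1, .bad1, .bad1, .bad1, .bad1, .bad1, .bad2, .bad1, .bad1, .bad1, .bad1, .bad1,
  .bad1, .bad1, .bad1, .bad1, .bad1, .bad1, .bad1, .bad2, .bad1, .bad2, .bad1, .bad1,
  .bad1, .bad1, .bad1, .bad1, .bad1, .bad1, .bad1, .bad1, .bad1, .bad1, .bad1, .bad2,
  .bad2, .bad1, .bad1, .bad1, .bad1, .bad1, .bad1, .bad1, .bad1, .bad1,
  .good [false, true, false, true, false, false, false, false, false, true, false, false, false, true, false, true, false, false, false],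
  .bad1, .bad2, .bad1, .bad1, .bad1, .bad1, .bad1, .bad1, .bad1, .bad2, .bad1, .bad1,
  .bad1, .bad1, .bad1, .bad2, .bad1, .bad1, .bad1, .bad1, .bad1, .bad1, .bad1, .bad1,
  .bad1, .bad1, .bad1, .bad1, .bad1, .bad1, .bad2, .bad2, .bad1, .bad1, .bad1, .bad1,
  .bad1, .bad1, .bad1, .bad1, .bad2, .bad1, .bad1, .bad1, .bad1, .bad1, .bad1, .bad1,
  .bad1, .bad1, .bad1, .bad1, .bad1, .bad1, .bad1, .bad1, .bad1, .bad1, .bad1, .bad1,
  .bad1,
  .good [true, true, true, true, false, true, false, false, true, false, true, true, false, true, false, true],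
  .bad1, .bad2, .bad2, .bad1, .bad2, .bad1, .bad1, .bad1, .bad1, .bad2, .bad1, .bad2,
  .bad1, .bad1, .bad1, .bad1, .bad2, .bad1, .bad1, .bad1, .bad1, .bad1, .bad1, .bad1,
  .bad1, .bad1, .bad1, .bad1, .bad1, .bad2, .bad1,
  .good [false, false, true, true, true, false, true, false, false, false, false, true, false, true, false, true, true, true],
  .bad1, .bad1, .bad1,
  .good [false, false, true, true, false, true, false, false, false, true, false, true, true, false, false, false, true, false],
  .bad1, .bad1, .bad2, .bad1, .bad1, .bad1, .bad1, .bad1, .bad1, .bad2, .bad1, .bad1,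
  .bad1, .bad2, .bad1,
  .good [false, false, true, true, true, true, false, false, true, true, true, false, false, true, false, false],
  .bad1, .bad1, .bad1, .bad1, .bad1, .bad2, .bad1, .bad1, .bad1, .bad1, .bad1, .bad1,
  .bad1, .bad1, .bad1, .bad2, .bad1, .bad1, .bad1, .bad1, .bad1, .bad2,
  .good [true, false, true, true, false, false, false, true, true, true, false, false, false, true, true, true],
  .bad2, .bad1, .bad1, .bad1, .bad1, .bad1, .bad2, .bad1, .bad1, .bad1, .bad2, .bad1,
  .bad2, .bad1, .bad1, .bad1, .bad1, .bad1, .bad2, .bad1, .bad1, .bad1, .bad1, .bad1,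
  .bad2, .bad1, .bad1, .bad1, .bad2, .bad1, .bad1, .bad2, .bad2, .bad1,
  .good [true, false, false, false, true, false, false, false, true, false, true, false],
  .bad1, .bad1, .bad1, .bad1, .bad1, .bad1, .bad2, .bad2, .bad1, .bad1, .bad1, .bad1,
  .bad1, .bad1, .bad1, .bad2,
  .good [false, false, true, true, true, false, false, true, false, true, false, true, false, true, false, false, false, true],
  .bad1, .bad1, .bad2, .bad1, .bad1, .bad1, .bad2, .bad1, .bad1, .bad1, .bad1, .bad1,
  .bad1, .bad1, .bad1, .bad1, .bad1, .bad1, .bad1, .bad1, .bad2, .bad1, .bad1, .bad1,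
  .bad2, .bad1, .bad1, .bad1, .bad1, .bad1, .bad1, .bad1, .bad1, .bad2, .bad2, .bad1,
  .bad1, .bad1, .bad1, .bad1, .bad1, .bad1, .bad1, .bad1, .bad1, .bad1, .bad1, .bad1,
  .bad1, .bad1, .bad1, .bad1, .bad1, .bad1, .bad1, .bad1, .bad1, .bad1, .bad1, .bad1,
  .bad1,
  .good [false, true, true, true, false, false, true, false, true, false, false, false, false, false],
  .bad1]

theorem outChk1 : (evalC (wordAt WE 1) == tcI) = true := by decide +kernel
theorem outChk2 : ordOK (wordAt WE 1) 2 = true := by decide +kernel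
theorem outChk3 : (evalC wuO == ucO) = true := by decide +kernel
theorem outChk4 : (mulC ucO ucO == u2cO) = true := by decide +kernel
theorem outChk5 : ordOK wuO 3 = true := by decide +kernel
theorem outChk6 : eqW (wnO ++ wuO) ((wuO ++ wuO) ++ wnO) = true := by decide +kernel
theorem outChk7 : (powB (mulC tcI ucO) [true, true, true] == oneC) = true := by decide +kernel
theorem outChk8 : (powB (mulC tcI (mulC ucO (mulC tcI u2cO))) [true, true, false, false, true]
    == oneC) = true := by decide +kernel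
theorem outChk9 : chkCands tcI ucO u2cO (codesCT ctree) candO = true := by decide +kernel
theorem outChk10 : (prodC (vXO.map fun b => bif b then ucO else tcI) == evalC [false]) = true := by
  decide +kernel
theorem outChk11 : (prodC (vYO.map fun b => bif b then ucO else tcI) == evalC [true]) = true := by
  decide +kernel

theorem outChk12 : wordAt WE 1 = wtI := by decide +kernel

theorem outChk13 :
    120 ≤ Nat.card (Subgroup.centralizer ({wp (wordAt WE 1)} : Set ↥Cfsg.Spor.J1)) := by
  rw [outChk12]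
  exact centralizer_card_J1 J1_simple_card.2 wtI waI wbI tcI ctree ctChk5 ctChk1 ctChk2 ctChk3
    ctChk4 ctChk6 ctChk7 ctChk8 ctChk9 ctChk10 ctChk11 ctChk12

/-- Every automorphism of `J₁` is inner. -/
theorem J1_inn_eq_top : Cfsg.Inn ↥Cfsg.Spor.J1 = ⊤ :=
  inn_eq_top J1_simple_card.2 WE WC EC rfl sylChk conjChk tcI ctree outChk1 ctChk1 ctChk2 ctChk3
    ctChk4 outChk13 outChk2 wuO wnO ucO u2cO outChk3 outChk4 outChk5 outChk6 outChk7 outChk8
    candO outChk9 vXO vYO outChk10 outChk11

end Cfsg.Agent.H61.J1
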