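import Cfsg.Agent.H64.JzDefs
import Cfsg.Agent.S2950
import Cfsg.Agent.S2948
import Cfsg.Agent.S2943

/-!
# JZ-NORM (helper61, for helper64's S2951 / S2952 project), clash-free form

Each clause of S2951 gives `Z₀ = Ω₁Z(J(T)) ≤ Z(T)`; `Z₀ ∩ W_K ≠ 1` (S2946, taken as the hypothesis
`h46 : St46`, because the original S2946 closure cannot be imported next to the S2942-S2950 chain), so
`Z(T) ∩ W_K ≠ 1` and `T` normalizes `K` by S2943 in `L ∈ ℒ(T)` (S2950, S2948).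
-/

set_option autoImplicit false
open Cfsg

namespace Cfsg.Agent.H61.Jz

open Cfsg.Agent.H64.Jz

universe u

/-- The statement S2946, verbatim, as a closed `Prop`. -/
def St46 : Prop := ∀ {G : Type u} [Group G] [Finite G] (_hL : Cfsg.IsCharacteristicTwoType G)
    (_hN : ∀ N : Subgroup G, Cfsg.IsTwoLocal N → Group.IsSolvable ↥N)
    (_hZ : ∀ S : Sylow 2 G, Subgroup.centralizer (Cfsg.omegaCenterOf (S : Subgroup G) : Set G) ≤
      Subgroup.normalizer ((S : Subgroup G) : Set G)) (T : Subgroup G) (_hT : IsPGroup 2 ↥T)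
    (_hT1 : T ≠ ⊥) (K : Subgroup G) (_hK : Cfsg.IsJComponent T K)
    (Z₀ : Subgroup G) (_hZ₀ : Z₀ = Cfsg.omegaCenterOf (Cfsg.thompsonSubgroupOf 2 T)),
    Nat.card ↥(Z₀ ⊓ Cfsg.wOf K) = 2 ∧
      (Z₀ ⊓ ((K ⊔ Cfsg.thompsonSubgroupOf 2 T) ⊓
        Subgroup.centralizer ((K ⊔ Cfsg.thompsonSubgroupOf 2 T) : Set G))) ⊔
        (Z₀ ⊓ Cfsg.wOf K) = Z₀

/-- `Ω₁(Z(X)) ≤ Z(X)`. -/
theorem norm_omegaCenterOf_le {G : Type u} [Group G] (X : Subgroup G) :
    omegaCenterOf X ≤ X ⊓ Subgroup.centralizer (X : Set G) := by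
  unfold omegaCenterOf omegaOne
  rw [Subgroup.closure_le]
  intro x hx
  exact hx.1

/-- `J(T) ≤ T`. -/
theorem norm_thompson_le {G : Type u} [Group G] (T : Subgroup G) :
    thompsonSubgroupOf 2 T ≤ T := by
  unfold thompsonSubgroupOf
  exact Subgroup.map_subtype_le _

/-- **JZ-NORM**, with S2946 as a hypothesis. -/
theorem norm_of (h46 : St46.{u}) : StNorm.{u} := by
  intro G _ _ S M T K L hB hC
  obtain ⟨hZN, hO, hM, hMJ, hT, hTS, hK, hLmax, hKJL⟩ := hB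
  obtain ⟨hchar, hsolv, hZ⟩ := hZN
  -- `T` is a Sylow 2-subgroup of `L` (S2950 + uniqueness)
  have hSyl : IsSylowTwoIn T L := by
    obtain ⟨L₀, -, -, huniq, -, hsyl⟩ :=
      Cfsg.Agent.S2950.result hchar hsolv hZ hO S M hM hMJ T hT K hK
    have hLL₀ : L = L₀ := huniq L hLmax hKJL
    rw [hLL₀]
    exact hsyl
  have hT2 : IsPGroup 2 ↥T := hT.1.1
  have hT1 : T ≠ ⊥ := hT.1.2.1
  have hKJ : IsJComponent T K := hK.1.1
  have hKL : K ≤ L := le_sup_left.trans hKJL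
  have hLM : ¬ L ≤ M := fun h => hK.2.1 (hKL.trans h)
  have hJT : thompsonSubgroupOf 2 T ≤ T := norm_thompson_le T
  have h48 := Cfsg.Agent.S2948.result hchar hsolv hZ hO S M hM hMJ T hT L hLmax.1 hLM T hSyl hJT
  have hov : L ∈ jOvergroups T := h48.2.2.1
  have h46' := h46 hchar hsolv hZ T hT2 hT1 K hKJ
    (omegaCenterOf (thompsonSubgroupOf 2 T)) rfl
  have hne : omegaCenterOf (thompsonSubgroupOf 2 T) ⊓ wOf K ≠ ⊥ := by
    intro h0
    have h1 := h46'.1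
    rw [h0] at h1
    simp at h1
  have hZ0T : omegaCenterOf (thompsonSubgroupOf 2 T) ≤ T :=
    ((norm_omegaCenterOf_le (thompsonSubgroupOf 2 T)).trans inf_le_left).trans hJT
  have hZS : omegaCenterOf (S : Subgroup G) ≤ Subgroup.centralizer (T : Set G) := by
    intro z hz
    have hz' := norm_omegaCenterOf_le (S : Subgroup G) hz
    exact Subgroup.centralizer_le (by exact_mod_cast hTS) hz'.2
  have hZ0 : omegaCenterOf (thompsonSubgroupOf 2 T) ≤ T ⊓ Subgroup.centralizer (T : Set G) := by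
    rcases hC with ⟨h1, -⟩ | ⟨h1, -, -⟩ | ⟨h1, -, -⟩
    · exact le_inf hZ0T (h1 ▸ hZS)
    · exact le_inf hZ0T (h1 ▸ hZS)
    · rw [← h1]
      exact norm_omegaCenterOf_le T
  apply Cfsg.Agent.S2943.result hchar hsolv hZ T hT2 hT1 L hov K hKJ hKL
  intro h0
  apply hne
  rw [eq_bot_iff, ← h0]
  exact le_inf (inf_le_left.trans hZ0) inf_le_right

example (h46 : St46.{u}) : StNorm.{u} := norm_of h46

end Cfsg.Agent.H61.Jz

#print axioms Cfsg.Agent.H61.Jz.norm_of
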