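import Mathlib

/-!
# Piece `S0420-FIB` of helper93's M11 project (helper61)

At most five involutions `g` commuting with `h` have `(g x)³ = 1`.
-/

set_option autoImplicit false

namespace Cfsg.Agent.H61.M11

open Subgroup

/-- The word lemma (`S0420-WORD`), proved inline. -/
theorem no_both_lifts' {G : Type*} [Group G] (g h x : G) (hg : g * g = 1) (hh : h * h = 1)
    (hgh : h * g = g * h) (hx3 : x ^ 3 = 1) (hx1 : x ≠ 1) (hhx : h * x * h⁻¹ = x⁻¹)
    (h1 : (g * x) ^ 3 = 1) (h2 : (h * g * x) ^ 3 = 1) : False := by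
  have hx' : h * x = x⁻¹ * h := by
    rw [← hhx]; group
  have hxi' : h * x⁻¹ = x * h := by
    have h3 : h * x⁻¹ * h⁻¹ = x := by
      have h4 : h * x⁻¹ * h⁻¹ = (h * x * h⁻¹)⁻¹ := by group
      rw [h4, hhx, inv_inv]
    calc h * x⁻¹ = (h * x⁻¹ * h⁻¹) * h := by group
      _ = x * h := by rw [h3]
  have a1 : ∀ y, h * (g * y) = g * (h * y) := fun y => by rw [← mul_assoc, hgh, mul_assoc]
  have a3 : ∀ y, h * (x⁻¹ * y) = x * (h * y) := fun y => by rw [← mul_assoc, hxi', mul_assoc]
  have e : (h * g * x) ^ 3 = g * (x⁻¹ * (g * (x * (g * (x⁻¹ * h))))) := by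
    simp only [pow_succ, pow_zero, one_mul, mul_assoc, a1, a3, hgh, hx', hh]
  rw [h2] at e
  -- `x g x g x = g`
  have h3 : x * (g * (x * (g * x))) = g := by
    have h4 : g * (x * (g * (x * (g * x)))) = 1 := by
      rw [← h1]; simp only [pow_succ, pow_zero, one_mul, mul_assoc]
    have h5 : g * (x * (g * (x * (g * x)))) = g * g := by rw [h4, hg]
    exact mul_left_cancel h5
  have hxi : x⁻¹ = x * x := by
    apply inv_eq_of_mul_eq_one_left
    rw [← hx3]; simp only [pow_succ, pow_zero, one_mul, mul_assoc]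
  have e2 : g * (x⁻¹ * (g * (x * (g * (x⁻¹ * (g * x)))))) = 1 := by
    rw [hxi]
    calc g * (x * x * (g * (x * (g * (x * x * (g * x))))))
        = g * (x * (x * (g * (x * (g * x)))) * (x * (g * x))) := by simp only [mul_assoc]
      _ = g * (x * g * (x * (g * x))) := by rw [h3]
      _ = 1 := by rw [← h1]; simp only [pow_succ, pow_zero, one_mul, mul_assoc]
  have e3 : h = g * x := by
    have h5 : g * (x⁻¹ * (g * (x * (g * (x⁻¹ * h))))) =
        g * (x⁻¹ * (g * (x * (g * (x⁻¹ * (g * x)))))) := by rw [← e, e2]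
    have h6 := mul_left_cancel (mul_left_cancel (mul_left_cancel (mul_left_cancel
      (mul_left_cancel (mul_left_cancel h5)))))
    exact h6
  have e4 : g * x = 1 := by
    have h5 : (g * x) * (g * x) = 1 := by rw [← e3]; exact hh
    have h6 : (g * x) ^ 3 = (g * x) * (g * x) * (g * x) := by
      simp only [pow_succ, pow_zero, one_mul]
    rw [h6, h5, one_mul] at h1
    exact h1
  have e5 : x = g := by
    have h5 : g * x = g * g := by rw [e4, hg]
    exact mul_left_cancel h5
  apply hx1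
  have h6 : x ^ 3 = x * x * x := by simp only [pow_succ, pow_zero, one_mul]
  rw [h6] at hx3
  rw [e5, hg, one_mul] at hx3
  rw [e5]; exact hx3

theorem card_fiber_le_five {G : Type*} [Group G] [Finite G] (P : Sylow 3 G)
    (hP9 : Nat.card (P : Subgroup G) = 9)
    (hC : Nat.card (centralizer ((P : Subgroup G) : Set G)) = 9)
    (t : G) (ht : orderOf t = 2) (htP : ∀ p ∈ (P : Subgroup G), t * p * t⁻¹ = p⁻¹)
    (x h : G) (hx : orderOf x = 3) (hxP : x ∈ (P : Subgroup G)) (hh : orderOf h = 2)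
    (hhx : h * x * h⁻¹ = x⁻¹) (hnorm : h ∈ normalizer ((P : Subgroup G) : Set G))
    (hnot : ¬ ∀ p ∈ (P : Subgroup G), h * p * h⁻¹ = p⁻¹)
    (hcomm12 : Nat.card {g : G // orderOf g = 2 ∧ g ≠ h ∧ g * h = h * g} = 12) :
    Nat.card {g : G // orderOf g = 2 ∧ orderOf (g * x) = 3 ∧ g * h = h * g} ≤ 5 := by
  classical
  have := Fintype.ofFinite G
  have gg : ∀ g : G, orderOf g = 2 → g * g = 1 := by
    intro g hg
    have h1 := pow_orderOf_eq_one g
    rwa [hg, pow_two] at h1
  have o2 : ∀ g : G, g * g = 1 → g ≠ 1 → orderOf g = 2 := fun g h1 h2 =>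
    orderOf_eq_prime (by rw [pow_two]; exact h1) h2
  have no3 : ∀ g : G, g * g = 1 → orderOf g ≠ 3 := by
    intro g h1 h3
    have h2 : orderOf g ∣ 2 := orderOf_dvd_of_pow_eq_one (by rw [pow_two]; exact h1)
    rw [h3] at h2
    exact absurd h2 (by decide)
  have tt : t * t = 1 := gg t ht
  have hh1 : h * h = 1 := gg h hh
  have hinv : h⁻¹ = h := inv_eq_of_mul_eq_one_left hh1
  have hh_a : ∀ y, h * (h * y) = y := fun y => by rw [← mul_assoc, hh1, one_mul]
  have tt_a : ∀ y, t * (t * y) = y := fun y => by rw [← mul_assoc, tt, one_mul]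
  have h_ne : h ≠ 1 := by
    intro h1; rw [h1] at hh; simp at hh
  have x3 : x ^ 3 = 1 := by
    have h1 := pow_orderOf_eq_one x
    rwa [hx] at h1
  have x_ne : x ≠ 1 := by
    intro h1; rw [h1] at hx; simp at hx
  -- `P` is abelian and self-centralising
  have Pcomm : ∀ p ∈ (P : Subgroup G), ∀ q ∈ (P : Subgroup G), p * q = q * p := by
    intro p hp q hq
    have h0 : IsMulCommutative (P : Subgroup G) :=
      IsPGroup.isMulCommutative_of_card_eq_prime_sq (p := 3) (by rw [hP9]; norm_num)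
    have h1 : (⟨p, hp⟩ : (P : Subgroup G)) * ⟨q, hq⟩ = ⟨q, hq⟩ * ⟨p, hp⟩ := h0.is_comm.comm _ _
    exact congrArg Subtype.val h1
  have hPC : (P : Subgroup G) = centralizer ((P : Subgroup G) : Set G) := by
    apply Subgroup.eq_of_le_of_card_ge
    · intro p hp
      rw [Subgroup.mem_centralizer_iff]
      intro q hq
      exact Pcomm q hq p hp
    · rw [hP9, hC]
  have P9 : ∀ p ∈ (P : Subgroup G), p ^ 9 = 1 := by
    intro p hp
    have h1 : (⟨p, hp⟩ : (P : Subgroup G)) ^ Nat.card (P : Subgroup G) = 1 := pow_card_eq_one'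
    rw [hP9] at h1
    exact congrArg Subtype.val h1
  have ht1 : ∀ p ∈ (P : Subgroup G), t * p = p⁻¹ * t := by
    intro p hp
    have h1 := htP p hp
    calc t * p = (t * p * t⁻¹) * t := by group
      _ = p⁻¹ * t := by rw [h1]
  have hN : ∀ p ∈ (P : Subgroup G), h * p * h ∈ (P : Subgroup G) := by
    intro p hp
    have h1 := (Subgroup.mem_normalizer_iff.1 hnorm p).1 hp
    rwa [hinv] at h1
  -- the commutator `c = [h, t]`
  obtain ⟨c, hc⟩ : ∃ c : G, c = h * t * h * t := ⟨_, rfl⟩
  have hcP : c ∈ (P : Subgroup G) := by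
    rw [hPC, Subgroup.mem_centralizer_iff]
    intro p hp
    have hq : h * p⁻¹ * h ∈ (P : Subgroup G) := hN _ (inv_mem hp)
    have e1 : h * p⁻¹ = (h * p⁻¹ * h) * h := by rw [mul_assoc (h * p⁻¹), hh1, mul_one]
    have e2 : h * (h * p⁻¹ * h)⁻¹ = p * h := by
      have h1 : (h * p⁻¹ * h)⁻¹ = h * p * h := by
        rw [mul_inv_rev, mul_inv_rev, inv_inv, hinv, mul_assoc]
      rw [h1, ← mul_assoc, ← mul_assoc, hh1, one_mul]
    symm
    calc c * p = h * t * h * (t * p) := by rw [hc]; simp only [mul_assoc]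
      _ = h * t * h * (p⁻¹ * t) := by rw [ht1 p hp]
      _ = h * t * (h * p⁻¹) * t := by simp only [mul_assoc]
      _ = h * t * ((h * p⁻¹ * h) * h) * t := by rw [← e1]
      _ = h * (t * (h * p⁻¹ * h)) * h * t := by simp only [mul_assoc]
      _ = h * ((h * p⁻¹ * h)⁻¹ * t) * h * t := by rw [ht1 _ hq]
      _ = (h * (h * p⁻¹ * h)⁻¹) * t * h * t := by simp only [mul_assoc]
      _ = p * h * t * h * t := by rw [e2]
      _ = p * c := by rw [hc]; simp only [mul_assoc]
  have c9 : c ^ 9 = 1 := P9 c hcP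
  have hch : h * c * h = c⁻¹ := by
    apply eq_inv_of_mul_eq_one_right
    rw [hc]
    simp only [mul_assoc, hh_a, tt_a, hh1]
  -- the involution `t'` inverting `P` and commuting with `h`
  obtain ⟨t', ht'⟩ : ∃ t' : G, t' = c ^ 5 * t := ⟨_, rfl⟩
  have hc5 : c ^ 5 ∈ (P : Subgroup G) := pow_mem hcP 5
  have t'P : ∀ p ∈ (P : Subgroup G), t' * p = p⁻¹ * t' := by
    intro p hp
    rw [ht', mul_assoc, ht1 p hp, ← mul_assoc, Pcomm _ hc5 _ (inv_mem hp), mul_assoc]
  have t't' : t' * t' = 1 := by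
    rw [ht']
    calc c ^ 5 * t * (c ^ 5 * t) = c ^ 5 * (t * c ^ 5) * t := by simp only [mul_assoc]
      _ = c ^ 5 * ((c ^ 5)⁻¹ * t) * t := by rw [ht1 _ hc5]
      _ = 1 := by rw [← mul_assoc, mul_inv_cancel, one_mul, tt]
  have t'inv : t'⁻¹ = t' := inv_eq_of_mul_eq_one_left t't'
  have t'h : t' * h = h * t' := by
    have e1 : h * c ^ 5 * h = (c ^ 5)⁻¹ := by
      have h1 : (h * c * h⁻¹) ^ 5 = h * c ^ 5 * h⁻¹ := conj_pow
      rw [hinv] at h1
      rw [← h1, hch, inv_pow]
    have e2 : h * t * h = c * t := by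
      rw [hc]; simp only [mul_assoc]; rw [tt, mul_one]
    have e4 : (c ^ 5)⁻¹ * c = c ^ 5 := by
      apply inv_mul_eq_of_eq_mul
      rw [← pow_add]
      have h1 : c ^ (5 + 5) = c ^ 9 * c := by rw [← pow_succ]
      rw [h1, c9, one_mul]
    have e3 : h * t' * h = t' := by
      calc h * t' * h = (h * c ^ 5 * h) * (h * t * h) := by
            rw [ht']; simp only [mul_assoc, hh_a]
        _ = (c ^ 5)⁻¹ * (c * t) := by rw [e1, e2]
        _ = c ^ 5 * t := by rw [← mul_assoc, e4]
        _ = t' := ht'.symm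
    calc t' * h = h * (h * t' * h) := by simp only [mul_assoc, hh_a]
      _ = h * t' := by rw [e3]
  have t'_ne_h : t' ≠ h := by
    intro heq
    apply hnot
    intro p hp
    rw [← heq, t'inv, t'P p hp, mul_assoc, t't', mul_one]
  have t'_ne : t' ≠ 1 := by
    intro h1
    have h2 := t'P x hxP
    rw [h1, one_mul, mul_one] at h2
    have h3 : x * x = 1 := by
      calc x * x = x * x⁻¹ := by rw [← h2]
        _ = 1 := mul_inv_cancel x
    have h4 : x ^ 3 = x * x * x := by simp only [pow_succ, pow_zero, one_mul]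
    rw [h4, h3, one_mul] at x3
    exact x_ne x3
  -- counting
  have hJ : (Finset.univ.filter
      (fun g : G => orderOf g = 2 ∧ g ≠ h ∧ g * h = h * g)).card = 12 := by
    rw [← hcomm12, Nat.card_eq_fintype_card, Fintype.card_subtype]
  rw [Nat.card_eq_fintype_card, Fintype.card_subtype]
  obtain ⟨Jf, hJf⟩ : ∃ Jf : Finset G, Jf = Finset.univ.filter
      (fun g : G => orderOf g = 2 ∧ g ≠ h ∧ g * h = h * g) := ⟨_, rfl⟩
  obtain ⟨Rf, hRf⟩ : ∃ Rf : Finset G, Rf = Finset.univ.filter
      (fun g : G => orderOf g = 2 ∧ orderOf (g * x) = 3 ∧ g * h = h * g) := ⟨_, rfl⟩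
  rw [← hJf] at hJ
  rw [← hRf]
  have memJ : ∀ g, g ∈ Jf ↔ orderOf g = 2 ∧ g ≠ h ∧ g * h = h * g := by
    intro g; rw [hJf]; simp
  have memR : ∀ g, g ∈ Rf ↔ orderOf g = 2 ∧ orderOf (g * x) = 3 ∧ g * h = h * g := by
    intro g; rw [hRf]; simp
  have hxhx : (h * x) * (h * x) = 1 := by
    calc (h * x) * (h * x) = (h * x * h⁻¹) * x := by rw [hinv]; simp only [mul_assoc]
      _ = 1 := by rw [hhx, inv_mul_cancel]
  have RJ : Rf ⊆ Jf := by
    intro g hg
    obtain ⟨h1, h2, h3⟩ := (memR g).1 hg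
    refine (memJ g).2 ⟨h1, ?_, h3⟩
    intro heq
    rw [heq] at h2
    exact no3 _ hxhx h2
  have Jclosed : ∀ g ∈ Jf, h * g ∈ Jf := by
    intro g hg
    obtain ⟨h1, h2, h3⟩ := (memJ g).1 hg
    have g2 := gg g h1
    refine (memJ _).2 ⟨o2 _ ?_ ?_, ?_, ?_⟩
    · calc h * g * (h * g) = h * (g * h) * g := by simp only [mul_assoc]
        _ = h * (h * g) * g := by rw [h3]
        _ = 1 := by rw [hh_a, g2]
    · intro h4
      apply h2
      have h5 : h * g = h * h := by rw [h4, hh1]
      exact mul_left_cancel h5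
    · intro h4
      have h5 : h * g = h * 1 := by rw [h4, mul_one]
      have h6 := mul_left_cancel h5
      rw [h6] at h1
      simp at h1
    · rw [mul_assoc, h3]
  have hdisj : Disjoint Rf (Rf.image (fun g => h * g)) := by
    rw [Finset.disjoint_left]
    intro g hg hg'
    obtain ⟨g', hg'R, hg'eq⟩ := Finset.mem_image.1 hg'
    have h5 : g' = h * g := by rw [← hg'eq, hh_a]
    rw [h5] at hg'R
    obtain ⟨h1, h2, h3⟩ := (memR g).1 hg
    obtain ⟨-, h2', -⟩ := (memR _).1 hg'R
    have e1 : (g * x) ^ 3 = 1 := by rw [← h2]; exact pow_orderOf_eq_one _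
    have e2 : (h * g * x) ^ 3 = 1 := by rw [← h2']; exact pow_orderOf_eq_one _
    exact no_both_lifts' g h x (gg g h1) hh1 h3.symm x3 x_ne hhx e1 e2
  have t'J : t' ∈ Jf := (memJ t').2 ⟨o2 _ t't' t'_ne, t'_ne_h, t'h⟩
  have ht'J : h * t' ∈ Jf := Jclosed _ t'J
  have t'R : t' ∉ Rf := by
    intro hmem
    obtain ⟨-, h2, -⟩ := (memR _).1 hmem
    refine no3 _ ?_ h2
    calc t' * x * (t' * x) = (t' * x) * t' * x := by simp only [mul_assoc]
      _ = x⁻¹ * (t' * t') * x := by rw [t'P x hxP]; simp only [mul_assoc]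
      _ = 1 := by rw [t't', mul_one, inv_mul_cancel]
  have ht'R : h * t' ∉ Rf := by
    intro hmem
    obtain ⟨-, h2, -⟩ := (memR _).1 hmem
    have e1 : (h * t' * x) ^ 3 = 1 := by rw [← h2]; exact pow_orderOf_eq_one _
    have uu : (h * t') * (h * t') = 1 := by
      calc h * t' * (h * t') = h * (t' * h) * t' := by simp only [mul_assoc]
        _ = h * (h * t') * t' := by rw [t'h]
        _ = 1 := by rw [hh_a, t't']
    have hxu : (h * t') * x * (h * t') ∈ (P : Subgroup G) := by
      have h3 : (h * t') * x * (h * t') = h * x⁻¹ * h := by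
        calc (h * t') * x * (h * t') = h * (t' * x) * (h * t') := by simp only [mul_assoc]
          _ = h * (x⁻¹ * t') * (t' * h) := by rw [t'P x hxP, t'h]
          _ = h * x⁻¹ * (t' * t') * h := by simp only [mul_assoc]
          _ = h * x⁻¹ * h := by rw [t't', mul_one]
      rw [h3]
      exact hN _ (inv_mem hxP)
    have e2 : ((h * t') * x * (h * t')) * x * ((h * t') * x * (h * t')) * (h * t') = 1 := by
      have h3 : (h * t' * x) ^ 3 = (h * t') * x * ((h * t') * x * ((h * t') * x)) := by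
        simp only [pow_succ, pow_zero, one_mul, mul_assoc]
      rw [h3] at e1
      calc ((h * t') * x * (h * t')) * x * ((h * t') * x * (h * t')) * (h * t')
          = (h * t') * x * ((h * t') * x * ((h * t') * x * ((h * t') * (h * t')))) := by
            simp only [mul_assoc]
        _ = (h * t') * x * ((h * t') * x * ((h * t') * x)) := by rw [uu, mul_one]
        _ = 1 := e1
    have huP : h * t' ∈ (P : Subgroup G) := by
      have h3 : h * t' = (((h * t') * x * (h * t')) * x * ((h * t') * x * (h * t')))⁻¹ :=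
        eq_inv_of_mul_eq_one_right e2
      rw [h3]
      exact inv_mem (mul_mem (mul_mem hxu hxP) hxu)
    have h9 := P9 _ huP
    have h10 : (h * t') ^ 9 = h * t' := by
      have h11 : (h * t') ^ 9 = ((h * t') * (h * t')) ^ 4 * (h * t') := by
        rw [← pow_two, ← pow_mul, ← pow_succ]
      rw [h11, uu, one_pow, one_mul]
    rw [h10] at h9
    apply t'_ne_h
    have h12 : h * t' = h * h := by rw [h9, hh1]
    exact mul_left_cancel h12
  have t'R' : t' ∉ Rf.image (fun g => h * g) := by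
    intro hmem
    obtain ⟨g', hg'R, hg'eq⟩ := Finset.mem_image.1 hmem
    have h5 : g' = h * t' := by rw [← hg'eq, hh_a]
    rw [h5] at hg'R
    exact ht'R hg'R
  have ht'R' : h * t' ∉ Rf.image (fun g => h * g) := by
    intro hmem
    obtain ⟨g', hg'R, hg'eq⟩ := Finset.mem_image.1 hmem
    have h5 : g' = t' := mul_left_cancel hg'eq
    rw [h5] at hg'R
    exact t'R hg'R
  have hcardT : ({t', h * t'} : Finset G).card = 2 := by
    apply Finset.card_pair
    intro h1
    apply h_ne
    have h2 : h * t' = 1 * t' := by rw [one_mul]; exact h1.symm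
    exact mul_right_cancel h2
  have hcard' : (Rf.image (fun g => h * g)).card = Rf.card :=
    Finset.card_image_of_injective _ (mul_right_injective h)
  have hdisj2 : Disjoint (Rf ∪ Rf.image (fun g => h * g)) ({t', h * t'} : Finset G) := by
    rw [Finset.disjoint_right]
    intro g hg hg'
    simp only [Finset.mem_insert, Finset.mem_singleton] at hg
    rw [Finset.mem_union] at hg'
    rcases hg with rfl | rfl
    · rcases hg' with h1 | h1
      · exact t'R h1
      · exact t'R' h1
    · rcases hg' with h1 | h1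
      · exact ht'R h1
      · exact ht'R' h1
  have hsub : (Rf ∪ Rf.image (fun g => h * g)) ∪ ({t', h * t'} : Finset G) ⊆ Jf := by
    intro g hg
    rw [Finset.mem_union, Finset.mem_union] at hg
    rcases hg with (h1 | h1) | h1
    · exact RJ h1
    · obtain ⟨g', hg'R, rfl⟩ := Finset.mem_image.1 h1
      exact Jclosed _ (RJ hg'R)
    · simp only [Finset.mem_insert, Finset.mem_singleton] at h1
      rcases h1 with rfl | rfl
      · exact t'J
      · exact ht'J
  have hle := Finset.card_le_card hsub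
  rw [Finset.card_union_of_disjoint hdisj2, Finset.card_union_of_disjoint hdisj, hcard', hcardT,
    hJ] at hle
  omega

end Cfsg.Agent.H61.M11
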