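import Mathlib
import Cfsg.Prelude.Def_Sporadic_a

/-!
# A sharply 4-transitive group of degree 11 preserves a Steiner system `S(4,5,11)` (helper61)

Piece `S0420-STEINER` of helper93's project.  The blocks are the 5-sets on which `H` induces
every transposition.
-/

set_option autoImplicit false

namespace Cfsg.Agent.H61.M11

open Subgroup
open scoped Pointwise

/-- The embedding `Fin 4 ↪ Fin 11` with four given distinct values. -/
def emb4 (w x y z : Fin 11) (hwx : w ≠ x) (hwy : w ≠ y) (hwz : w ≠ z) (hxy : x ≠ y) (hxz : x ≠ z)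
    (hyz : y ≠ z) : Fin 4 ↪ Fin 11 :=
  ⟨![w, x, y, z], by
    intro i j hij
    fin_cases i <;> fin_cases j <;> simp_all⟩

theorem emb4_0 (w x y z : Fin 11) (hwx : w ≠ x) (hwy : w ≠ y) (hwz : w ≠ z) (hxy : x ≠ y)
    (hxz : x ≠ z) (hyz : y ≠ z) : emb4 w x y z hwx hwy hwz hxy hxz hyz 0 = w := rfl

theorem emb4_1 (w x y z : Fin 11) (hwx : w ≠ x) (hwy : w ≠ y) (hwz : w ≠ z) (hxy : x ≠ y)
    (hxz : x ≠ z) (hyz : y ≠ z) : emb4 w x y z hwx hwy hwz hxy hxz hyz 1 = x := rfl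

theorem emb4_2 (w x y z : Fin 11) (hwx : w ≠ x) (hwy : w ≠ y) (hwz : w ≠ z) (hxy : x ≠ y)
    (hxz : x ≠ z) (hyz : y ≠ z) : emb4 w x y z hwx hwy hwz hxy hxz hyz 2 = y := rfl

theorem emb4_3 (w x y z : Fin 11) (hwx : w ≠ x) (hwy : w ≠ y) (hwz : w ≠ z) (hxy : x ≠ y)
    (hxz : x ≠ z) (hyz : y ≠ z) : emb4 w x y z hwx hwy hwz hxy hxz hyz 3 = z := rfl

theorem eq_one_of_fix4 (H : Subgroup (Equiv.Perm (Fin 11)))
    (hsharp : ∀ x : Fin 4 ↪ Fin 11, MulAction.stabilizer H x = ⊥)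
    (g : Equiv.Perm (Fin 11)) (hg : g ∈ H) (w x y z : Fin 11)
    (hwx : w ≠ x) (hwy : w ≠ y) (hwz : w ≠ z) (hxy : x ≠ y) (hxz : x ≠ z) (hyz : y ≠ z)
    (hw : g w = w) (hx : g x = x) (hy : g y = y) (hz : g z = z) : g = 1 := by
  have h1 : (⟨g, hg⟩ : H) ∈ MulAction.stabilizer H (emb4 w x y z hwx hwy hwz hxy hxz hyz) := by
    rw [MulAction.mem_stabilizer_iff]
    apply DFunLike.ext
    intro i
    show g (emb4 w x y z hwx hwy hwz hxy hxz hyz i) = emb4 w x y z hwx hwy hwz hxy hxz hyz i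
    fin_cases i
    · exact hw
    · exact hx
    · exact hy
    · exact hz
  rw [hsharp] at h1
  have h2 := Subgroup.mem_bot.mp h1
  exact congrArg Subtype.val h2

theorem exists_map4 (H : Subgroup (Equiv.Perm (Fin 11)))
    [MulAction.IsMultiplyPretransitive H (Fin 11) 4] (w x y z w' x' y' z' : Fin 11)
    (hwx : w ≠ x) (hwy : w ≠ y) (hwz : w ≠ z) (hxy : x ≠ y) (hxz : x ≠ z) (hyz : y ≠ z)
    (hwx' : w' ≠ x') (hwy' : w' ≠ y') (hwz' : w' ≠ z') (hxy' : x' ≠ y') (hxz' : x' ≠ z')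
    (hyz' : y' ≠ z') :
    ∃ g ∈ H, g w = w' ∧ g x = x' ∧ g y = y' ∧ g z = z' := by
  obtain ⟨g, hg⟩ := MulAction.exists_smul_eq H (emb4 w x y z hwx hwy hwz hxy hxz hyz)
    (emb4 w' x' y' z' hwx' hwy' hwz' hxy' hxz' hyz')
  have h0 : ∀ i, (g : Equiv.Perm (Fin 11)) (emb4 w x y z hwx hwy hwz hxy hxz hyz i) =
      emb4 w' x' y' z' hwx' hwy' hwz' hxy' hxz' hyz' i := by
    intro i
    have h := congrArg (fun e : Fin 4 ↪ Fin 11 => e i) hg
    exact h
  exact ⟨g.1, g.2, h0 0, h0 1, h0 2, h0 3⟩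

/-- `H` induces the transposition `(a b)` on `s`. -/
def Rel (H : Subgroup (Equiv.Perm (Fin 11))) (s : Finset (Fin 11)) (a b : Fin 11) : Prop :=
  ∃ τ ∈ H, τ a = b ∧ τ b = a ∧ ∀ c ∈ s, c ≠ a → c ≠ b → τ c = c

theorem Rel.symm {H : Subgroup (Equiv.Perm (Fin 11))} {s : Finset (Fin 11)} {a b : Fin 11}
    (h : Rel H s a b) : Rel H s b a := by
  obtain ⟨τ, hτ, h1, h2, h3⟩ := h
  exact ⟨τ, hτ, h2, h1, fun c hc hcb hca => h3 c hc hca hcb⟩

theorem key (H : Subgroup (Equiv.Perm (Fin 11)))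
    (hfix : ∀ g ∈ H, ∀ w x y z : Fin 11, w ≠ x → w ≠ y → w ≠ z → x ≠ y → x ≠ z → y ≠ z →
      g w = w → g x = x → g y = y → g z = z → g = 1)
    (a b c d e : Fin 11) (hab : a ≠ b) (hac : a ≠ c) (had : a ≠ d) (hbc : b ≠ c)
    (hbd : b ≠ d) (hcd : c ≠ d) (hce : c ≠ e) (hde : d ≠ e)
    (τ₁ τ₂ : Equiv.Perm (Fin 11)) (h₁ : τ₁ ∈ H) (h₂ : τ₂ ∈ H)
    (h1a : τ₁ a = b) (h1b : τ₁ b = a) (h1c : τ₁ c = c) (h1d : τ₁ d = d) (h1e : τ₁ e = e)
    (h2a : τ₂ a = c) (h2c : τ₂ c = a) (h2b : τ₂ b = b) (h2d : τ₂ d = d) : τ₂ e = e := by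
  have hτ₁ : τ₁ * τ₁ = 1 := hfix _ (H.mul_mem h₁ h₁) a b c d hab hac had hbc hbd hcd
    (by simp [h1a, h1b]) (by simp [h1a, h1b]) (by simp [h1c]) (by simp [h1d])
  have hτ₁' : ∀ y, τ₁ (τ₁ y) = y := fun y => by
    have h := congrArg (fun f : Equiv.Perm (Fin 11) => f y) hτ₁
    simpa using h
  have hρH : τ₁ * τ₂ ∈ H := H.mul_mem h₁ h₂
  have ρa : (τ₁ * τ₂) a = c := by simp [h2a, h1c]
  have ρc : (τ₁ * τ₂) c = b := by simp [h2c, h1a]
  have ρb : (τ₁ * τ₂) b = a := by simp [h2b, h1b]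
  have ρd : (τ₁ * τ₂) d = d := by simp [h2d, h1d]
  obtain ⟨ρ, hρ⟩ : ∃ ρ : Equiv.Perm (Fin 11), ρ = τ₁ * τ₂ := ⟨_, rfl⟩
  rw [← hρ] at hρH ρa ρc ρb ρd
  have hρ3 : ρ ^ 3 = 1 := hfix _ (H.pow_mem hρH 3) a b c d hab hac had hbc hbd hcd
    (by simp [pow_succ, ρa, ρc, ρb]) (by simp [pow_succ, ρa, ρc, ρb])
    (by simp [pow_succ, ρa, ρc, ρb]) (by simp [pow_succ, ρd])
  have hρ1 : ρ ≠ 1 := by
    intro h
    rw [h] at ρa
    exact hac ρa
  have : Fact (Nat.Prime 3) := ⟨Nat.prime_three⟩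
  have hmod : ρ.supportᶜ.card ≡ Fintype.card (Fin 11) [MOD 3] :=
    Equiv.Perm.card_compl_support_modEq (p := 3) (n := 1) (by simpa using hρ3)
  have hF : ∀ x, x ∈ ρ.supportᶜ ↔ ρ x = x := by intro x; simp
  have hcard : ρ.supportᶜ.card % 3 = 2 := by
    have h := hmod
    unfold Nat.ModEq at h
    rw [h]; simp
  obtain ⟨r, hr, hrd⟩ := Finset.exists_mem_ne (by omega : 1 < ρ.supportᶜ.card) d
  have ρr : ρ r = r := (hF r).1 hr
  have ρr' : τ₁ (τ₂ r) = r := by rw [hρ] at ρr; exact ρr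
  have h21 : τ₂ r = τ₁ r := by
    have h := congrArg τ₁ ρr'
    rw [hτ₁'] at h; exact h
  by_cases hr1 : τ₁ r = r
  · -- `r = e`
    have hrc : r ≠ c := by
      intro h; rw [h, ρc] at ρr; exact hbc ρr
    have hre : r = e := by
      by_contra hne
      have h1 := hfix τ₁ h₁ c d e r hcd hce (Ne.symm hrc) hde (Ne.symm hrd) (Ne.symm hne)
        h1c h1d h1e hr1
      rw [h1] at h1a
      exact hab h1a
    rw [← hre, h21, hr1]
  · exfalso
    have hr'd : τ₁ r ≠ d := by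
      intro h
      have h2 : τ₁ r = τ₁ d := by rw [h, h1d]
      exact hrd (τ₁.injective h2)
    have hρr' : ρ (τ₁ r) = τ₁ r := by
      rw [hρ]
      show τ₁ (τ₂ (τ₁ r)) = τ₁ r
      have h3 : τ₂ (τ₁ r) = r := by
        rw [← h21]
        have hτ₂ : τ₂ * τ₂ = 1 := hfix _ (H.mul_mem h₂ h₂) a b c d hab hac had hbc hbd hcd
          (by simp [h2a, h2c]) (by simp [h2b]) (by simp [h2a, h2c]) (by simp [h2d])
        have h := congrArg (fun f : Equiv.Perm (Fin 11) => f r) hτ₂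
        simpa using h
      rw [h3]
    have hsub : ({d, r, τ₁ r} : Finset (Fin 11)) ⊆ ρ.supportᶜ := by
      intro x hx
      simp only [Finset.mem_insert, Finset.mem_singleton] at hx
      rcases hx with rfl | rfl | rfl
      · exact (hF _).2 ρd
      · exact hr
      · exact (hF _).2 hρr'
    have hc3 : ({d, r, τ₁ r} : Finset (Fin 11)).card = 3 := by
      rw [Finset.card_insert_of_notMem, Finset.card_insert_of_notMem, Finset.card_singleton]
      · simp only [Finset.mem_singleton]; exact fun h => hr1 h.symm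
      · simp only [Finset.mem_insert, Finset.mem_singleton, not_or]
        exact ⟨Ne.symm hrd, Ne.symm hr'd⟩
    have hle := Finset.card_le_card hsub
    obtain ⟨x, hx, hxn⟩ := Finset.exists_mem_notMem_of_card_lt_card
      (by omega : ({d, r, τ₁ r} : Finset (Fin 11)).card < ρ.supportᶜ.card)
    simp only [Finset.mem_insert, Finset.mem_singleton, not_or] at hxn
    exact hρ1 (hfix ρ hρH d r (τ₁ r) x (Ne.symm hrd) (Ne.symm hr'd) (Ne.symm hxn.1)
      (fun h => hr1 h.symm) (Ne.symm hxn.2.1) (Ne.symm hxn.2.2) ρd ρr hρr' ((hF x).1 hx))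

theorem swap_step (H : Subgroup (Equiv.Perm (Fin 11)))
    [MulAction.IsMultiplyPretransitive H (Fin 11) 4]
    (hsharp : ∀ x : Fin 4 ↪ Fin 11, MulAction.stabilizer H x = ⊥)
    (s : Finset (Fin 11)) (hs : s.card = 5) (a b c : Fin 11) (ha : a ∈ s) (hb : b ∈ s)
    (hc : c ∈ s) (hab : a ≠ b) (hac : a ≠ c) (hbc : b ≠ c) (hR : Rel H s a b) :
    Rel H s a c := by
  have hfix := fun g hg w x y z h1 h2 h3 h4 h5 h6 =>
    eq_one_of_fix4 H hsharp g hg w x y z h1 h2 h3 h4 h5 h6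
  have hcard : (((s.erase a).erase b).erase c).card = 2 := by
    rw [Finset.card_erase_of_mem, Finset.card_erase_of_mem, Finset.card_erase_of_mem ha, hs]
    · exact Finset.mem_erase.2 ⟨Ne.symm hab, hb⟩
    · exact Finset.mem_erase.2 ⟨Ne.symm hbc, Finset.mem_erase.2 ⟨Ne.symm hac, hc⟩⟩
  obtain ⟨d, e, hde, hset⟩ := Finset.card_eq_two.1 hcard
  have hmem : ∀ x, x ∈ s → x = a ∨ x = b ∨ x = c ∨ x = d ∨ x = e := by
    intro x hx
    by_cases hxa : x = a
    · exact Or.inl hxa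
    by_cases hxb : x = b
    · exact Or.inr (Or.inl hxb)
    by_cases hxc : x = c
    · exact Or.inr (Or.inr (Or.inl hxc))
    have h1 : x ∈ ((s.erase a).erase b).erase c :=
      Finset.mem_erase.2 ⟨hxc, Finset.mem_erase.2 ⟨hxb, Finset.mem_erase.2 ⟨hxa, hx⟩⟩⟩
    rw [hset] at h1
    simp only [Finset.mem_insert, Finset.mem_singleton] at h1
    tauto
  have hd : d ∈ ((s.erase a).erase b).erase c := by rw [hset]; simp
  have he : e ∈ ((s.erase a).erase b).erase c := by rw [hset]; simp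
  simp only [Finset.mem_erase] at hd he
  obtain ⟨hdc, hdb, hda, hds⟩ := hd
  obtain ⟨hec, heb, hea, hes⟩ := he
  obtain ⟨τ₁, h₁, h1a, h1b, h1fix⟩ := hR
  have h1c := h1fix c hc (Ne.symm hac) (Ne.symm hbc)
  have h1d := h1fix d hds hda hdb
  have h1e := h1fix e hes hea heb
  obtain ⟨τ₂, h₂, h2a, h2c, h2b, h2d⟩ := exists_map4 H a c b d c a b d hac hab (Ne.symm hda)
    (Ne.symm hbc) (Ne.symm hdc) (Ne.symm hdb) (Ne.symm hac) (Ne.symm hbc) (Ne.symm hdc) hab
    (Ne.symm hda) (Ne.symm hdb)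
  have h2e : τ₂ e = e := key H hfix a b c d e hab hac (Ne.symm hda) hbc (Ne.symm hdb)
    (Ne.symm hdc) (Ne.symm hec) hde τ₁ τ₂ h₁ h₂ h1a h1b h1c h1d h1e h2a h2c h2b h2d
  refine ⟨τ₂, h₂, h2a, h2c, ?_⟩
  intro x hx hxa hxc
  rcases hmem x hx with rfl | rfl | rfl | rfl | rfl
  · exact absurd rfl hxa
  · exact h2b
  · exact absurd rfl hxc
  · exact h2d
  · exact h2e

theorem all_pairs (H : Subgroup (Equiv.Perm (Fin 11)))
    [MulAction.IsMultiplyPretransitive H (Fin 11) 4]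
    (hsharp : ∀ x : Fin 4 ↪ Fin 11, MulAction.stabilizer H x = ⊥)
    (s : Finset (Fin 11)) (hs : s.card = 5) (a b : Fin 11) (ha : a ∈ s) (hb : b ∈ s)
    (hab : a ≠ b) (hR : Rel H s a b) :
    ∀ x ∈ s, ∀ y ∈ s, x ≠ y → Rel H s x y := by
  have step := swap_step H hsharp s hs
  have h1 : ∀ y ∈ s, y ≠ a → Rel H s a y := by
    intro y hy hya
    by_cases hyb : y = b
    · rw [hyb]; exact hR
    · exact step a b y ha hb hy hab (Ne.symm hya) (Ne.symm hyb) hR
  intro x hx y hy hxy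
  by_cases hxa : x = a
  · rw [hxa]; exact h1 y hy (by rw [← hxa]; exact Ne.symm hxy)
  · have h2 : Rel H s x a := (h1 x hx hxa).symm
    by_cases hya : y = a
    · rw [hya]; exact h2
    · exact step x a y hx ha hy hxa hxy (Ne.symm hya) h2

theorem sharply4_steiner (H : Subgroup (Equiv.Perm (Fin 11)))
    [MulAction.IsMultiplyPretransitive H (Fin 11) 4]
    (hsharp : ∀ x : Fin 4 ↪ Fin 11, MulAction.stabilizer H x = ⊥) :
    ∃ B : Set (Finset (Fin 11)), Cfsg.IsSteinerSystem 4 5 B ∧ H ≤ Cfsg.setSystemAut B := by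
  have hfix := fun g hg w x y z h1 h2 h3 h4 h5 h6 =>
    eq_one_of_fix4 H hsharp g hg w x y z h1 h2 h3 h4 h5 h6
  obtain ⟨B, hB⟩ : ∃ B : Set (Finset (Fin 11)),
      B = {s | s.card = 5 ∧ ∀ a ∈ s, ∀ b ∈ s, a ≠ b → Rel H s a b} := ⟨_, rfl⟩
  have hBmem : ∀ s, s ∈ B ↔ s.card = 5 ∧ ∀ a ∈ s, ∀ b ∈ s, a ≠ b → Rel H s a b := by
    intro s; rw [hB]; rfl
  refine ⟨B, ⟨fun b hb => ((hBmem b).1 hb).1, ?_⟩, ?_⟩
  · intro s hs
    obtain ⟨a, t, hat, rfl, ht⟩ := Finset.card_eq_succ.1 hs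
    obtain ⟨b, c, d, hbc, hbd, hcd, rfl⟩ := Finset.card_eq_three.1 ht
    simp only [Finset.mem_insert, Finset.mem_singleton, not_or] at hat
    obtain ⟨hab, hac, had⟩ := hat
    obtain ⟨τ, hτ, τa, τb, τc, τd⟩ := exists_map4 H a b c d b a c d hab hac had hbc hbd hcd
      (Ne.symm hab) hbc hbd hac had hcd
    have hττ : τ * τ = 1 := hfix _ (H.mul_mem hτ hτ) a b c d hab hac had hbc hbd hcd
      (by simp [τa, τb]) (by simp [τa, τb]) (by simp [τc]) (by simp [τd])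
    have : Fact (Nat.Prime 2) := ⟨Nat.prime_two⟩
    have hmod : τ.supportᶜ.card ≡ Fintype.card (Fin 11) [MOD 2] :=
      Equiv.Perm.card_compl_support_modEq (p := 2) (n := 1) (by simpa [pow_two] using hττ)
    have hF : ∀ x, x ∈ τ.supportᶜ ↔ τ x = x := by intro x; simp
    have hcard : τ.supportᶜ.card % 2 = 1 := by
      have h := hmod
      unfold Nat.ModEq at h
      rw [h]; simp
    have hsub : ({c, d} : Finset (Fin 11)) ⊆ τ.supportᶜ := by
      intro x hx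
      simp only [Finset.mem_insert, Finset.mem_singleton] at hx
      rcases hx with rfl | rfl
      · exact (hF _).2 τc
      · exact (hF _).2 τd
    have hc2 : ({c, d} : Finset (Fin 11)).card = 2 := Finset.card_pair hcd
    have hle := Finset.card_le_card hsub
    obtain ⟨e, he, hen⟩ := Finset.exists_mem_notMem_of_card_lt_card
      (by omega : ({c, d} : Finset (Fin 11)).card < τ.supportᶜ.card)
    have τe : τ e = e := (hF e).1 he
    simp only [Finset.mem_insert, Finset.mem_singleton, not_or] at hen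
    obtain ⟨hec, hed⟩ := hen
    have hea : e ≠ a := by
      intro h; rw [h, τa] at τe; exact hab τe.symm
    have heb : e ≠ b := by
      intro h; rw [h, τb] at τe; exact hab τe
    have hes : e ∉ ({a, b, c, d} : Finset (Fin 11)) := by
      simp only [Finset.mem_insert, Finset.mem_singleton, not_or]
      exact ⟨hea, heb, hec, hed⟩
    have hs₀ : (insert e ({a, b, c, d} : Finset (Fin 11))).card = 5 := by
      rw [Finset.card_insert_of_notMem hes, hs]
    have hR : Rel H (insert e ({a, b, c, d} : Finset (Fin 11))) a b := by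
      refine ⟨τ, hτ, τa, τb, ?_⟩
      intro x hx hxa hxb
      simp only [Finset.mem_insert, Finset.mem_singleton] at hx
      rcases hx with rfl | rfl | rfl | rfl | rfl
      · exact τe
      · exact absurd rfl hxa
      · exact absurd rfl hxb
      · exact τc
      · exact τd
    have hB₀ : insert e ({a, b, c, d} : Finset (Fin 11)) ∈ B :=
      (hBmem _).2 ⟨hs₀, all_pairs H hsharp _ hs₀ a b (by simp) (by simp) hab hR⟩
    refine ⟨_, ⟨hB₀, Finset.subset_insert _ _⟩, ?_⟩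
    rintro s' ⟨hs'B, hsub'⟩
    obtain ⟨hs'5, hs'R⟩ := (hBmem s').1 hs'B
    have ha' : a ∈ s' := hsub' (by simp)
    have hb' : b ∈ s' := hsub' (by simp)
    have hc' : c ∈ s' := hsub' (by simp)
    have hd' : d ∈ s' := hsub' (by simp)
    obtain ⟨τ', hτ', τ'a, τ'b, τ'fix⟩ := hs'R a ha' b hb' hab
    have τ'c := τ'fix c hc' (Ne.symm hac) (Ne.symm hbc)
    have τ'd := τ'fix d hd' (Ne.symm had) (Ne.symm hbd)
    have hinv : ∀ x y, τ x = y → τ⁻¹ y = x := fun x y h => by rw [← h]; simp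
    have hττ' : τ' = τ := by
      have h := hfix (τ⁻¹ * τ') (H.mul_mem (H.inv_mem hτ) hτ') a b c d hab hac had hbc hbd hcd
        (by rw [Equiv.Perm.mul_apply, τ'a]; exact hinv _ _ τa)
        (by rw [Equiv.Perm.mul_apply, τ'b]; exact hinv _ _ τb)
        (by rw [Equiv.Perm.mul_apply, τ'c]; exact hinv _ _ τc)
        (by rw [Equiv.Perm.mul_apply, τ'd]; exact hinv _ _ τd)
      exact (inv_mul_eq_one.mp h).symm
    obtain ⟨x, hx, hxn⟩ := Finset.exists_mem_notMem_of_card_lt_card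
      (by rw [hs, hs'5]; norm_num : ({a, b, c, d} : Finset (Fin 11)).card < s'.card)
    simp only [Finset.mem_insert, Finset.mem_singleton, not_or] at hxn
    obtain ⟨hxa, hxb, hxc, hxd⟩ := hxn
    have τx : τ x = x := by rw [← hττ']; exact τ'fix x hx hxa hxb
    have hxe : x = e := by
      by_contra hne
      have h1 := hfix τ hτ c d e x hcd (Ne.symm hec) (Ne.symm hxc) (Ne.symm hed) (Ne.symm hxd)
        (Ne.symm hne) τc τd τe τx
      rw [h1] at τa
      exact hab τa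
    symm
    apply Finset.eq_of_subset_of_card_le
    · intro y hy
      rw [Finset.mem_insert] at hy
      rcases hy with rfl | hy
      · rw [← hxe]; exact hx
      · exact hsub' hy
    · rw [hs'5, hs₀]
  · intro h hh
    rw [MulAction.mem_stabilizer_iff]
    have claim : ∀ g ∈ H, ∀ s ∈ B, g • s ∈ B := by
      intro g hg s hs
      rw [hBmem] at hs ⊢
      refine ⟨by rw [Finset.card_smul_finset]; exact hs.1, ?_⟩
      intro a' ha' b' hb' hab'
      obtain ⟨a, ha, rfl⟩ := Finset.mem_smul_finset.1 ha'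
      obtain ⟨b, hb, rfl⟩ := Finset.mem_smul_finset.1 hb'
      have hab : a ≠ b := fun h => hab' (by rw [h])
      obtain ⟨τ, hτ, τa, τb, τfix⟩ := hs.2 a ha b hb hab
      refine ⟨g * τ * g⁻¹, H.mul_mem (H.mul_mem hg hτ) (H.inv_mem hg), ?_, ?_, ?_⟩
      · simp [Equiv.Perm.smul_def, τa]
      · simp [Equiv.Perm.smul_def, τb]
      · intro x hx hxa hxb
        obtain ⟨y, hy, rfl⟩ := Finset.mem_smul_finset.1 hx
        have hya : y ≠ a := fun h => hxa (by rw [h])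
        have hyb : y ≠ b := fun h => hxb (by rw [h])
        simp [Equiv.Perm.smul_def, τfix y hy hya hyb]
    ext s
    rw [Set.mem_smul_set_iff_inv_smul_mem]
    constructor
    · intro hs
      have h1 := claim h hh _ hs
      rwa [smul_inv_smul] at h1
    · intro hs
      exact claim h⁻¹ (H.inv_mem hh) s hs

end Cfsg.Agent.H61.M11
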