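import Mathlib
import Cfsg.Agent.H64.MgDefs

/-!
# S3620 (Marggraf), piece MG-CLS (helper61): divisibility from a largest proper `JC` subset
-/

set_option autoImplicit false
open scoped Pointwise
open MulAction

namespace Cfsg.Agent.H61.Mg

open Cfsg.Agent.H64.Mg

universe u v

theorem cls : CLSStmt.{u, v} := by
  intro M α _ _ _ _ Δ W hΔ hW hWΔ hmax hcard
  classical
  have hWsub : W ⊆ Δ := hWΔ.subset
  obtain ⟨PP, hmemPP⟩ : ∃ PP : Finset (Finset α),
      ∀ T, T ∈ PP ↔ ∃ g : M, (∀ z ∈ W, g • z = z) ∧ g • Δ = T :=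
    ⟨Finset.univ.filter (fun T => ∃ g : M, (∀ z ∈ W, g • z = z) ∧ g • Δ = T), by
      intro T; simp⟩
  have hWsubg : ∀ g : M, (∀ z ∈ W, g • z = z) → W ⊆ g • Δ := by
    intro g hg z hz
    rw [Finset.mem_smul_finset]
    exact ⟨z, hWsub hz, hg z hz⟩
  have hcardg : ∀ (g : M) (S : Finset α), (g • S).card = S.card :=
    fun g S => Finset.card_smul_finset g S
  -- key dichotomy
  have key : ∀ T₁ ∈ PP, ∀ T₂ ∈ PP, T₁ ≠ T₂ → T₁ ∩ T₂ = W := by
    intro T₁ h₁ T₂ h₂ hne
    obtain ⟨g₁, hg₁, rfl⟩ := (hmemPP _).mp h₁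
    obtain ⟨g₂, hg₂, rfl⟩ := (hmemPP _).mp h₂
    have hWX : W ⊆ g₁ • Δ ∩ g₂ • Δ := Finset.subset_inter (hWsubg g₁ hg₁) (hWsubg g₂ hg₂)
    have hz : ∃ z, z ∉ g₁ • Δ ∧ z ∉ g₂ • Δ := by
      by_contra hcon
      push Not at hcon
      have hun : (Finset.univ : Finset α) ⊆ g₁ • Δ ∪ g₂ • Δ := by
        intro z _
        rw [Finset.mem_union]
        by_cases h : z ∈ g₁ • Δ
        · exact Or.inl h
        · exact Or.inr (hcon z h)
      have h1 := Finset.card_le_card hun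
      have h2 := Finset.card_union_add_card_inter (g₁ • Δ) (g₂ • Δ)
      have h3 := Finset.card_le_card hWX
      rw [Finset.card_univ] at h1
      rw [hcardg, hcardg] at h2
      omega
    have hJC : JC M (g₁ • Δ ∩ g₂ • Δ) := JC.inter (hΔ.smul g₁) (hΔ.smul g₂) hz
    have hXne : g₁ • Δ ∩ g₂ • Δ ≠ g₁ • Δ := by
      intro heq
      apply hne
      have hsub : g₁ • Δ ⊆ g₂ • Δ := by rw [← heq]; exact Finset.inter_subset_right
      exact Finset.eq_of_subset_of_card_le hsub (by rw [hcardg, hcardg])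
    have hXlt : (g₁ • Δ ∩ g₂ • Δ).card < Δ.card := by
      have h1 : g₁ • Δ ∩ g₂ • Δ ⊂ g₁ • Δ :=
        Finset.ssubset_iff_subset_ne.mpr ⟨Finset.inter_subset_left, hXne⟩
      have h2 := Finset.card_lt_card h1
      rw [hcardg] at h2
      exact h2
    have hpull : g₁⁻¹ • (g₁ • Δ ∩ g₂ • Δ) ⊂ Δ := by
      rw [Finset.ssubset_iff_subset_ne]
      constructor
      · intro z hz
        rw [Finset.mem_smul_finset] at hz
        obtain ⟨w, hw, rfl⟩ := hz
        have hw1 := (Finset.mem_inter.mp hw).1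
        rw [Finset.mem_smul_finset] at hw1
        obtain ⟨v, hv, rfl⟩ := hw1
        simpa using hv
      · intro heq
        have h3 := hcardg g₁⁻¹ (g₁ • Δ ∩ g₂ • Δ)
        rw [heq] at h3
        omega
    have hle := hmax _ hpull (hJC.smul g₁⁻¹)
    rw [hcardg] at hle
    exact (Finset.eq_of_subset_of_card_le hWX hle).symm
  have hcover : (Finset.univ : Finset α) \ W = PP.biUnion (fun T => T \ W) := by
    ext y
    simp only [Finset.mem_sdiff, Finset.mem_univ, true_and, Finset.mem_biUnion]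
    constructor
    · intro hy
      obtain ⟨x₀, hx₀Δ, hx₀W⟩ := Finset.exists_of_ssubset hWΔ
      obtain ⟨g, hg, hgx⟩ := hW x₀ hx₀W y hy
      refine ⟨g • Δ, (hmemPP _).mpr ⟨g, hg, rfl⟩, ?_, hy⟩
      rw [Finset.mem_smul_finset]; exact ⟨x₀, hx₀Δ, hgx⟩
    · rintro ⟨T, -, -, hy⟩; exact hy
  have hdisj : ∀ T₁ ∈ PP, ∀ T₂ ∈ PP, T₁ ≠ T₂ → Disjoint (T₁ \ W) (T₂ \ W) := by
    intro T₁ h₁ T₂ h₂ hne
    rw [Finset.disjoint_left]
    intro y hy₁ hy₂
    rw [Finset.mem_sdiff] at hy₁ hy₂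
    have h3 : y ∈ T₁ ∩ T₂ := Finset.mem_inter.mpr ⟨hy₁.1, hy₂.1⟩
    rw [key T₁ h₁ T₂ h₂ hne] at h3
    exact hy₁.2 h3
  have hcount : ((Finset.univ : Finset α) \ W).card = PP.card * (Δ.card - W.card) := by
    rw [hcover, Finset.card_biUnion hdisj]
    apply Finset.sum_const_nat
    intro T hT
    obtain ⟨g, hg, rfl⟩ := (hmemPP _).mp hT
    rw [Finset.card_sdiff_of_subset (hWsubg g hg), hcardg]
  have h1 : ((Finset.univ : Finset α) \ W).card = Fintype.card α - W.card := by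
    rw [Finset.card_sdiff_of_subset (Finset.subset_univ W), Finset.card_univ]
  have hwd : W.card < Δ.card := Finset.card_lt_card hWΔ
  have hdn : Δ.card ≤ Fintype.card α := by
    rw [← Finset.card_univ]; exact Finset.card_le_card (Finset.subset_univ Δ)
  have hP : 1 ≤ PP.card := by
    apply Finset.card_pos.mpr
    exact ⟨Δ, (hmemPP _).mpr ⟨1, fun z _ => one_smul M z, one_smul M Δ⟩⟩
  have h3 : Fintype.card α - W.card = PP.card * (Δ.card - W.card) := by rw [← h1, hcount]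
  have h2 : Fintype.card α - Δ.card = (PP.card - 1) * (Δ.card - W.card) := by
    rw [Nat.sub_mul, one_mul, ← h3]; omega
  rw [h2]; exact Dvd.intro_left _ rfl

example : CLSStmt.{u, v} := cls

end Cfsg.Agent.H61.Mg

#print axioms Cfsg.Agent.H61.Mg.cls
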