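import Mathlib

set_option autoImplicit false

namespace Cfsg.Agent.H61

/-- If `T * H'` is closed under left multiplication by the generators `S`, then every element of
the subgroup generated by `S` lies in `T * H'`. -/
theorem closure_subset_mul {A : Type*} [Group A] [Finite A] (S : Set A) (T : Set A)
    (H' : Subgroup A) (h1 : (1 : A) ∈ T)
    (hstep : ∀ g ∈ S, ∀ t ∈ T, ∃ t' ∈ T, ∃ h ∈ H', g * t = t' * h) :
    ∀ x ∈ Subgroup.closure S, ∃ t ∈ T, ∃ h ∈ H', x = t * h := by
  have key : ∀ x ∈ Subgroup.closure S, ∀ t ∈ T, ∀ h ∈ H', ∃ t' ∈ T, ∃ h' ∈ H',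
      x * (t * h) = t' * h' := by
    intro x hx
    induction hx using Subgroup.closure_induction with
    | mem g hg =>
      intro t ht h hh
      obtain ⟨t', ht', h0, hh0, e⟩ := hstep g hg t ht
      exact ⟨t', ht', h0 * h, H'.mul_mem hh0 hh, by rw [← mul_assoc, e, mul_assoc]⟩
    | one =>
      intro t ht h hh
      exact ⟨t, ht, h, hh, one_mul _⟩
    | mul a b _ _ iha ihb =>
      intro t ht h hh
      obtain ⟨t1, ht1, h1', hh1, e1⟩ := ihb t ht h hh
      obtain ⟨t2, ht2, h2, hh2, e2⟩ := iha t1 ht1 h1' hh1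
      exact ⟨t2, ht2, h2, hh2, by rw [mul_assoc, e1, e2]⟩
    | inv a _ iha =>
      have hpow : ∀ k : ℕ, ∀ t ∈ T, ∀ h ∈ H', ∃ t' ∈ T, ∃ h' ∈ H',
          a ^ k * (t * h) = t' * h' := by
        intro k
        induction k with
        | zero =>
          intro t ht h hh
          exact ⟨t, ht, h, hh, by rw [pow_zero, one_mul]⟩
        | succ k ih =>
          intro t ht h hh
          obtain ⟨t1, ht1, h1', hh1, e1⟩ := iha t ht h hh
          obtain ⟨t2, ht2, h2, hh2, e2⟩ := ih t1 ht1 h1' hh1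
          exact ⟨t2, ht2, h2, hh2, by rw [pow_succ, mul_assoc, e1, e2]⟩
      have hinv : a⁻¹ = a ^ (orderOf a - 1) := by
        rw [inv_eq_iff_mul_eq_one, ← pow_succ']
        have : orderOf a - 1 + 1 = orderOf a := by
          have := orderOf_pos a
          omega
        rw [this, pow_orderOf_eq_one]
      rw [hinv]
      exact hpow _
  intro x hx
  obtain ⟨t, ht, h, hh, e⟩ := key x hx 1 h1 1 H'.one_mem
  exact ⟨t, ht, h, hh, by rw [← e, mul_one, mul_one]⟩

/-- One level of a Schreier–Sims stabilizer chain for a permutation group on `Fin n`: `S` generates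
the group, `S' ⊆ S` fixes the base point `β`, `T p` (for `p` in the orbit `O`) moves `β` to `p`, and
each product `g * T p` sifts to `T (g p)` times an element of `⟨S'⟩`. -/
theorem level_step {n : ℕ} (S S' : Set (Equiv.Perm (Fin n))) (β : Fin n)
    (T : Fin n → Equiv.Perm (Fin n)) (O : Set (Fin n))
    (hβO : β ∈ O) (hT1 : T β = 1) (hTmem : ∀ p ∈ O, T p ∈ Subgroup.closure S)
    (hTβ : ∀ p ∈ O, T p β = p)
    (hS'S : S' ⊆ S) (hS'β : ∀ g ∈ S', g β = β)
    (hsift : ∀ g ∈ S, ∀ p ∈ O, g p ∈ O ∧ ∃ h ∈ Subgroup.closure S', g * T p = T (g p) * h) :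
    (∀ x ∈ Subgroup.closure S, ∃ p ∈ O, ∃ h ∈ Subgroup.closure S', x = T p * h) ∧
    Subgroup.closure S ⊓ MulAction.stabilizer (Equiv.Perm (Fin n)) β = Subgroup.closure S' ∧
    Nat.card (Subgroup.closure S) = Nat.card O * Nat.card (Subgroup.closure S') := by
  have hfix : ∀ h ∈ Subgroup.closure S', h β = β := by
    intro h hh
    have : Subgroup.closure S' ≤ MulAction.stabilizer (Equiv.Perm (Fin n)) β := by
      rw [Subgroup.closure_le]
      intro g hg
      exact hS'β g hg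
    exact this hh
  have hfac : ∀ x ∈ Subgroup.closure S, ∃ p ∈ O, ∃ h ∈ Subgroup.closure S', x = T p * h := by
    intro x hx
    obtain ⟨t, ⟨p, hp, rfl⟩, h, hh, e⟩ := closure_subset_mul S (T '' O) (Subgroup.closure S')
      ⟨β, hβO, hT1⟩ (by
        rintro g hg _ ⟨p, hp, rfl⟩
        obtain ⟨hgp, h, hh, e⟩ := hsift g hg p hp
        exact ⟨T (g p), ⟨g p, hgp, rfl⟩, h, hh, e⟩) x hx
    exact ⟨p, hp, h, hh, e⟩
  refine ⟨hfac, ?_, ?_⟩
  · apply le_antisymm
    · rintro x ⟨hx, hxβ⟩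
      obtain ⟨p, hp, h, hh, rfl⟩ := hfac x hx
      have h2 : (T p * h) β = β := hxβ
      rw [Equiv.Perm.mul_apply, hfix h hh, hTβ p hp] at h2
      rw [h2, hT1, one_mul]
      exact hh
    · intro x hx
      exact ⟨Subgroup.closure_mono hS'S hx, hfix x hx⟩
  · let f : O × Subgroup.closure S' → Subgroup.closure S := fun ph =>
      ⟨T ph.1 * ph.2, Subgroup.mul_mem _ (hTmem ph.1 ph.1.2) (Subgroup.closure_mono hS'S ph.2.2)⟩
    have hf : Function.Bijective f := by
      constructor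
      · rintro ⟨⟨p, hp⟩, ⟨h, hh⟩⟩ ⟨⟨p', hp'⟩, ⟨h', hh'⟩⟩ e
        have e' : T p * h = T p' * h' := congrArg Subtype.val e
        have e2 : (T p * h) β = (T p' * h') β := by rw [e']
        rw [Equiv.Perm.mul_apply, Equiv.Perm.mul_apply, hfix h hh, hfix h' hh', hTβ p hp,
          hTβ p' hp'] at e2
        subst e2
        have e3 : h = h' := mul_left_cancel e'
        subst e3
        rfl
      · rintro ⟨x, hx⟩
        obtain ⟨p, hp, h, hh, rfl⟩ := hfac x hx
        exact ⟨⟨⟨p, hp⟩, ⟨h, hh⟩⟩, rfl⟩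
    rw [← Nat.card_congr (Equiv.ofBijective f hf), Nat.card_prod]

end Cfsg.Agent.H61
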