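import Mathlib
import Cfsg.Agent.H52.SnDefs

/-!
# S2942 team project (lead helper52): piece SN-FINB (helper61)

`[K, C] ≤ Q`: if `K ≤ Q` this is trivial; otherwise `KQ/Q` has order 3, some `a ∈ J` inverts it,
and `a` commutes with `C` modulo `Q` (since `[C, a] ≤ T ∩ C ≤ Q`).
-/

set_option autoImplicit false
open Cfsg

namespace Cfsg.Agent.H61.Sn

open Cfsg.Agent.H52.Sn
open scoped commutatorElement

universe u

/-- In a subgroup of order 3, every element is `1`, `κ` or `κ⁻¹` for any `κ ≠ 1` in it. -/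
theorem gen3 {Y : Type*} [Group Y] (B : Subgroup Y) (hB : Nat.card B = 3) {κ : Y} (hκ : κ ∈ B)
    (h1 : κ ≠ 1) : κ ^ 3 = 1 ∧ ∀ y ∈ B, y = 1 ∨ y = κ ∨ y = κ⁻¹ := by
  have : Fact (Nat.Prime 3) := ⟨Nat.prime_three⟩
  have h3 : κ ^ 3 = 1 := by
    have := pow_card_eq_one' (G := ↥B) (x := ⟨κ, hκ⟩)
    rw [hB] at this
    exact congrArg Subtype.val this
  refine ⟨h3, ?_⟩
  intro y hy
  have hne : (⟨κ, hκ⟩ : ↥B) ≠ 1 := fun h => h1 (congrArg Subtype.val h)
  have hmem : (⟨y, hy⟩ : ↥B) ∈ Subgroup.zpowers (⟨κ, hκ⟩ : ↥B) :=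
    mem_zpowers_of_prime_card hB hne
  obtain ⟨z, hz⟩ := Subgroup.mem_zpowers_iff.mp hmem
  have hz' : κ ^ z = y := by
    have := congrArg Subtype.val hz
    simpa using this
  have h3z : κ ^ (3 : ℤ) = 1 := by
    have : κ ^ ((3 : ℕ) : ℤ) = 1 := by rw [zpow_natCast, h3]
    simpa using this
  have hmod : κ ^ z = κ ^ (z % 3) := by
    conv_lhs => rw [← Int.mul_ediv_add_emod z 3, zpow_add, zpow_mul, h3z, one_zpow, one_mul]
  have hκ2 : κ ^ (2 : ℤ) = κ⁻¹ := by
    rw [zpow_two]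
    exact eq_inv_of_mul_eq_one_left (by rw [← h3, pow_succ, pow_two])
  have hcases : z % 3 = 0 ∨ z % 3 = 1 ∨ z % 3 = 2 := by omega
  rcases hcases with h | h | h
  · left; rw [← hz', hmod, h, zpow_zero]
  · right; left; rw [← hz', hmod, h, zpow_one]
  · right; right; rw [← hz', hmod, h, hκ2]

/-- the algebra in the quotient -/
theorem comm_of_inverted {Y : Type*} [Group Y] (κ α γ : Y) (hκ' : α * κ * α⁻¹ = κ⁻¹)
    (hκ3 : κ ^ 3 = 1) (h2 : α * γ = γ * α)
    (h1' : α * (κ * γ * κ⁻¹) = (κ * γ * κ⁻¹) * α) : κ * γ = γ * κ := by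
  have e1 : α * κ = κ⁻¹ * α := by
    have : α * κ = (α * κ * α⁻¹) * α := by group
    rw [this, hκ']
  have e2 : α * κ⁻¹ = κ * α := by
    have : α * κ⁻¹ = (α * κ * α⁻¹)⁻¹ * α := by group
    rw [this, hκ', inv_inv]
  have h3 : α * (κ * γ * κ⁻¹) = κ⁻¹ * γ * κ * α := by
    calc α * (κ * γ * κ⁻¹) = (α * κ) * γ * κ⁻¹ := by group
      _ = κ⁻¹ * (α * γ) * κ⁻¹ := by rw [e1]; group
      _ = κ⁻¹ * γ * (α * κ⁻¹) := by rw [h2]; group
      _ = κ⁻¹ * γ * κ * α := by rw [e2]; group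
  have h4 : κ⁻¹ * γ * κ = κ * γ * κ⁻¹ := mul_right_cancel (h3.symm.trans h1')
  have hκ2 : κ * κ = κ⁻¹ := by
    have : κ * κ * κ = 1 := by rw [← hκ3, pow_succ, pow_two]
    exact eq_inv_of_mul_eq_one_left this
  have h5 : γ * (κ * κ) = (κ * κ) * γ := by
    calc γ * (κ * κ) = κ * (κ⁻¹ * γ * κ) * κ := by group
      _ = κ * (κ * γ * κ⁻¹) * κ := by rw [h4]
      _ = (κ * κ) * γ := by group
  rw [hκ2] at h5
  calc κ * γ = κ * (γ * κ⁻¹) * κ := by group
    _ = κ * (κ⁻¹ * γ) * κ := by rw [h5]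
    _ = γ * κ := by group

/-- SN-FINB. -/
theorem finB : StFinB.{u} := by
  intro X _ _ T C Q J K O hCn hQn hTC hCT hJT hKJ hOK hOQ hrel
  have := hQn
  obtain ⟨π, hπ⟩ : ∃ π : X →* X ⧸ Q, π = QuotientGroup.mk' Q := ⟨_, rfl⟩
  have hπQ : ∀ g : X, π g = 1 ↔ g ∈ Q := fun g => by
    rw [hπ]; exact QuotientGroup.eq_one_iff g
  have hker : π.ker = Q := by rw [hπ, QuotientGroup.ker_mk']
  have hcard : Nat.card (K.map π) ∣ 3 := by
    rw [← Subgroup.relIndex_ker, hker, ← Subgroup.inf_relIndex_right, ← hrel]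
    exact Subgroup.relIndex_dvd_of_le_left K (le_inf hOQ hOK)
  rw [Subgroup.commutator_le]
  intro k' hk' c hc
  rw [← hπQ, map_commutatorElement]
  rcases (Nat.dvd_prime Nat.prime_three).mp hcard with h1 | h3
  · have hb : K.map π = ⊥ := Subgroup.card_eq_one.mp h1
    have hm : π k' ∈ K.map π := Subgroup.mem_map_of_mem π hk'
    rw [hb] at hm
    rw [Subgroup.mem_bot.mp hm, commutatorElement_one_left]
  · have hex : ∃ k ∈ K, ∃ a ∈ J, ⁅π k, π a⁆ ≠ 1 := by
      by_contra hcon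
      push Not at hcon
      have hle : ⁅K, J⁆ ≤ Q := by
        rw [Subgroup.commutator_le]
        intro k hk a ha
        rw [← hπQ, map_commutatorElement]
        exact hcon k hk a ha
      rw [hKJ] at hle
      have hb : K.map π = ⊥ := by
        rw [Subgroup.map_eq_bot_iff, hker]; exact hle
      rw [hb] at h3
      simp at h3
    obtain ⟨k, hk, a, ha, hka⟩ := hex
    have hκ1 : π k ≠ 1 := by
      intro h; rw [h, commutatorElement_one_left] at hka; exact hka rfl
    have hκB : π k ∈ K.map π := Subgroup.mem_map_of_mem π hk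
    obtain ⟨hκ3, hB⟩ := gen3 (K.map π) h3 hκB hκ1
    have hak : a * k * a⁻¹ ∈ K := by
      have h1 : ⁅k, a⁆ ∈ K := by
        have := Subgroup.commutator_mem_commutator hk ha
        rwa [hKJ] at this
      have h2 : k⁻¹ * ⁅k, a⁆ ∈ K := K.mul_mem (K.inv_mem hk) h1
      have h3' : (k⁻¹ * ⁅k, a⁆)⁻¹ ∈ K := K.inv_mem h2
      have : (k⁻¹ * ⁅k, a⁆)⁻¹ = a * k * a⁻¹ := by rw [commutatorElement_def]; group
      rwa [this] at h3'
    have hκ' : π a * π k * (π a)⁻¹ = (π k)⁻¹ := by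
      have hm : π a * π k * (π a)⁻¹ ∈ K.map π := by
        have := Subgroup.mem_map_of_mem π hak
        rwa [map_mul, map_mul, map_inv] at this
      rcases hB _ hm with h | h | h
      · exfalso; apply hκ1
        have : π k = (π a)⁻¹ * (π a * π k * (π a)⁻¹) * π a := by group
        rw [this, h]; group
      · exfalso; apply hka
        rw [commutatorElement_def]
        have : π k * π a * (π k)⁻¹ * (π a)⁻¹ = π k * (π a * π k * (π a)⁻¹)⁻¹ := by group
        rw [this, h]; group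
      · exact h
    have hαC : ∀ c ∈ C, π a * π c = π c * π a := by
      intro c hc
      have h1 : ⁅c, a⁆ ∈ Q := by
        apply hTC
        refine ⟨?_, ?_⟩
        · rw [commutatorElement_def]
          exact T.mul_mem ((Subgroup.mem_normalizer_iff.mp (hCT hc) a).mp (hJT ha))
            (T.inv_mem (hJT ha))
        · rw [commutatorElement_def]
          have : c * a * c⁻¹ * a⁻¹ = c * (a * c⁻¹ * a⁻¹) := by group
          rw [this]
          exact C.mul_mem hc (hCn.conj_mem c⁻¹ (C.inv_mem hc) a)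
      have h2 : ⁅π c, π a⁆ = 1 := by rw [← map_commutatorElement]; exact (hπQ _).mpr h1
      rw [commutatorElement_def] at h2
      have : π c * π a = (π c * π a * (π c)⁻¹ * (π a)⁻¹) * (π a * π c) := by group
      rw [this, h2, one_mul]
    have hκC : ∀ c ∈ C, π k * π c = π c * π k := by
      intro c hc
      have hc' : k * c * k⁻¹ ∈ C := hCn.conj_mem c hc k
      have h1 := hαC (k * c * k⁻¹) hc'
      rw [map_mul, map_mul, map_inv] at h1
      exact comm_of_inverted (π k) (π a) (π c) hκ' hκ3 (hαC c hc) h1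
    have hk'B : π k' ∈ K.map π := Subgroup.mem_map_of_mem π hk'
    have hcomm : π k' * π c = π c * π k' := by
      rcases hB _ hk'B with h | h | h
      · rw [h, one_mul, mul_one]
      · rw [h]; exact hκC c hc
      · rw [h]
        have := hκC c hc
        calc (π k)⁻¹ * π c = (π k)⁻¹ * (π c * π k) * (π k)⁻¹ := by group
          _ = (π k)⁻¹ * (π k * π c) * (π k)⁻¹ := by rw [this]
          _ = π c * (π k)⁻¹ := by group
    rw [commutatorElement_def]
    calc π k' * π c * (π k')⁻¹ * (π c)⁻¹ = (π k' * π c) * (π k')⁻¹ * (π c)⁻¹ := by group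
      _ = (π c * π k') * (π k')⁻¹ * (π c)⁻¹ := by rw [hcomm]
      _ = 1 := by group

example : Cfsg.Agent.H52.Sn.StFinB.{u} := Cfsg.Agent.H61.Sn.finB

end Cfsg.Agent.H61.Sn

#print axioms Cfsg.Agent.H61.Sn.finB
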