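import Mathlib
import Cfsg.Agent.H37.SpDefs
import Cfsg.Agent.H25.SoInj
import Cfsg.Agent.H61.SnFinB

/-!
# S2944 team project (lead helper37): piece SP-INJ2 (helper61)

A component is determined by its image modulo `C`, also for components with respect to different
Sylow subgroups, once the elements of odd order of `M` commute modulo `Q`.
-/

set_option autoImplicit false
open Cfsg

namespace Cfsg.Agent.H61.Sp

open Cfsg.Agent.H52.Sn Cfsg.Agent.H37.Sp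
open scoped commutatorElement Pointwise

universe u

/-- The image of `K` modulo `ker π ≥ O` has exponent dividing 3, and some element of `J`
inverts it. -/
theorem exists_inverting {X Y : Type u} [Group X] [Finite X] [Group Y] (π : X →* Y)
    (J K O : Subgroup X) (hKJ : ⁅K, J⁆ = K) (hOK : O ≤ K) (hOQ : O ≤ π.ker)
    (hrel : O.relIndex K = 3) :
    (∀ k ∈ K, π k ^ 3 = 1) ∧ ∃ a ∈ J, ∀ k ∈ K, π (a * k * a⁻¹) = (π k)⁻¹ := by
  have hcard : Nat.card (K.map π) ∣ 3 := by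
    rw [← Subgroup.relIndex_ker, ← Subgroup.inf_relIndex_right, ← hrel]
    exact Subgroup.relIndex_dvd_of_le_left K (le_inf hOQ hOK)
  rcases (Nat.dvd_prime Nat.prime_three).mp hcard with h1 | h3
  · have hb : K.map π = ⊥ := Subgroup.card_eq_one.mp h1
    have h1' : ∀ k ∈ K, π k = 1 := fun k hk => by
      have hm : π k ∈ K.map π := Subgroup.mem_map_of_mem π hk
      rw [hb] at hm; exact Subgroup.mem_bot.mp hm
    refine ⟨fun k hk => by rw [h1' k hk, one_pow], 1, J.one_mem, fun k hk => ?_⟩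
    rw [one_mul, inv_one, mul_one, h1' k hk, inv_one]
  · have hpow : ∀ k ∈ K, π k ^ 3 = 1 := fun k hk => by
      have := pow_card_eq_one' (G := ↥(K.map π)) (x := ⟨π k, Subgroup.mem_map_of_mem π hk⟩)
      rw [h3] at this
      exact congrArg Subtype.val this
    refine ⟨hpow, ?_⟩
    have hex : ∃ k ∈ K, ∃ a ∈ J, ⁅π k, π a⁆ ≠ 1 := by
      by_contra hcon
      push Not at hcon
      have hle : ⁅K, J⁆ ≤ π.ker := by
        rw [Subgroup.commutator_le]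
        intro k hk a ha
        rw [MonoidHom.mem_ker, map_commutatorElement]
        exact hcon k hk a ha
      rw [hKJ] at hle
      have hb : K.map π = ⊥ := by
        rw [Subgroup.map_eq_bot_iff]; exact hle
      rw [hb] at h3
      simp at h3
    obtain ⟨k, hk, a, ha, hka⟩ := hex
    have hκ1 : π k ≠ 1 := by
      intro h; rw [h, commutatorElement_one_left] at hka; exact hka rfl
    have hκB : π k ∈ K.map π := Subgroup.mem_map_of_mem π hk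
    obtain ⟨-, hB⟩ := Cfsg.Agent.H61.Sn.gen3 (K.map π) h3 hκB hκ1
    have hak : a * k * a⁻¹ ∈ K := by
      have h1 : ⁅k, a⁆ ∈ K := by
        have := Subgroup.commutator_mem_commutator hk ha
        rwa [hKJ] at this
      have h2 : k⁻¹ * ⁅k, a⁆ ∈ K := K.mul_mem (K.inv_mem hk) h1
      have h3' : (k⁻¹ * ⁅k, a⁆)⁻¹ ∈ K := K.inv_mem h2
      have : (k⁻¹ * ⁅k, a⁆)⁻¹ = a * k * a⁻¹ := by rw [commutatorElement_def]; group
      rwa [this] at h3'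
    have hκ' : π a * π k * (π a)⁻¹ = (π k)⁻¹ := by
      have hm : π a * π k * (π a)⁻¹ ∈ K.map π := by
        have := Subgroup.mem_map_of_mem π hak
        rwa [map_mul, map_mul, map_inv] at this
      rcases hB _ hm with h | h | h
      · exfalso; apply hκ1
        have : π k = (π a)⁻¹ * (π a * π k * (π a)⁻¹) * π a := by group
        rw [this, h]; group
      · exfalso; apply hka
        rw [commutatorElement_def]
        have : π k * π a * (π k)⁻¹ * (π a)⁻¹ = π k * (π a * π k * (π a)⁻¹)⁻¹ := by group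
        rw [this, h]; group
      · exact h
    refine ⟨a, ha, fun k' hk' => ?_⟩
    rw [map_mul, map_mul, map_inv]
    rcases hB _ (Subgroup.mem_map_of_mem π hk') with h | h | h
    · rw [h]; group
    · rw [h]; exact hκ'
    · rw [h, inv_inv]
      have : π a * (π k)⁻¹ * (π a)⁻¹ = (π a * π k * (π a)⁻¹)⁻¹ := by group
      rw [this, hκ', inv_inv]

/-- powers: if `g f g⁻¹ = f γ²` and `g` centralizes `γ` then `g^n f g^{-n} = f γ^{2n}`. -/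
theorem conj_pow_aux {Y : Type*} [Group Y] (g f γ : Y)
    (R1 : g * f * g⁻¹ = f * γ ^ 2) (hgγ : g * γ * g⁻¹ = γ) (n : ℕ) :
    g ^ n * f * (g ^ n)⁻¹ = f * γ ^ (2 * n) := by
  have hgγm : ∀ m : ℕ, g * γ ^ m * g⁻¹ = γ ^ m := by
    intro m
    have h : (g * γ * g⁻¹) ^ m = γ ^ m := by rw [hgγ]
    rw [conj_pow] at h
    exact h
  induction n with
  | zero => simp
  | succ n ih =>
    calc g ^ (n + 1) * f * (g ^ (n + 1))⁻¹
        = g * (g ^ n * f * (g ^ n)⁻¹) * g⁻¹ := by rw [pow_succ']; group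
      _ = g * (f * γ ^ (2 * n)) * g⁻¹ := by rw [ih]
      _ = (g * f * g⁻¹) * (g * γ ^ (2 * n) * g⁻¹) := by group
      _ = f * γ ^ 2 * γ ^ (2 * n) := by rw [R1, hgγm]
      _ = f * γ ^ (2 * (n + 1)) := by
          rw [mul_assoc f, ← pow_add]; congr 2; ring

/-- the conjugation formula `g^n f g^{-n} = f γ^{2n}` for `g = α₁ α₂`, `f = κ γ`. -/
theorem conj_pow_formula {Y : Type*} [Group Y] (α₁ α₂ κ γ : Y)
    (A1 : α₁ * (κ * γ) * α₁⁻¹ = (κ * γ)⁻¹) (A2 : α₁ * γ = γ * α₁)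
    (B1 : α₂ * κ * α₂⁻¹ = κ⁻¹) (B2 : α₂ * γ = γ * α₂) (Cm : κ * γ = γ * κ) (n : ℕ) :
    (α₁ * α₂) ^ n * (κ * γ) * ((α₁ * α₂) ^ n)⁻¹ = κ * γ * γ ^ (2 * n) := by
  have hγ1 : α₁ * γ * α₁⁻¹ = γ := by rw [A2]; group
  have hγ2 : α₂ * γ * α₂⁻¹ = γ := by rw [B2]; group
  have hgγ : (α₁ * α₂) * γ * (α₁ * α₂)⁻¹ = γ := by
    calc (α₁ * α₂) * γ * (α₁ * α₂)⁻¹ = α₁ * (α₂ * γ * α₂⁻¹) * α₁⁻¹ := by group
      _ = γ := by rw [hγ2, hγ1]
  have R1 : (α₁ * α₂) * (κ * γ) * (α₁ * α₂)⁻¹ = κ * γ * γ ^ 2 := by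
    calc (α₁ * α₂) * (κ * γ) * (α₁ * α₂)⁻¹
        = α₁ * ((α₂ * κ * α₂⁻¹) * (α₂ * γ * α₂⁻¹)) * α₁⁻¹ := by group
      _ = α₁ * (κ⁻¹ * γ) * α₁⁻¹ := by rw [B1, hγ2]
      _ = α₁ * ((κ * γ)⁻¹ * γ ^ 2) * α₁⁻¹ := by
          have : κ⁻¹ * γ = (κ * γ)⁻¹ * γ ^ 2 := by
            rw [Cm, mul_inv_rev, pow_two]; group
          rw [this]
      _ = (α₁ * (κ * γ) * α₁⁻¹)⁻¹ * (α₁ * γ * α₁⁻¹) ^ 2 := by rw [conj_pow]; group
      _ = κ * γ * γ ^ 2 := by rw [A1, hγ1, inv_inv]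
  exact conj_pow_aux (α₁ * α₂) (κ * γ) γ R1 hgγ n

/-- One inclusion of INJ2. -/
theorem inj2_le {X : Type u} [Group X] [Finite X]
    (C Q M T₁ J₁ K₁ O₁ T₂ J₂ K₂ O₂ : Subgroup X)
    (F₁ : Facts T₁ C Q M J₁ K₁ O₁) (F₂ : Facts T₂ C Q M J₂ K₂ O₂)
    (hO₁ : O₁ ≤ Q) (hO₂ : O₂ ≤ Q) (hKC₂ : ⁅K₂, C⁆ ≤ Q)
    (h7 : ∀ x ∈ M, ∀ y ∈ M, Odd (orderOf x) → Odd (orderOf y) → x * y * x⁻¹ * y⁻¹ ∈ Q)
    (hle : K₁ ≤ K₂ ⊔ C) : K₁ ≤ K₂ := by
  have hQn := F₁.hQ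
  have hCn := F₁.hC
  have hMn := F₁.hM
  obtain ⟨π, hπ⟩ : ∃ π : X →* X ⧸ Q, π = QuotientGroup.mk' Q := ⟨_, rfl⟩
  have hπQ : ∀ g : X, π g = 1 ↔ g ∈ Q := fun g => by
    rw [hπ]; exact QuotientGroup.eq_one_iff g
  have hker : π.ker = Q := by rw [hπ, QuotientGroup.ker_mk']
  have hKM : ∀ J K : Subgroup X, J ≤ M → ⁅K, J⁆ = K → K ≤ M := fun J K hJ hK => by
    rw [← hK]
    exact (Subgroup.commutator_mono le_top hJ).trans (Subgroup.commutator_le_right ⊤ M)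
  have hK₁M := hKM J₁ K₁ F₁.hJM F₁.hKJ
  obtain ⟨-, a₁, ha₁, hinv₁⟩ :=
    exists_inverting π J₁ K₁ O₁ F₁.hKJ F₁.hOK (hker.symm ▸ hO₁) F₁.hO3
  obtain ⟨hp₂, a₂, ha₂, hinv₂⟩ :=
    exists_inverting π J₂ K₂ O₂ F₂.hKJ F₂.hOK (hker.symm ▸ hO₂) F₂.hO3
  -- `J` centralizes `C` modulo `Q`
  have hCJ : ∀ T J : Subgroup X, C ≤ Subgroup.normalizer (T : Set X) → J ≤ T → T ⊓ C ≤ Q →
      ∀ a ∈ J, ∀ c ∈ C, π a * π c = π c * π a := by
    intro T J hCT hJT hTC a ha c hc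
    have h1 : ⁅c, a⁆ ∈ Q := by
      apply hTC
      refine ⟨?_, ?_⟩
      · rw [commutatorElement_def]
        exact T.mul_mem ((Subgroup.mem_normalizer_iff.mp (hCT hc) a).mp (hJT ha))
          (T.inv_mem (hJT ha))
      · rw [commutatorElement_def]
        have : c * a * c⁻¹ * a⁻¹ = c * (a * c⁻¹ * a⁻¹) := by group
        rw [this]
        exact C.mul_mem hc (hCn.conj_mem c⁻¹ (C.inv_mem hc) a)
    have h2 : ⁅π c, π a⁆ = 1 := by rw [← map_commutatorElement]; exact (hπQ _).mpr h1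
    exact (commutatorElement_eq_one_iff_mul_comm.mp h2).symm
  have hK₂C : ∀ k ∈ K₂, ∀ c ∈ C, π k * π c = π c * π k := by
    intro k hk c hc
    have h1 : ⁅k, c⁆ ∈ Q := hKC₂ (Subgroup.commutator_mem_commutator hk hc)
    have h2 : ⁅π k, π c⁆ = 1 := by rw [← map_commutatorElement]; exact (hπQ _).mpr h1
    exact commutatorElement_eq_one_iff_mul_comm.mp h2
  rw [← F₁.hKgen, Subgroup.closure_le]
  rintro d ⟨hd, hodd⟩
  apply Cfsg.Agent.H25.So.odd_mem_of_mem_sup K₂ Q F₂.hQ2 F₂.hQK d _ hodd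
  have hdm : d ∈ (K₂ : Set X) * (C : Set X) := by
    rw [← Subgroup.mul_normal K₂ C]; exact hle hd
  obtain ⟨k₂, hk₂, c, hc, hdkc⟩ := Set.mem_mul.mp hdm
  have hk₂ : k₂ ∈ K₂ := hk₂
  have hc : c ∈ C := hc
  suffices hγ : π c = 1 by
    rw [← hdkc]
    exact Subgroup.mul_mem_sup hk₂ ((hπQ c).mp hγ)
  -- the relations
  have hf : π d = π k₂ * π c := by rw [← hdkc, map_mul]
  have A1 : π a₁ * (π k₂ * π c) * (π a₁)⁻¹ = (π k₂ * π c)⁻¹ := by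
    have := hinv₁ d hd
    rwa [map_mul, map_mul, map_inv, hf] at this
  have A2 : π a₁ * π c = π c * π a₁ := hCJ T₁ J₁ F₁.hCT F₁.hJT F₁.hTC a₁ ha₁ c hc
  have B1 : π a₂ * π k₂ * (π a₂)⁻¹ = (π k₂)⁻¹ := by
    have := hinv₂ k₂ hk₂
    rwa [map_mul, map_mul, map_inv] at this
  have B2 : π a₂ * π c = π c * π a₂ := hCJ T₂ J₂ F₂.hCT F₂.hJT F₂.hTC a₂ ha₂ c hc
  have Cm : π k₂ * π c = π c * π k₂ := hK₂C k₂ hk₂ c hc
  -- a power of `a₁ a₂` of odd order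
  have hgM : a₁ * a₂ ∈ M := M.mul_mem (F₁.hJM ha₁) (F₂.hJM ha₂)
  obtain ⟨s, m, hm, hsm⟩ := Nat.exists_eq_two_pow_mul_odd (orderOf_pos (a₁ * a₂)).ne'
  have hoddg : Odd (orderOf ((a₁ * a₂) ^ (2 ^ s))) := by
    rw [orderOf_pow_of_dvd (pow_ne_zero s two_ne_zero) (hsm ▸ dvd_mul_right _ _), hsm,
      Nat.mul_div_cancel_left _ (pow_pos two_pos s)]
    exact hm
  have h7' := h7 ((a₁ * a₂) ^ (2 ^ s)) (M.pow_mem hgM _) d (hK₁M hd) hoddg hodd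
  have h8 : (π a₁ * π a₂) ^ (2 ^ s) * (π k₂ * π c) * ((π a₁ * π a₂) ^ (2 ^ s))⁻¹ =
      π k₂ * π c := by
    have h := (hπQ _).mpr h7'
    rw [map_mul, map_mul, map_mul, map_inv, map_inv, map_pow, map_mul, hf] at h
    exact mul_inv_eq_one.mp h
  have h9 := conj_pow_formula (π a₁) (π a₂) (π k₂) (π c) A1 A2 B1 B2 Cm (2 ^ s)
  rw [h8] at h9
  have hγ2 : π c ^ (2 * 2 ^ s) = 1 := by
    have : π k₂ * π c * 1 = π k₂ * π c * π c ^ (2 * 2 ^ s) := by rw [mul_one]; exact h9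
    exact (mul_left_cancel this).symm
  -- `π c` has odd order
  have hκ3 : π k₂ ^ 3 = 1 := hp₂ k₂ hk₂
  have hfN : π d ^ orderOf d = 1 := by rw [← map_pow, pow_orderOf_eq_one, map_one]
  have hcomm : Commute (π k₂)⁻¹ (π d) := by
    have h1 : Commute (π k₂) (π d) := by
      show π k₂ * π d = π d * π k₂
      rw [hf, mul_assoc, ← Cm]
    exact h1.inv_left
  have hγe : π c = (π k₂)⁻¹ * π d := by rw [hf]; group
  have hγodd : π c ^ (3 * orderOf d) = 1 := by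
    rw [hγe, hcomm.mul_pow, inv_pow, pow_mul, hκ3, one_pow, inv_one, one_mul, mul_comm 3,
      pow_mul, hfN, one_pow]
  have hcop : Nat.Coprime (2 * 2 ^ s) (3 * orderOf d) := by
    have h3 : Odd (3 * orderOf d) := Nat.odd_mul.mpr ⟨by decide, hodd⟩
    rw [← pow_succ']
    exact Nat.Coprime.pow_left _ (Nat.coprime_two_left.mpr h3)
  have hord : orderOf (π c) = 1 :=
    Nat.eq_one_of_dvd_coprimes hcop (orderOf_dvd_of_pow_eq_one hγ2)
      (orderOf_dvd_of_pow_eq_one hγodd)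
  exact orderOf_eq_one_iff.mp hord

/-- SP-INJ2. -/
theorem inj2 : StInj2.{u} := by
  intro X _ _ C Q M T₁ J₁ K₁ O₁ T₂ J₂ K₂ O₂ F₁ F₂ hO₁ hO₂ hKC₁ hKC₂ h7 hsup
  apply le_antisymm
  · exact inj2_le C Q M T₁ J₁ K₁ O₁ T₂ J₂ K₂ O₂ F₁ F₂ hO₁ hO₂ hKC₂ h7
      (hsup ▸ le_sup_left)
  · exact inj2_le C Q M T₂ J₂ K₂ O₂ T₁ J₁ K₁ O₁ F₂ F₁ hO₂ hO₁ hKC₁ h7
      (hsup.symm ▸ le_sup_left)

example : Cfsg.Agent.H37.Sp.StInj2.{u} := Cfsg.Agent.H61.Sp.inj2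

end Cfsg.Agent.H61.Sp

#print axioms Cfsg.Agent.H61.Sp.inj2
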