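import Cfsg.Agent.H61.TmExDefs
import Cfsg.Agent.H85.PtExDefs

/-!
# Bridge from helper61's `StModAll` (S5987-EXEVEN sub-tree) to helper85's `StModAllQ`
(S5973-EXEVEN sub-tree)
-/

set_option autoImplicit false

namespace Cfsg.Agent.H61.Tm

open Cfsg.Agent.H45 Cfsg.Agent.H42.Spd Cfsg.Agent.H42.Ti Cfsg.Agent.H77.Tq Cfsg.Agent.H77.Tm
  Module Polynomial

universe u

/-- helper85's `StModAllQ` from `StModAll` and the existence of an anisotropic binary form. -/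
theorem modAllQ (hAE : Cfsg.Agent.H85.PtEx.StAnisoEx.{u}) (hAll : StModAll.{u}) :
    Cfsg.Agent.H85.PtEx.StModAllQ.{u} := by
  intro F _ _ p _ _ r hr hr2 hrp hev Φs hΦ mult
  obtain ⟨a, b, hab⟩ := hAE F
  obtain ⟨V, i1, i2, i3, Q, g, hctx, hdim, hker, hφ⟩ :=
    hAll F p r hr hr2 hrp hev a b hab Φs hΦ mult
  exact ⟨V, i1, i2, i3, Q, g, hctx, hdim, Submodule.finrank_eq_zero.mp hker, hφ⟩

example (hAE : Cfsg.Agent.H85.PtEx.StAnisoEx.{u}) (hAll : StModAll.{u}) :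
    Cfsg.Agent.H85.PtEx.StModAllQ.{u} := modAllQ hAE hAll

end Cfsg.Agent.H61.Tm

#print axioms Cfsg.Agent.H61.Tm.modAllQ
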