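import Mathlib
import Cfsg.Agent.H81.TypePDefs
import Cfsg.Agent.H4.Induction
import Cfsg.Agent.H4.BrauerBasic
import Cfsg.Agent.H32.SNC
import Cfsg.Agent.H32.Signed

/-!
helper61: piece LINEQ of S1511 (helper81's project): in a cyclic TI family, `χ φ` is the
linear character `Λ` of `L` extending `φ`.
-/

set_option autoImplicit false
set_option linter.unusedSectionVars false
set_option linter.unusedVariables false
set_option linter.unusedSimpArgs false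

namespace Cfsg.Agent.H61.TyP

open Cfsg Cfsg.Agent.H4 Cfsg.Agent.H32
open scoped ComplexConjugate

universe u

/-- Piece LINEQ of S1511. -/
theorem linEq : Cfsg.Agent.H81.TyP.StmtLinEq.{u} := by
  intro L _ _ W₁ W₂ hSNC χ hχ φ ψ₁ ψ₂ hφ1 hφW₂ hψ₁1 hψ₂1 hψ12 hψ₁W₁ hψ₂W₁ Λ hΛ
  classical
  have : Fintype ↥(W₁ ⊔ W₂) := Fintype.ofFinite _
  obtain ⟨lam, hlam⟩ : ∃ lam : L → ℂ, lam = fun x => ((Λ x : ℂˣ) : ℂ) := ⟨_, rfl⟩
  have hlamIrr : IsIrrCharacter L lam := by rw [hlam]; exact isIrrCharacter_of_hom Λ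
  have hlamCF : IsClassFunction L lam :=
    isClassFunction_of_isCharacter (isCharacter_of_isIrrCharacter hlamIrr)
  obtain ⟨ΛI, hΛI⟩ : ∃ ΛI : IrrCharacter L, ΛI = ⟨lam, hlamIrr⟩ := ⟨_, rfl⟩
  have hΛIc : (ΛI : L → ℂ) = lam := by rw [hΛI]
  obtain ⟨c, hc⟩ : ∃ c : (↥(W₁ ⊔ W₂) →* ℂˣ) → ℂ, c = fun ω => classInner (χ ω) lam := ⟨_, rfl⟩
  -- signed decomposition
  have hsig : ∀ ω, ∃ (ε : ℝ) (μ : IrrCharacter L), (ε = 1 ∨ ε = -1) ∧
      χ ω = (ε : ℂ) • (μ : L → ℂ) := fun ω => signed_irr (hχ.irr_or_neg ω)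
  have hcval : ∀ ω (ε : ℝ) (μ : IrrCharacter L), χ ω = (ε : ℂ) • (μ : L → ℂ) →
      c ω = (ε : ℂ) * (if μ = ΛI then 1 else 0) := by
    intro ω ε μ h
    rw [hc]
    show classInner (χ ω) lam = _
    rw [h, classInner_smul_left, ← hΛIc, irr_inner]
  -- F2: at most one index with a nonzero product
  have F2 : ∀ ω ω', c ω ≠ 0 → c ω' ≠ 0 → ω = ω' := by
    intro ω ω' h h'
    obtain ⟨ε, μ, hε, e⟩ := hsig ω
    obtain ⟨ε', μ', hε', e'⟩ := hsig ω'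
    rw [hcval ω ε μ e] at h
    rw [hcval ω' ε' μ' e'] at h'
    have hμ : μ = ΛI := by
      by_contra hne
      rw [if_neg hne, mul_zero] at h
      exact h rfl
    have hμ' : μ' = ΛI := by
      by_contra hne
      rw [if_neg hne, mul_zero] at h'
      exact h' rfl
    have ho := hχ.orthonormal ω ω'
    rw [e, e', classInner_signed, hμ, hμ', if_pos rfl] at ho
    by_contra hne
    rw [if_neg hne] at ho
    have : (ε * ε' * 1 : ℝ) = 0 := by exact_mod_cast ho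
    rcases hε with rfl | rfl <;> rcases hε' with rfl | rfl <;> norm_num at this
  -- F3
  have F3 : ∀ ω, c ω = 1 → χ ω = lam := by
    intro ω h
    obtain ⟨ε, μ, hε, e⟩ := hsig ω
    rw [hcval ω ε μ e] at h
    have hμ : μ = ΛI := by
      by_contra hne
      rw [if_neg hne, mul_zero] at h
      exact zero_ne_one h
    rw [if_pos hμ, mul_one] at h
    have hε1 : ε = 1 := by exact_mod_cast h
    rw [e, hε1, hμ, hΛIc]
    simp
  -- restrictions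
  have hres : (fun h : ↥(W₁ ⊔ W₂) => lam h) = fun h => ((φ h : ℂˣ) : ℂ) := by
    funext h
    rw [hlam]
    show ((Λ (h : L) : ℂˣ) : ℂ) = _
    rw [hΛ h]
  have hΛ1 : (1 : L →* ℂˣ) ≠ Λ := by
    intro h
    apply hφ1
    ext w
    rw [← hΛ w, ← h]
    rfl
  have hone : classInner (fun _ : L => (1 : ℂ)) lam = 0 := by
    have := classInner_unitsHom (1 : L →* ℂˣ) Λ
    rw [if_neg hΛ1] at this
    rw [hlam]
    simpa using this
  -- a character trivial on both factors is trivial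
  have htriv : ∀ ω : ↥(W₁ ⊔ W₂) →* ℂˣ, (∀ w : ↥(W₁ ⊔ W₂), (w : L) ∈ W₁ → ω w = 1) →
      (∀ w : ↥(W₁ ⊔ W₂), (w : L) ∈ W₂ → ω w = 1) → ω = 1 := by
    intro ω h1 h2
    exact hom_eq_of_eqOn W₁ W₂ ω 1 (fun w hw => by rw [h1 w hw]; rfl)
      (fun w hw => by rw [h2 w hw]; rfl)
  have cancel : ∀ ψ : ↥(W₁ ⊔ W₂) →* ℂˣ, φ * ψ = φ → ψ = 1 := by
    intro ψ h
    ext w
    have h1 := DFunLike.congr_fun h w
    rw [MonoidHom.mul_apply] at h1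
    have h2 : ψ w = 1 := mul_eq_left.mp h1
    rw [h2]
    rfl
  -- F4
  have F4 : ∀ ψ : ↥(W₁ ⊔ W₂) →* ℂˣ, ψ ≠ 1 → (∀ w : ↥(W₁ ⊔ W₂), (w : L) ∈ W₁ → ψ w = 1) →
      c φ + c ψ - c (φ * ψ) = 1 := by
    intro ψ hψ1 hψW₁
    have hψφ : ψ ≠ φ := by
      intro h
      exact hψ1 (htriv ψ hψW₁ (fun w hw => by rw [h]; exact hφW₂ w hw))
    have hφψφ : φ * ψ ≠ φ := by
      intro h
      exact hψ1 (cancel ψ h)
    have hind := hχ.induced_eq φ ψ hφ1 hψ1 hφW₂ hψW₁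
    have h1 := frobenius_reciprocity (W₁ ⊔ W₂)
      (fun w : ↥(W₁ ⊔ W₂) => 1 - ((φ w : ℂˣ) : ℂ) - ((ψ w : ℂˣ) : ℂ)
        + ((φ w : ℂˣ) : ℂ) * ((ψ w : ℂˣ) : ℂ)) lam hlamCF
    rw [hind, hres] at h1
    have eL : (fun g : L => 1 - χ φ g - χ ψ g + χ (φ * ψ) g)
        = (fun _ : L => (1 : ℂ)) - χ φ - χ ψ + χ (φ * ψ) := rfl
    have eR : (fun w : ↥(W₁ ⊔ W₂) => 1 - ((φ w : ℂˣ) : ℂ) - ((ψ w : ℂˣ) : ℂ)
        + ((φ w : ℂˣ) : ℂ) * ((ψ w : ℂˣ) : ℂ))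
        = (fun w : ↥(W₁ ⊔ W₂) => (((1 : ↥(W₁ ⊔ W₂) →* ℂˣ) w : ℂˣ) : ℂ))
          - (fun w => ((φ w : ℂˣ) : ℂ)) - (fun w => ((ψ w : ℂˣ) : ℂ))
          + (fun w => (((φ * ψ) w : ℂˣ) : ℂ)) := by
      funext w
      simp
    rw [eL, eR, classInner_add_left, classInner_sub_left, classInner_sub_left,
      classInner_add_left, classInner_sub_left, classInner_sub_left,
      classInner_unitsHom, classInner_unitsHom, classInner_unitsHom, classInner_unitsHom,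
      if_neg (Ne.symm hφ1), if_pos rfl, if_neg hψφ, if_neg hφψφ, hone] at h1
    rw [hc]
    show classInner (χ φ) lam + classInner (χ ψ) lam - classInner (χ (φ * ψ)) lam = 1
    linear_combination -h1
  have hψ₁φ : ψ₁ ≠ φ := by
    intro h
    exact hψ₁1 (htriv ψ₁ hψ₁W₁ (fun w hw => by rw [h]; exact hφW₂ w hw))
  have hφψ₁φ : φ * ψ₁ ≠ φ := by
    intro h
    exact hψ₁1 (cancel ψ₁ h)
  have e1 := F4 ψ₁ hψ₁1 hψ₁W₁
  have e2 := F4 ψ₂ hψ₂1 hψ₂W₁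
  have hcφ : c φ ≠ 0 := by
    intro h0
    rw [h0, zero_add] at e1 e2
    -- one of ψ₁, φψ₁ and one of ψ₂, φψ₂ is nonzero
    have hφW₁ : ∀ ψ ψ' : ↥(W₁ ⊔ W₂) →* ℂˣ, (∀ w : ↥(W₁ ⊔ W₂), (w : L) ∈ W₁ → ψ w = 1) →
        (∀ w : ↥(W₁ ⊔ W₂), (w : L) ∈ W₁ → ψ' w = 1) → ψ ≠ φ * ψ' := by
      intro ψ ψ' hψ hψ' h
      apply hφ1
      apply htriv φ _ hφW₂
      intro w hw
      have := DFunLike.congr_fun h w
      rw [MonoidHom.mul_apply, hψ w hw, hψ' w hw, mul_one] at this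
      exact this.symm
    have n1 : c ψ₁ ≠ 0 ∨ c (φ * ψ₁) ≠ 0 := by
      by_contra hh
      push Not at hh
      rw [hh.1, hh.2] at e1
      norm_num at e1
    have n2 : c ψ₂ ≠ 0 ∨ c (φ * ψ₂) ≠ 0 := by
      by_contra hh
      push Not at hh
      rw [hh.1, hh.2] at e2
      norm_num at e2
    rcases n1 with n1 | n1 <;> rcases n2 with n2 | n2
    · exact hψ12 (F2 _ _ n1 n2)
    · exact hφW₁ ψ₁ ψ₂ hψ₁W₁ hψ₂W₁ (F2 _ _ n1 n2)
    · exact hφW₁ ψ₂ ψ₁ hψ₂W₁ hψ₁W₁ (F2 _ _ n2 n1)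
    · exact hψ12 (mul_left_cancel (F2 _ _ n1 n2))
  have z1 : c ψ₁ = 0 := by
    by_contra h
    exact hψ₁φ (F2 _ _ h hcφ)
  have z2 : c (φ * ψ₁) = 0 := by
    by_contra h
    exact hφψ₁φ (F2 _ _ h hcφ)
  rw [z1, z2, add_zero, sub_zero] at e1
  rw [F3 φ e1, hlam]

end Cfsg.Agent.H61.TyP
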