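import Mathlib
import Cfsg.Agent.H91.U62Defs

set_option autoImplicit false

/-!
# S5452 (helper91's project), piece EA3 (helper61): the abstract central-extension argument
-/

namespace Cfsg.Agent.H61.U62

open Cfsg.Agent.H91.U62 Subgroup

universe u v w

/-- **S5452-EA3**. -/
theorem ea3 : Ea3Stmt.{u, v, w} := by
  intro D _ Gb _ ρ hsurj hker hexp ι p hcomm hinv hfus1 hfus2 htriple hsix y hy
  classical
  choose P hP using fun i => hsurj (p i)
  have hZc : ∀ z ∈ ρ.ker, ∀ g : D, g * z = z * g := by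
    intro z hz g
    exact (Subgroup.mem_center_iff.1 (hker hz)) g
  have hm : ∀ m k : D, k ∈ ρ.ker → (m * k) * (m * k) = m * m := by
    intro m k hk
    have h1 : k * m = m * k := (hZc k hk m).symm
    calc (m * k) * (m * k) = m * (k * m) * k := by simp only [mul_assoc]
      _ = m * (m * k) * k := by rw [h1]
      _ = (m * m) * (k * k) := by simp only [mul_assoc]
      _ = m * m := by rw [hexp k hk, mul_one]
  have F1 : ∀ a b : D, a * a ∈ ρ.ker → IsConj (ρ a) (ρ b) → b * b = a * a := by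
    intro a b ha hab
    obtain ⟨g, hg⟩ := isConj_iff.1 hab
    obtain ⟨n, rfl⟩ := hsurj g
    have hkmem : (n * a * n⁻¹)⁻¹ * b ∈ ρ.ker := by
      rw [MonoidHom.mem_ker, map_mul, map_inv, map_mul, map_mul, map_inv, hg, inv_mul_cancel]
    obtain ⟨k, hk, hb⟩ : ∃ k ∈ ρ.ker, b = n * a * n⁻¹ * k := ⟨_, hkmem, by group⟩
    rw [hb, hm _ _ hk]
    calc n * a * n⁻¹ * (n * a * n⁻¹) = n * (a * a) * n⁻¹ := by group
      _ = (a * a) * n * n⁻¹ := by rw [hZc (a * a) ha n]
      _ = a * a := by group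
  have F2 : ∀ a b c : D, c ∈ ρ.ker → a * b = c * (b * a) →
      (a * b) * (a * b) = c * ((a * a) * (b * b)) := by
    intro a b c hc h
    have hc2 := hexp c hc
    have hba : b * a = c * (a * b) := by rw [h, ← mul_assoc, hc2, one_mul]
    have hac : a * c = c * a := hZc c hc a
    calc (a * b) * (a * b) = a * (b * a) * b := by simp only [mul_assoc]
      _ = a * (c * (a * b)) * b := by rw [hba]
      _ = (a * c) * (a * b) * b := by simp only [mul_assoc]
      _ = (c * a) * (a * b) * b := by rw [hac]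
      _ = c * ((a * a) * (b * b)) := by simp only [mul_assoc]
  have F3 : ∀ u s t e e' : D, e ∈ ρ.ker → e' ∈ ρ.ker → u * s = e * (s * u) →
      u * t = e' * (t * u) → u * (s * t) = (e * e') * ((s * t) * u) := by
    intro u s t e e' he he' h1 h2
    have hse : s * e' = e' * s := hZc e' he' s
    calc u * (s * t) = (u * s) * t := by simp only [mul_assoc]
      _ = e * (s * u) * t := by rw [h1]
      _ = e * s * (u * t) := by simp only [mul_assoc]
      _ = e * s * (e' * (t * u)) := by rw [h2]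
      _ = e * (s * e') * (t * u) := by simp only [mul_assoc]
      _ = e * (e' * s) * (t * u) := by rw [hse]
      _ = (e * e') * ((s * t) * u) := by simp only [mul_assoc]
  obtain ⟨i₀, j₀, k₀, hij, hki, hkj, hconj3⟩ := htriple
  have hPP : ∀ i, P i * P i ∈ ρ.ker := by
    intro i
    rw [MonoidHom.mem_ker, map_mul, hP, hinv]
  have hcommker : ∀ a b : D, Commute (ρ a) (ρ b) → a * b * a⁻¹ * b⁻¹ ∈ ρ.ker := by
    intro a b h
    rw [MonoidHom.mem_ker, map_mul, map_mul, map_mul, map_inv, map_inv, h.eq]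
    group
  have hrel : ∀ a b : D, a * b = (a * b * a⁻¹ * b⁻¹) * (b * a) := by
    intro a b
    group
  have hPPij : ∀ i j, (P i * P j) * (P i * P j) ∈ ρ.ker := by
    intro i j
    rw [MonoidHom.mem_ker, map_mul, map_mul, hP, hP]
    calc p i * p j * (p i * p j) = p i * (p j * p i) * p j := by simp only [mul_assoc]
      _ = p i * (p i * p j) * p j := by rw [(hcomm j i).eq]
      _ = (p i * p i) * (p j * p j) := by simp only [mul_assoc]
      _ = 1 := by rw [hinv, hinv, one_mul]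
  obtain ⟨c₁, hc₁⟩ : ∃ c, c = P i₀ * P i₀ := ⟨_, rfl⟩
  obtain ⟨c₂, hc₂⟩ : ∃ c, c = (P i₀ * P j₀) * (P i₀ * P j₀) := ⟨_, rfl⟩
  have hc₁ker : c₁ ∈ ρ.ker := hc₁ ▸ hPP i₀
  have hc₂ker : c₂ ∈ ρ.ker := hc₂ ▸ hPPij i₀ j₀
  have hq1 : ∀ i, P i * P i = c₁ := by
    intro i
    rw [hc₁]
    exact F1 (P i₀) (P i) (hPP i₀) (by rw [hP, hP]; exact hfus1 i₀ i)
  have hq2 : ∀ i j, p i ≠ p j → (P i * P j) * (P i * P j) = c₂ := by
    intro i j hne
    rw [hc₂]
    exact F1 (P i₀ * P j₀) (P i * P j) (hPPij i₀ j₀)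
      (by rw [map_mul, map_mul, hP, hP, hP, hP]; exact hfus2 i₀ j₀ i j hij hne)
  have hc₁c₁ : c₁ * c₁ = 1 := hexp c₁ hc₁ker
  have hc₂c₂ : c₂ * c₂ = 1 := hexp c₂ hc₂ker
  have hR : ∀ i j, p i ≠ p j → P i * P j = c₂ * (P j * P i) := by
    intro i j hne
    have hd := hcommker (P i) (P j) (by rw [hP, hP]; exact hcomm i j)
    have h1 := F2 (P i) (P j) _ hd (hrel (P i) (P j))
    rw [hq2 i j hne, hq1, hq1, hc₁c₁, mul_one] at h1
    rw [h1]
    exact hrel (P i) (P j)
  have hc₁one : c₁ = 1 := by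
    have hab : (P i₀ * P j₀) * P k₀ = 1 * (P k₀ * (P i₀ * P j₀)) := by
      have h1 := hR k₀ i₀ hki
      have h2 := hR k₀ j₀ hkj
      have h3 := F3 (P k₀) (P i₀) (P j₀) c₂ c₂ hc₂ker hc₂ker h1 h2
      rw [hc₂c₂, one_mul] at h3
      rw [one_mul, h3]
    have h4 := F2 (P i₀ * P j₀) (P k₀) 1 (one_mem _) hab
    rw [one_mul] at h4
    have h5 := F1 (P i₀ * P j₀) (P i₀ * P j₀ * P k₀) (hPPij i₀ j₀) (by
      rw [map_mul, map_mul, map_mul, hP, hP, hP]
      exact hconj3.symm)
    rw [h5, hq1 k₀] at h4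
    exact (mul_left_cancel (a := (P i₀ * P j₀) * (P i₀ * P j₀)) (by rw [mul_one]; exact h4)).symm
  obtain ⟨i₁, i₂, i₃, i₄, i₅, i₆, hprod, h61, h62, h63, h64, h65⟩ := hsix
  have hc₂one : c₂ = 1 := by
    have e1 := hR i₆ i₁ h61
    have e2 := hR i₆ i₂ h62
    have e3 := hR i₆ i₃ h63
    have e4 := hR i₆ i₄ h64
    have e5 := hR i₆ i₅ h65
    have f2 := F3 _ _ _ _ _ hc₂ker hc₂ker e1 e2
    rw [hc₂c₂] at f2
    have f3 := F3 _ _ _ _ _ (one_mem _) hc₂ker f2 e3
    rw [one_mul] at f3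
    have f4 := F3 _ _ _ _ _ hc₂ker hc₂ker f3 e4
    rw [hc₂c₂] at f4
    have f5 := F3 _ _ _ _ _ (one_mem _) hc₂ker f4 e5
    rw [one_mul] at f5
    have hPi5 : P i₁ * P i₂ * P i₃ * P i₄ * P i₅ ∈ ρ.ker := by
      rw [MonoidHom.mem_ker]
      simp only [map_mul, hP]
      exact hprod
    have hcen := hZc _ hPi5 (P i₆)
    rw [hcen] at f5
    exact (mul_right_cancel (b := (P i₁ * P i₂ * P i₃ * P i₄ * P i₅) * P i₆)
      (by rw [one_mul]; exact f5)).symm
  have hPinv : ∀ i, P i * P i = 1 := fun i => by rw [hq1, hc₁one]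
  have hPcomm : ∀ i j, P i * P j = P j * P i := by
    intro i j
    by_cases hne : p i = p j
    · have hk : (P i)⁻¹ * P j ∈ ρ.ker := by
        rw [MonoidHom.mem_ker, map_mul, map_inv, hP, hP, hne, inv_mul_cancel]
      have h1 := hZc _ hk (P i)
      calc P i * P j = P i * (P i * ((P i)⁻¹ * P j)) := by group
        _ = P i * (((P i)⁻¹ * P j) * P i) := by rw [h1]
        _ = P j * P i := by group
    · have h2 := hR i j hne
      rw [hc₂one, one_mul] at h2
      exact h2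
  have hcl_comm : ∀ s ∈ closure (Set.range P), ∀ t ∈ closure (Set.range P), s * t = t * s := by
    intro s hs t ht
    have hk : ∀ x ∈ Set.range P, ∀ y ∈ Set.range P, x * y = y * x := by
      rintro x ⟨i, rfl⟩ y ⟨j, rfl⟩
      exact hPcomm i j
    have h3 := (Subgroup.isMulCommutative_closure hk).is_comm.comm ⟨s, hs⟩ ⟨t, ht⟩
    exact congrArg Subtype.val h3
  have hcl_sq : ∀ t ∈ closure (Set.range P), t * t = 1 := by
    intro t ht
    induction ht using Subgroup.closure_induction with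
    | mem x hx =>
      obtain ⟨i, rfl⟩ := hx
      exact hPinv i
    | one => simp
    | mul x y hx hy ihx ihy =>
      calc x * y * (x * y) = x * (y * x) * y := by simp only [mul_assoc]
        _ = x * (x * y) * y := by rw [hcl_comm y hy x hx]
        _ = (x * x) * (y * y) := by simp only [mul_assoc]
        _ = 1 := by rw [ihx, ihy, one_mul]
    | inv x hx ihx =>
      have h4 : x⁻¹ = x := inv_eq_of_mul_eq_one_left ihx
      rw [h4, ihx]
  have hmap : closure (Set.range p) = (closure (Set.range P)).map ρ := by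
    rw [MonoidHom.map_closure, ← Set.range_comp]
    congr 2
    funext i
    exact (hP i).symm
  rw [hmap] at hy
  obtain ⟨t, ht, hty⟩ := hy
  have hk : t⁻¹ * y ∈ ρ.ker := by
    rw [MonoidHom.mem_ker, map_mul, map_inv, hty, inv_mul_cancel]
  obtain ⟨k, hk', hyk⟩ : ∃ k ∈ ρ.ker, y = t * k := ⟨t⁻¹ * y, hk, by group⟩
  rw [hyk, hm t k hk', hcl_sq t ht]

end Cfsg.Agent.H61.U62
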