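import Mathlib
import Cfsg.Agent.H74.W2PDefs
import Cfsg.Agent.H61.W2PBase

set_option autoImplicit false
set_option linter.unusedSectionVars false

/-!
# S0720 (Wielandt, degree 2p), sub-piece LA10-TT (helper61): rank at most 2 gives 2-transitivity
-/

namespace Cfsg.Agent.H61.W2P

open Cfsg.Agent.H74.W2P Equiv MulAction

variable {Ω : Type*} [Fintype Ω] [DecidableEq Ω]

/-- **S0720-LA10-TT**. -/
theorem two_trans_of_rank_le_two {G : Subgroup (Perm Ω)} (hG : IsPretransitive G Ω) (a₀ : Ω)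
    (hr : Nat.card (orbitRel.Quotient (stabilizer G a₀) Ω) ≤ 2) :
    IsMultiplyPretransitive G Ω 2 := by
  classical
  have hH : ∀ b c : Ω, b ≠ a₀ → c ≠ a₀ → ∃ g ∈ G, g a₀ = a₀ ∧ g b = c := by
    intro b c hb hc
    by_contra hcon
    let mk : Ω → orbitRel.Quotient (stabilizer G a₀) Ω := fun ω => Quotient.mk'' ω
    have hmk : ∀ ω ω', mk ω = mk ω' ↔ ∃ g ∈ G, g a₀ = a₀ ∧ g ω' = ω := fun ω ω' =>
      (mk_eq_iff G a₀ ω ω').trans (mem_orbit_stab_iff G a₀ ω ω')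
    have h1 : mk b ≠ mk a₀ := by
      rw [Ne, hmk]
      rintro ⟨g, -, hga, hgb⟩
      exact hb (hgb.symm.trans hga)
    have h2 : mk c ≠ mk a₀ := by
      rw [Ne, hmk]
      rintro ⟨g, -, hga, hgc⟩
      exact hc (hgc.symm.trans hga)
    have h3 : mk c ≠ mk b := by
      rw [Ne, hmk]
      exact hcon
    have hfin : Fintype (orbitRel.Quotient (stabilizer G a₀) Ω) := Fintype.ofFinite _
    have h4 : 3 ≤ Nat.card (orbitRel.Quotient (stabilizer G a₀) Ω) := by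
      rw [Nat.card_eq_fintype_card]
      have h5 : ({mk a₀, mk b, mk c} : Finset (orbitRel.Quotient (stabilizer G a₀) Ω)).card
          = 3 := Finset.card_eq_three.2 ⟨_, _, _, h1.symm, h2.symm, h3.symm, rfl⟩
      rw [← h5]
      exact Finset.card_le_univ _
    omega
  rw [is_two_pretransitive_iff]
  intro a b c d hab hcd
  obtain ⟨g₁, hg₁⟩ := hG.exists_smul_eq a a₀
  obtain ⟨g₂, hg₂⟩ := hG.exists_smul_eq c a₀
  have hg₁' : (g₁ : Perm Ω) a = a₀ := hg₁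
  have hg₂' : (g₂ : Perm Ω) c = a₀ := hg₂
  have hb' : (g₁ : Perm Ω) b ≠ a₀ := by
    intro h
    exact hab ((g₁ : Perm Ω).injective (hg₁'.trans h.symm))
  have hd' : (g₂ : Perm Ω) d ≠ a₀ := by
    intro h
    exact hcd ((g₂ : Perm Ω).injective (hg₂'.trans h.symm))
  obtain ⟨s, hs, hsa, hsb⟩ := hH _ _ hb' hd'
  refine ⟨g₂⁻¹ * ⟨s, hs⟩ * g₁, ?_, ?_⟩
  · show ((g₂ : Perm Ω)⁻¹ * s * (g₁ : Perm Ω)) a = c
    rw [Perm.mul_apply, Perm.mul_apply, hg₁', hsa, Perm.inv_eq_iff_eq]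
    exact hg₂'.symm
  · show ((g₂ : Perm Ω)⁻¹ * s * (g₁ : Perm Ω)) b = d
    rw [Perm.mul_apply, Perm.mul_apply, hsb, Perm.inv_eq_iff_eq]

end Cfsg.Agent.H61.W2P
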